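import Cfsg.Agent.AI.Stmt
import Cfsg.Agent.MW.E

/-! Alperin's fusion theorem for groups with abelian Sylow intersections. -/

set_option autoImplicit false
set_option linter.unusedVariables false
set_option linter.unusedSectionVars false

namespace AI

open Cfsg Subgroup FT H4 H5 GW L
open M4 (SC)
open MW (Om mem_Om Om_nor Om_le Om_el Om_cen)

universe u

variable {G : Type*} [Group G] [Finite G] {S P Q T U V L A : Subgroup G} {w : G → Prop} {g x y : G}

/-- conjugation by `g` preserves `w` on `P` -/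
def Iv (w : G → Prop) (P : Subgroup G) (g : G) : Prop := ∀ x ∈ P, w x ↔ w (g * x * g⁻¹)

theorem Iv.mono (h : Iv w Q g) (e : P ≤ Q) : Iv w P g := fun x hx => h x (e hx)

theorem Iv.mul (h : Iv w P y) (hy : y ∈ Nor P) (h' : Iv w P x) : Iv w P (x * y) := fun a ha => by
  rw [h a ha, h' _ (cmem hy ha)]
  simp only [mul_assoc, mul_inv_rev]

theorem iv_cen (h : g ∈ Cen P) : Iv w P g := fun a ha => by
  rw [GW.cen.1 h a ha, mul_inv_cancel_right]

theorem conj_nor (g : G) (P : Subgroup G) : conjS g (Nor P) = Nor (conjS g P) :=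
  conjS_normalizer g P

theorem alp (hS : IsSylowOf 2 S ⊤)
    (step : ∀ P ≤ S, IsSylowOf 2 (S ⊓ Nor P) (Nor P) → (∀ (Q : Subgroup G) g,
      Nat.card P < Nat.card Q → Q ≤ S → conjS g Q ≤ S → Iv w Q g) → ∀ n ∈ Nor P, Iv w P n)
    (P : Subgroup G) : ∀ g, P ≤ S → conjS g P ≤ S → Iv w P g := by
  induction hn : Nat.card G - Nat.card P using Nat.strong_induction_on generalizing P with
  | _ n ih =>
  intro g h1 h2
  have ih' : ∀ (Q : Subgroup G) g, Nat.card P < Nat.card Q → Q ≤ S → conjS g Q ≤ S → Iv w Q g :=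
    fun Q g e => ih _ (by have := Q.card_le_card_group; omega) Q rfl g
  rcases h1.eq_or_lt with rfl | lt
  · refine step P le_rfl ?_ ih' g (mem_normalizer_of_conjS_le h2)
    rw [inf_eq_left.2 le_normalizer]
    exact hS.of_le le_normalizer le_top
  have two := hS.isPGroup
  obtain ⟨T, hT, e1⟩ := exists_isSylowOf_ge (two.to_inf_left (K := Nor P)) inf_le_right
  obtain ⟨k, -, e2⟩ := hS.exists_conj_le hT.isPGroup le_top
  have hT' : IsSylowOf 2 (conjS k T) (Nor (conjS k P)) := by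
    rw [← conj_nor]; exact hT.map _
  have e3 : S ⊓ Nor (conjS k P) = conjS k T :=
    hT'.eq_of_le two.to_inf_left (le_inf e2 hT'.le) inf_le_right
  have l1 := card_lt_of_lt (lt_inf_normalizer_of_isPGroup two lt)
  have l2 : Nat.card P < Nat.card (S ⊓ Nor (conjS g P) : Subgroup G) := by
    rw [← card_conjS g P]
    exact card_lt_of_lt (lt_inf_normalizer_of_isPGroup two (lt_of_le_of_ne h2 fun e => by
      have := card_lt_of_lt lt
      rw [← e, card_conjS] at this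
      omega))
  have e4 : conjS (k * g⁻¹) (conjS g P) = conjS k P := by rw [conjS_conjS]; simp
  obtain ⟨m, hm, e5⟩ := hT'.exists_conj_le (Q := conjS (k * g⁻¹) (S ⊓ Nor (conjS g P)))
    (two.to_inf_left.map _)
    (e4 ▸ (conjS_mono _ inf_le_right).trans (conj_nor (k * g⁻¹) (conjS g P)).le)
  have PT : P ≤ S ⊓ Nor P := le_inf h1 le_normalizer
  have i1 := (ih' _ k l1 inf_le_left (le_trans (conjS_mono k e1) e2)).mono PT
  have i2 := step _ (le_trans (conjS_mono k (PT.trans e1)) e2) (by rw [e3]; exact hT')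
    (by rw [card_conjS]; exact ih') m hm
  have i3 := (ih' _ (m * (k * g⁻¹)) l2 inf_le_left (by
    rw [← conjS_conjS]; exact le_trans e5 e2)).mono (le_inf h2 le_normalizer)
  intro a ha
  rw [i1 a ha, i2 _ (conj_mem_conjS ha), i3 _ (conj_mem_conjS ha)]
  simp only [mul_assoc, mul_inv_rev, inv_mul_cancel_left, inv_inv]

/-- essential subgroups -/
structure Ess (S P : Subgroup G) : Prop where
  le : P ≤ S
  ab : P ≤ Cen P
  cen : S ⊓ Cen (Om P) ≤ P
  syl : IsSylowOf 2 (S ⊓ Nor P) (Nor P)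
  nn : ¬ Nor P ≤ Nor (S ⊓ Nor P ⊔ Cen P : Subgroup G)

/-- the centralizer of `Ω₁(P)` in `N(P)` -/
theorem cen_Om (two : IsPGroup 2 P) (ab : P ≤ Cen P)
    (hT : IsSylowOf 2 T (Nor P ⊓ Cen (Om P))) : Nor P ⊓ Cen (Om P) ≤ Cen P ⊔ T :=
  M4.le_of_odd hT le_sup_right fun y hy o => mem_sup_left (cen_iff_le.2 (MW.ca3 o two ab hy.1
    fun a ha aa => c1.2 (GW.cen.1 hy.2 a (mem_Om.2 ⟨ha, aa, ab ha⟩)).symm))

theorem alpA (h : AbI (⊤ : Subgroup G)) (hS : IsSylowOf 2 S ⊤) (h1 : ∀ n ∈ Nor S, Iv w S n)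
    (h2 : ∀ P, Ess S P → ∀ n ∈ Nor P, Iv w P n) (hx : x ∈ S) (hg : g * x * g⁻¹ ∈ S) :
    w x ↔ w (g * x * g⁻¹) := by
  refine alp hS (fun P PS sy ih n hn => ?_) (zpowers x) g (zpowers_le.2 hx)
    (by rw [W.conj_zp]; exact zpowers_le.2 hg) x (mem_zpowers x)
  by_cases ab : P ≤ Cen P
  swap
  · exact (h1 n (h.nor hS PS ab ⟨trivial, hn⟩)).mono PS
  have two := hS.isPGroup.to_le PS
  have PT : P ≤ S ⊓ Nor P := le_inf PS le_normalizer
  have key : ∀ R : Subgroup G, P < R → R ≤ S ⊓ Nor P → ∀ m ∈ Nor R, Iv w P m := fun R lt e m hm =>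
    (ih R m (card_lt_of_lt lt) (e.trans inf_le_left)
      ((mem_normalizer_iff_conjS.1 hm).le.trans (e.trans inf_le_left))).mono lt.le
  have nC : Nor P ≤ Nor (Nor P ⊓ Cen (Om P) : Subgroup G) :=
    ninf le_normalizer (Om_nor.trans fun _ => mcen)
  have s0 := sy.inf_of_le_normalizer inf_le_left (inf_le_right.trans nC)
  have iS : ∀ s ∈ S, Iv w P s := fun s hs => (h1 s (le_normalizer hs)).mono PS
  have P0 : P ≤ S ⊓ Nor P ⊓ (Nor P ⊓ Cen (Om P)) :=
    le_inf PT (le_inf le_normalizer (ab.trans (centralizer_anti Om_le)))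
  have iC : ∀ c ∈ Nor P ⊓ Cen (Om P), Iv w P c := fun c hc => by
    obtain ⟨a, ha, t, ht, rfl⟩ := (mem_sup_of_le_normalizer_left ((inf_le_left.trans inf_le_right).trans
      fun _ => mcen)).1 (cen_Om two ab s0 hc)
    exact (iS t ht.1.1).mul ht.1.2 (iv_cen ha)
  rcases P0.eq_or_lt with e | lt
  swap
  · obtain ⟨c, hc, e⟩ := s0.frattini (nC hn)
    rw [show n = c * (c⁻¹ * n) by simp]
    exact (key _ lt inf_le_left _ e).mul (mul_mem (inv_mem hc.1) hn) (iC c hc)
  by_cases nn : Nor P ≤ Nor (S ⊓ Nor P ⊔ Cen P : Subgroup G)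
  · rcases PS.eq_or_lt with rfl | lt
    · exact h1 n hn
    have l : S ⊓ Nor P ⊔ Cen P ≤ Nor P := sup_le inf_le_right (cnor le_rfl)
    obtain ⟨c, hc, e⟩ := (sy.of_le le_sup_left l).frattini (nn hn)
    rw [show n = c * (c⁻¹ * n) by simp]
    refine (key _ (lt_inf_normalizer_of_isPGroup hS.isPGroup lt) le_rfl _ e).mul
      (mul_mem (inv_mem (l hc)) hn) ?_
    rw [sup_comm] at hc
    obtain ⟨a, ha, t, ht, rfl⟩ := (mem_sup_of_le_normalizer_left (inf_le_right.trans
      fun _ => mcen)).1 hc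
    exact (iS t ht.1).mul ht.2 (iv_cen ha)
  refine h2 P ⟨PS, ab, ?_, sy, nn⟩ n hn
  by_contra c
  have l : P ≤ S ⊓ Cen (Om P) := le_inf PS (ab.trans (centralizer_anti Om_le))
  exact (lt_inf_normalizer_of_isPGroup hS.isPGroup.to_inf_left (lt_of_le_not_ge l c)).not_ge
    (le_trans (le_inf (inf_le_inf_right _ inf_le_left) (le_inf inf_le_right
      (inf_le_left.trans inf_le_right))) e.ge)

end AI
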