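import Cfsg.Agent.AI.Main
import Cfsg.Agent.MW.F

/-! Abelian intersections, a strongly closed central four-group: tools for the nonabelian case. -/

set_option autoImplicit false
set_option linter.unusedSectionVars false
set_option linter.unusedVariables false

namespace AI

open Cfsg Subgroup FT H4 GW W
open H5 (IsSylowOf im pre)
open M4 (SC)

universe u

variable {G : Type u} [Group G] [Finite G] {H K S A B Z R T Q : Subgroup G} {w t v x : G}

theorem constr_of (h : ∀ K, ¬ PCompIn 2 H K) : IsPConstrained 2 H := by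
  rw [H5.isPConstrained_iff, ← gfit_eq_pCore_iff_centralizer, gfit_eq_pCore_iff]
  refine ⟨?_, pPrimeCore_quotient_pPrimeCore 2 _⟩
  rw [← map_pLayer_mk', pLayerIn_eq_bot_iff.1 (eq_bot_iff.2 (by
    rw [pLayerIn_eq_sSup]; exact sSup_le fun K hK => (h K hK).elim)), Subgroup.map_bot]

theorem fib20 (h : Ly.U34 S Z)
    (one : ∀ a ∈ Z, a ≠ 1 → ∀ b ∈ Z, b ≠ 1 → ∃ n ∈ Nor S, n * a * n⁻¹ = b) (ht : t ∈ Z)
    (t1 : t ≠ 1) : {x | x ∈ S ∧ x * x = t}.ncard = 20 := by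
  have k : ∀ a ∈ Z, a ≠ 1 → {x | x ∈ S ∧ x * x = a}.ncard = {x | x ∈ S ∧ x * x = t}.ncard := by
    intro a ha a1
    obtain ⟨n, hn, e⟩ := one a ha a1 t ht t1
    refine Set.ncard_congr (fun x _ => n * x * n⁻¹) (fun x hx => ⟨cmem hn hx.1, ?_⟩)
      (fun x y _ _ e => mul_left_cancel (mul_right_cancel e)) fun y hy =>
        ⟨n⁻¹ * y * n, ⟨cmem' hn hy.1, ?_⟩, by group⟩
    · rw [conj_mul, hx.2, e]
    · rw [show n⁻¹ * y * n * (n⁻¹ * y * n) = n⁻¹ * (y * y) * n by group, hy.2, ← e]; group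
  obtain ⟨u, hu, u1, hut⟩ := h.exists_two ht
  have e : (S : Set G) = (Z : Set G) ∪ {x | x ∈ S ∧ x * x = t} ∪ {x | x ∈ S ∧ x * x = u} ∪
      {x | x ∈ S ∧ x * x = t * u} := by
    ext x
    simp only [Set.mem_union, SetLike.mem_coe, h.mem, Set.mem_ofPred_eq]
    refine ⟨fun hx => ?_, by tauto⟩
    have := h.cases ht t1 hu u1 hut (h.sq x hx)
    tauto
  have n1 := h.mul_ne hu hut
  have n2 : t * u ≠ t := by simpa using u1
  have n3 : t * u ≠ u := by simpa using t1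
  have c1 : (S : Set G).ncard = 64 := h.card
  have c2 : (Z : Set G).ncard = 4 := h.cardZ
  rw [e, Set.ncard_union_eq, Set.ncard_union_eq, Set.ncard_union_eq, c2, k u hu u1,
    k _ (mul_mem ht hu) n1] at c1
  · omega
  all_goals
    rw [Set.disjoint_left]
    intro x hx hx'
    simp only [Set.mem_union, SetLike.mem_coe, h.mem, Set.mem_ofPred_eq] at hx hx'
  · exact t1 (hx'.2.symm.trans hx.2)
  · rcases hx with hx | hx
    exacts [u1 (hx'.2.symm.trans hx.2), hut (hx'.2.symm.trans hx.2)]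
  · rcases hx with (hx | hx) | hx
    exacts [n1 (hx'.2.symm.trans hx.2), n2 (hx'.2.symm.trans hx.2), n3 (hx'.2.symm.trans hx.2)]

/-- an element of odd order centralizing the centre acts irreducibly on the central quotient -/
theorem irr34 (h : Ly.U34 S Z)
    (one : ∀ a ∈ Z, a ≠ 1 → ∀ b ∈ Z, b ≠ 1 → ∃ n ∈ Nor S, n * a * n⁻¹ = b)
    (wo : Odd (orderOf w)) (wn : w ∈ Nor S) (wz : w ∈ Cen Z) (wc : w ∉ Cen S) (h1 : Z ≤ B)
    (h2 : B ≤ S) (wB : w ∈ Nor B) (ne : ¬ B ≤ Z) : B = S := by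
  let f := S.normalizerMonoidHom
  have k : ∀ j : ℕ, w ^ j ∈ Cen S ↔ f ⟨w, wn⟩ ^ j = 1 := fun j => by
    rw [← map_pow, ← MonoidHom.mem_ker, normalizerMonoidHom_ker, mem_subgroupOf]; rfl
  obtain ⟨p, hp, m, hm⟩ := Nat.exists_prime_and_dvd (n := orderOf (f ⟨w, wn⟩)) fun e =>
    wc (by simpa using (k 1).mpr (by simpa using e))
  have pos := orderOf_pos (f ⟨w, wn⟩)
  have m0 : 0 < m := Nat.pos_of_ne_zero fun e => by rw [hm, e] at pos; omega
  have v1 : w ^ m ∉ Cen S := fun e => by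
    have := Nat.le_of_dvd m0 (orderOf_dvd_of_pow_eq_one ((k m).mp e))
    have := hp.two_le
    nlinarith
  have vp : (w ^ m) ^ p ∈ Cen S := by rw [← pow_mul, k, mul_comm, ← hm, pow_orderOf_eq_one]
  have po : Odd p := wo.of_dvd_nat ((Dvd.intro _ hm.symm).trans
    ((orderOf_map_dvd f _).trans (by rw [← orderOf_coe])))
  have fr : ∀ x ∈ S, x ∉ Z → w ^ m * x * (w ^ m)⁻¹ ≠ x := fun x hx x1 e =>
    v1 (h.semireg ((M4.odd_reg.1 wo).pow m) (pow_mem wn m) (pow_mem wz m) hx x1 (by simp [e]))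
  have fx : ∀ x ∈ S, (w ^ m) ^ p * x * ((w ^ m) ^ p)⁻¹ = x := fun x hx => by
    rw [GW.cen.mp vp x hx, mul_inv_cancel_right]
  obtain ⟨t, ht, t1⟩ := h.exists_ne
  have d := Ly.dvd_ncard (A := {x | x ∈ S ∧ x * x = t}) hp (fun x hx => ⟨cmem (pow_mem wn m) hx.1,
    by rw [conj_mul, hx.2, GW.cen.1 (pow_mem wz m) t ht, mul_inv_cancel_right]⟩)
    (fun x hx => fx x hx.1) fun x hx => fr x hx.1 fun c => t1 (hx.2 ▸ h.zz c)
  rw [fib20 h one ht t1] at d
  obtain rfl : p = 5 := by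
    have := Nat.le_of_dvd (by norm_num) d
    interval_cases p <;> simp_all (decide := true)
  have d2 := Ly.dvd_ncard (A := (B : Set G) \ Z) hp (fun x hx => ⟨cmem (pow_mem wB m) hx.1,
    h.conj_not_mem (pow_mem wn m) hx.2⟩) (fun x hx => fx x (h2 hx.1))
    fun x hx => fr x (h2 hx.1) hx.2
  have n1 := Set.ncard_sdiff_add_ncard_of_subset (show (Z : Set G) ⊆ B from h1)
  have c2 : (Z : Set G).ncard = 4 := h.cardZ
  have c3 : (B : Set G).ncard = Nat.card B := rfl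
  have d3 := card_dvd_of_le h2
  have l := H5.card_lt_of_lt (lt_of_le_of_ne h1 fun e => ne e.ge)
  rw [h.card] at d3
  rw [h.cardZ] at l
  refine eq_of_le_of_card_ge h2 ?_
  rw [h.card]
  rw [c2, c3] at n1
  obtain ⟨c, hc⟩ := d2
  obtain ⟨j, hj, e⟩ := (Nat.dvd_prime_pow Nat.prime_two (m := 6)).1 d3
  interval_cases j <;> omega

/-- the commutator map with a fixed element -/
def cmh (AT : A ≤ T) (hc : A ≤ Cen T) (hv : ∀ s ∈ T, s * v * s⁻¹ * v⁻¹ ∈ A) : T →* G :=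
  MonoidHom.mk' (fun s => s * v * (s : G)⁻¹ * v⁻¹) fun s r => by
    have e := GW.cen.1 (hc (hv r r.2)) s s.2
    calc _ = s * (r * v * (r : G)⁻¹ * v⁻¹) * v * (s : G)⁻¹ * v⁻¹ := by push_cast; group
      _ = (r * v * (r : G)⁻¹ * v⁻¹) * (s * v * (s : G)⁻¹ * v⁻¹) := by rw [← e]; group
      _ = _ := GW.cen.1 (hc (hv r r.2)) _ (AT (hv s s.2))

theorem cm_card (AT : A ≤ T) (hc : A ≤ Cen T) (hv : ∀ s ∈ T, s * v * s⁻¹ * v⁻¹ ∈ A) :
    ∃ B ≤ A, Nat.card T = Nat.card B * Nat.card (T ⊓ Cen1 v : Subgroup G) ∧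
      ∀ s ∈ T, s * v * s⁻¹ * v⁻¹ ∈ B := by
  have hk : (cmh AT hc hv).ker = (Cen1 v).subgroupOf T := by
    ext s
    rw [MonoidHom.mem_ker, mem_subgroupOf, c1']
    exact mul_inv_eq_one
  refine ⟨im (cmh AT hc hv) T, ?_, H5.card_eq_card_im_mul hk le_rfl,
    fun s hs => H5.mem_im_of_mem (f := cmh AT hc hv) hs hs⟩
  rintro _ ⟨s, -, rfl⟩
  exact hv s s.2

/-- no 2-components -/
theorem no_comp (ai : AbI H) (hS : IsSylowOf 2 S H) (sc : SC H A) (AS' : A ≤ S)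
    (hO : A ≤ Opp 2 H) (hc : A ≤ Cen S) (cm : ⁅S, S⁆ ≤ A) (z : S ⊓ Cen S ≤ A) (na : ¬ S ≤ Cen S)
    (hx : x ∈ S) (xx : x * x = 1) (xA : x ∉ A) : ¬ PCompIn 2 H K := fun hK => by
  have QK : IsSylowOf 2 (S ⊓ K) K := IsSylowOf.inf_of_sn hS hK.sn
  have nA : H ≤ Nor (A ⊔ Oo H) := (con_of sc hO).trans (sup_le (lnor le_sup_right)
    (nsup inf_le_right (inf_le_left.trans (lOo H))))
  have AC : A ≤ CM K := le_sup_left.trans (solv_le_CM hK.pqs (H4.isSolvable_sup (sc.le.trans (lOo H))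
    (H5.isSolvable_of_isPGroup (M4.el_two sc.el)) (odd_solv (odd_Oo H)))
    (sup_le (nor_comp sc hK) hK.pPrimeCoreIn_le_normalizer) (hK.le.trans nA))
  have SK : S ≤ Nor K := fun s hs => mem_normalizer_iff_conjS.2 (by_contra fun e =>
    not_syl_le_CM hK.pqs QK fun q hq => H5.mem_of_eq (mul_mem (AC (cm (commutator_mem_commutator
      hq.1 hs))) (le_CM_of_ne hK (hK.conjS_of_mem (hS.le hs)) (Ne.symm e) (conj_mem_conjS hq.2)))
      (by rw [commutatorElement_def]; group))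
  have KM : K ≤ H ⊓ Nor K := le_inf hK.le le_normalizer
  have hS' := hS.of_le (le_inf hS.le SK) inf_le_left
  obtain ⟨X, _, _, f, hf, hk, nL, q, cL⟩ := exists_loc hK.pqs KM inf_le_right
  have nC : H ⊓ Nor K ≤ Nor (H ⊓ Nor K ⊓ CM K : Subgroup G) :=
    ninf le_normalizer (inf_le_right.trans (nCM K))
  have AC' : A ≤ H ⊓ Nor K ⊓ CM K := le_inf (AS'.trans hS'.le) AC
  have p := Pkg.mk' nL q cL (S := im f S) ⟨H5.im_self hf ▸ hS'.im le_rfl,
    H5.isMulCommutative_of_forall fun a ha b hb => GW.cen.1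
      ((H5.commutator_le_iff_im hk hS'.le hS'.le).1 (cm.trans AC') ha) b hb⟩
  have e1 : im f S = im f (S ⊓ K) :=
    (QK.im KM).eq_of_le p.as.two (H5.im_mono inf_le_left) p.le
  have hE := hS'.inf_of_le_normalizer inf_le_left (hS'.le.trans nC)
  have ab := ai.ab_CM hK.pqs hK.le hE.isPGroup (inf_le_left.trans hS.le)
    (hE.le.trans inf_le_right)
  have eE : S ⊓ (H ⊓ Nor K ⊓ CM K) = A := le_antisymm (le_trans (le_inf inf_le_left
    (le_cen_symm fun r hr => by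
      obtain ⟨s, hs, e2⟩ := H5.mem_im.1 (e1 ▸ H5.mem_im_of_mem (hS'.le hr) hr)
      have e3 : f (s⁻¹ * ⟨r, hS'.le hr⟩) = 1 := by rw [map_mul, map_inv, e2, inv_mul_cancel]
      exact H5.mem_of_eq (mul_mem (cen_of_CM hS.isPGroup le_rfl (inf_le_inf_left S inf_le_right) hs)
        (ab (mem_inf.2 ⟨mul_mem (inv_mem hs.1) hr, (H5.map_eq_one_iff_of_ker hk).1 e3⟩)))
        (by simp))) z) (le_inf AS' AC')
  rw [eE] at hE
  obtain ⟨-, -, Y, y⟩ := (p.known BS.seThm gwThm (W.wStr X _ _ p)).1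
  have n1 : ∀ g (hg : g ∈ S), g ∉ A → f ⟨g, hS'.le hg⟩ ≠ 1 := fun g hg g1 e =>
    g1 (eE.le ⟨hg, (H5.map_eq_one_iff_of_ker hk).1 e⟩)
  have xc := le_cen_symm hc hx
  have sy := syl_sup_of hE (zpowers_le.2 (nC (hS'.le hx)))
    (hS.isPGroup.to_le (sup_le AS' (zpowers_le.2 hx)))
  refine na fun a ha => GW.cen.2 fun b hb => M4.el_comm (A := S) (fun g hg => ?_) ha hb
  by_cases g1 : g ∈ A
  · exact sc.el g g1
  obtain ⟨k, -, e⟩ := y.tr _ (H5.mem_im_of_mem (hS'.le hg) hg) _ (H5.mem_im_of_mem (hS'.le hx) hx)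
    (n1 g hg g1) (n1 x hx xA)
  obtain ⟨k, rfl⟩ := hf k
  have m := (H5.map_eq_one_iff_of_ker hk (x := k * ⟨g, hS'.le hg⟩ * k⁻¹ * ⟨x, hS'.le hx⟩⁻¹)).1
    (by simp only [map_mul, map_inv]; rw [e, mul_inv_cancel])
  obtain ⟨c, -, e2⟩ := sy.exists_conj_le (Q := zpowers ((k : G) * g * (k : G)⁻¹))
    ((L.PElt_of_mem hS.isPGroup hg).conj (k : G)).isPGroup_zpowers (zpowers_le.2
      (H5.mem_of_eq (mul_mem (mem_sup_left m) (mem_sup_right (mem_zpowers x))) (by simp)))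
  have e3 := MW.el_sup sc.el xx xc _ (e2 (conj_mem_conjS (mem_zpowers _)))
  simpa [conj_mul] using e3

end AI
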