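import Cfsg.Agent.AI.LB4
import Cfsg.Agent.L.WClosed

/-! FOUR: the set-up. -/

set_option autoImplicit false
set_option linter.unusedVariables false
set_option linter.unusedSectionVars false

namespace AI

open Cfsg Subgroup FT H4 H5 GW L
open W (CM HasSE TO Om)
open M4 (SC)

universe u

variable {G : Type u} [Group G] [Finite G] {S A R P T : Subgroup G} {x y g b s v t : G}

/-- a bad involution -/
def Bd (A : Subgroup G) (x : G) : Prop :=
  x * x = 1 ∧ x ∈ Cen A ∧ x ∉ A ∧ ¬ A ≤ Opp 2 (Cen1 x)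

/-- the hypotheses of FOUR -/
structure F4 (S A : Subgroup G) : Prop where
  gl : Gl S A
  cen : A ≤ Cen S
  four : Nat.card A = 4
  good : ∀ a ∈ A, a ≠ 1 → Good A a

/-- an extremal bad involution -/
structure Ex (S A R : Subgroup G) (x : G) : Prop where
  bd : Bd A x
  syl : IsSylowOf 2 R (Cen1 x)
  AR : A ≤ R
  RS : R ≤ S
  ne : R ≠ S
  max : ∀ y, Bd A y → ∀ P : Subgroup G, IsPGroup 2 P → P ≤ Cen1 y → Nat.card P ≤ Nat.card R

theorem Bd.ne (h : Bd A x) : x ≠ 1 := fun e => h.2.2.1 (e ▸ one_mem A)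

theorem Bd.conj (h : Bd A x) (hg : g ∈ Nor A) : Bd A (g * x * g⁻¹) :=
  ⟨W.csq h.1, cmem (mcen hg) h.2.1, fun e => h.2.2.1 (mem_of_eq (cmem' hg e) (by group)),
    fun e => h.2.2.2 fun a ha => by
      have e1 := e (cmem hg ha)
      rw [← conj_c1, ← conjS_Opp] at e1
      exact (conj_mem_conjS_iff ..).1 e1⟩

namespace F4

variable (c : F4 S A)
include c

theorem el : ∀ a ∈ A, a * a = 1 := c.gl.sc.el

theorem two : IsPGroup 2 A := M4.el_two c.el

theorem SC : S ≤ Cen A := le_cen_symm c.cen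

/-- 2-subgroups over `A` are conjugate into `S` under `N(A)` -/
theorem conj (hP : IsPGroup 2 P) (AP : A ≤ P) : ∃ w ∈ Nor A, conjS w P ≤ S :=
  (c.gl.syl.of_le c.gl.nS le_top).exists_conj_le hP (c.gl.sc.nor hP le_top AP)

theorem cenT (hP : IsPGroup 2 P) (AP : A ≤ P) : P ≤ Cen A := fun p hp => by
  obtain ⟨w, hw, e⟩ := c.conj hP AP
  exact mem_of_eq (cmem' (mcen hw) (c.SC (e (conj_mem_conjS hp)))) (by group)

/-- every coset of `A` containing an involution contains a bad involution -/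
theorem coset (tt : t * t = 1) (tc : t ∈ Cen A) (tA : t ∉ A) : ∃ a ∈ A, Bd A (a * t) := by
  by_contra! hn
  have := c.gl.simple
  have two : IsPGroup 2 (A ⊔ zpowers t : Subgroup G) := c.two.to_sup_of_normal_right'
    (isPGroup_zpowers_of_pow (k := 1) (by rw [pow_one, pow_two, tt])) (nzp (cen_iff_le.1 tc))
  obtain ⟨T, hT, e⟩ := exists_isSylowOf_ge two le_top
  have AT := le_sup_left.trans e
  have cT := c.cenT hT.isPGroup AT
  obtain ⟨T, rfl⟩ := hT.exists_sylow_top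
  obtain ⟨⟨w, hw⟩, w1⟩ := (ne_bot_iff_exists_ne_one).1 c.gl.ne
  obtain ⟨N, hN, N1, wN⟩ := exists_normal_of_weaklyClosed T (W := A) (le_cen_symm cT)
    ⟨AT, fun g hg => eq_of_le_of_card_ge (by
      rintro _ ⟨a, ha, rfl⟩
      exact c.gl.sc.sc g trivial a ha (cnor cT (hg ⟨a, ha, rfl⟩)))
      (card_map_of_injective (MulAut.conj g).injective).ge⟩ tt
    (e (mem_sup_right (mem_zpowers t))) tA (fun a ha o => by
      by_contra e1
      refine hn a ha ⟨ii o, mul_mem (c.SC (c.gl.le ha)) tc, mt (mul_mem_cancel_left ha).1 tA,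
        fun e2 => e1 fun z hz => ?_⟩
      obtain ⟨z', h1, h2⟩ := e2 hz
      exact Subtype.ext h2 ▸ h1) hw (c.el w hw)
  rw [hN.eq_bot_or_eq_top.resolve_right N1] at wN
  exact w1 (Subtype.ext wN)

theorem ctx (hx : x ≠ 1) (hR : IsSylowOf 2 R (Cen1 x)) (AR : A ≤ R) : Ctx (Cen1 x) R A :=
  c.gl.ctx (c.gl.c1_ne hx) hR AR

theorem ex (h : ¬ ∀ x ∈ S, x * x = 1 → x ∈ Cen S) : ∃ R x, Ex S A R x := by
  classical
  have h' := h
  push Not at h'
  obtain ⟨t, ht, tt, tc⟩ := h'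
  obtain ⟨a, -, ba⟩ := c.coset tt (c.SC ht) fun e => tc (c.cen e)
  obtain ⟨⟨x, P⟩, ⟨bx, hP, Px⟩, m⟩ := Set.exists_max_image
    {p : G × Subgroup G | Bd A p.1 ∧ IsPGroup 2 p.2 ∧ p.2 ≤ Cen1 p.1}
    (fun p => Nat.card p.2) (Set.toFinite _) ⟨(a * t, ⊥), ba, IsPGroup.of_bot, bot_le⟩
  obtain ⟨R, hR, AR⟩ := exists_isSylowOf_ge c.two (cen_iff_le.1 bx.2.1)
  obtain ⟨w, hw, e⟩ := c.conj hR.isPGroup AR
  have bw := bx.conj hw
  have hR' : IsSylowOf 2 (conjS w R) (Cen1 (w * x * w⁻¹)) := conj_c1 w x ▸ hR.map _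
  have AR' : A ≤ conjS w R := mem_normalizer_iff_conjS.1 hw ▸ conjS_mono w AR
  refine ⟨_, _, bw, hR', AR', e, fun e1 => ?_, fun y hy Q hQ le =>
    (m (y, Q) ⟨hy, hQ, le⟩).trans ((hR.card_le hP Px).trans_eq (card_conjS w R).symm)⟩
  rw [e1] at hR'
  exact h (l1 G _ _ _ (c.ctx bw.ne hR' c.gl.le) c.cen (fun e2 => tc (e2 ht)) bw.2.2.2).2

end F4

namespace Ex

variable (e : Ex S A R x)
include e

theorem two : IsPGroup 2 R := e.syl.isPGroup

theorem xc : x ∈ Cen R := cen_iff_le.2 e.syl.le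

theorem xR : x ∈ R := e.syl.le_of_le_normalizer' (Q := zpowers x)
  (isPGroup_zpowers_of_pow (k := 1) (by rw [pow_one, pow_two, e.bd.1]))
  (zpowers_le.2 (c1.2 rfl)) (zpowers_le.2 (mcnor e.xc)) (mem_zpowers x)

theorem of_cen (hb : Bd A b) (cb : b ∈ Cen R) : Ex S A R b := by
  obtain ⟨T, hT⟩ := exists_isSylowOf 2 (Cen1 b)
  exact ⟨hb, hT.of_card_le e.two (cen_iff_le.1 cb) (e.max b hb T hT.isPGroup hT.le), e.AR, e.RS,
    e.ne, e.max⟩

theorem mem (c : F4 S A) (hs : s ∈ S) (sx : s ∈ Cen1 x) : s ∈ R :=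
  e.syl.eq_of_le (R := S ⊓ Cen1 x) c.gl.syl.isPGroup.to_inf_left (le_inf e.RS e.syl.le)
    inf_le_right ▸ mem_inf.2 ⟨hs, sx⟩

/-- FP -/
theorem fp (c : F4 S A) (vc : v ∈ Cen R) (vv : v * v = 1) (vA : v ∉ A) (hs : s ∈ S)
    (sv : s ∈ Cen1 v) : s ∈ R := by
  obtain ⟨a, ha, ba⟩ := c.coset vv (centralizer_anti e.AR vc) vA
  exact (e.of_cen ba (mul_mem (centralizer_anti e.RS (c.cen ha)) vc)).mem c hs
    (c1s.1 (mul_mem (cen_iff_le.1 (c.SC hs) ha) (c1s.1 sv)))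

theorem ctx (c : F4 S A) : Ctx (Cen1 x) R A := c.ctx e.bd.ne e.syl e.AR

theorem nA (c : F4 S A) : Nor R ≤ Nor A :=
  (le_inf le_top le_rfl).trans (sc_nor c.gl.sc e.two le_top e.AR)

end Ex

end AI
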