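import Cfsg.Agent.AI.F4N1
import Cfsg.Agent.AI.F4a

/-! FOUR: the extremal Sylow subgroup is nonabelian. -/

set_option autoImplicit false
set_option linter.unusedSectionVars false
set_option linter.unusedVariables false

namespace AI

open Cfsg Subgroup FT H4 GW W
open H5 (IsSylowOf im pre)
open M4 (SC)
open scoped commutatorElement

universe u

variable {G : Type u} [Group G] [Finite G] {S A R E : Subgroup G} {x y : G}

/-- the local data: `R / E` is a Sylow subgroup of `U₃(4)` -/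
structure NA (A R E : Subgroup G) (y : G) : Prop where
  le : E ≤ R
  cen : E ≤ Cen R
  inf : A ⊓ E = ⊥
  sq : ∀ r ∈ R, r * r ∈ A ⊔ E
  card : Nat.card R = 64 * Nat.card E
  yo : Odd (orderOf y)
  yn : y ∈ Nor R
  yE : y ∈ Cen E
  yA : y ∈ Cen A
  yc : y ∉ Cen R
  irr : ∀ B, A ⊔ E ≤ B → B ≤ R → y ∈ Nor B → ¬ B ≤ A ⊔ E → B = R
  tr : ∀ a ∈ A, a ≠ 1 → ∀ b ∈ A, b ≠ 1 → ∃ n ∈ Nor R, n ∈ Cen E ∧ n * a * n⁻¹ = b

theorem Ex.data (c : F4 S A) (e : Ex S A R x) (na : ¬ R ≤ Cen R) :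
    ∃ E y, x ∈ E ∧ NA A R E y := by
  have hR := e.syl
  obtain ⟨bn, -⟩ := l1 G _ _ _ (e.ctx c) (c.cen.trans (centralizer_anti e.RS)) na e.bd.2.2.2
  obtain ⟨X, _, _, N, f, D, t, s⟩ := bn.sec hR
  have a := s.hyp.toA1
  have h3 := s.hyp.a3
  have eA := sec_imA s (e.ctx c).sc e.AR e.bd.2.2.2
  have AH := e.AR.trans hR.le
  obtain ⟨q4, a1⟩ : Nat.card (BS.Q0 (im f R)) = 4 ∧ A ⊓ N = ⊥ := by
    have e1 := H5.card_eq_card_im_mul s.ker AH
    have e2 := a.two_lt_card_Q0 h3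
    rw [eA, c.four] at e1
    have e3 := Nat.le_of_dvd (by norm_num) (Dvd.intro _ e1.symm)
    rw [← card_eq_one]
    generalize Nat.card (BS.Q0 (im f R)) = m at *
    interval_cases m <;> omega
  have mZ : ∀ r : Cen1 x, (r : G) ∈ R → f r ∈ BS.Q0 (im f R) →
      (r : G) ∈ A ⊔ R ⊓ Opp 2 (Cen1 x) := fun r hr m => by
    obtain ⟨b, hb, e1⟩ := eA.ge m
    exact H5.mem_of_eq (mul_mem (mem_sup_left hb) (mem_sup_right ((s.one hR (x := b⁻¹ * r)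
      (mul_mem (inv_mem (e.AR hb)) hr)).1 (by rw [map_mul, map_inv, e1, inv_mul_cancel])))) (by simp)
  have inj : ∀ a b : Cen1 x, (a : G) ∈ A → (b : G) ∈ A → f a = f b → (a : G) = b :=
    fun a b ha hb e1 => mul_inv_eq_one.1 (mem_bot.1 (a1 ▸ mem_inf.2 ⟨A.mul_mem ha (A.inv_mem hb),
      (H5.map_eq_one_iff_of_ker s.ker (x := a * b⁻¹)).1 (by rw [map_mul, map_inv, e1, mul_inv_cancel])⟩))
  have mA : ∀ b (hb : b ∈ A), f ⟨b, AH hb⟩ ∈ BS.Q0 (im f R) := fun b hb => eA ▸ H5.mem_im_of_mem _ hb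
  obtain ⟨k, hk, sz⟩ := a1_suz a h3
  have kK : k ∈ BS.Kg D t := hk ▸ mem_zpowers k
  have u := (Ly.ab_or_u34_odd s.concl.two q4 sz.memZ (fun z hz x hx => (sz.Z_cen hz hx).symm) sz.nor
    (a.odd_D (BS.A1.Kg_le kK)) fun m => by
      obtain ⟨z, hz, z1⟩ := ex_ne sz.nt
      exact (sz.fpf 1 z (sz.Z_le hz) (by rw [pow_one, GW.cen.1 m z hz])).elim
        (fun e => sz.ne (by simpa using e)) z1).resolve_left (bn.nab_im hR s)
  obtain ⟨r, hr⟩ := a.exists_dist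
  obtain ⟨w, hw, w0, w1⟩ : ∃ w ∈ D ⊓ BS.Fg (im f R) t, w ∈ Cen (BS.Q0 (im f R)) ∧
      w ∉ Cen (im f R) := by
    have e1 := u.card
    rcases (BS.suzuki X _ _ _ _ t (a.sub (M := BS.Fg (im f R) t) le_top BS.A1.Q_le_Fg
      BS.A1.t_mem_Fg) h3).tri r hr with ⟨e2, -⟩ | ⟨e2, -⟩ | ⟨-, -, -, e2, -⟩
    · rw [e2] at q4; omega
    · rw [q4] at e2; omega
    · exact e2
  obtain ⟨y0, h0, rfl⟩ := s.lift hR bn.cen hw.2 (a.H_le_nor (a.D_le hw.1))
  obtain ⟨y, hy, yo, e1⟩ := M4.lift_odd f (a.odd_D hw.1)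
  replace hy : (y : G) ∈ Nor R ⊓ Cen (R ⊓ Opp 2 (Cen1 x) : Subgroup G) :=
    zpowers_le.2 (mem_subgroupOf.2 h0) hy
  rw [← e1] at hw w0 w1
  obtain ⟨n, hn, rfl⟩ := s.lift hR bn.cen (a.Kg_le_Fg kK) sz.nor
  refine ⟨_, y, mem_inf.2 ⟨e.xR, pCoreIn_le_Opp 2 _ (le_pCoreIn (zpowers_le.2 (c1.2 rfl)) (nzp le_rfl)
    (e.two.to_le (zpowers_le.2 e.xR)) (mem_zpowers x))⟩, inf_le_left, bn.cen,
    eq_bot_iff.2 (a1 ▸ inf_le_inf_left A (inf_le_right.trans s.opp)), fun r hr => ?_, ?_,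
    by rwa [orderOf_coe], hy.1, hy.2, GW.cen.2 fun b hb => ?_, fun m => w1 (H5.im_centralizer_le R
      (H5.mem_im_of_mem y.2 m)), fun B h1 h2 h4 h5 => ?_, fun b hb b1 d hd d1 => ?_⟩
  · exact mZ (⟨r, hR.le hr⟩ * ⟨r, hR.le hr⟩) (mul_mem hr hr)
      (map_mul f _ _ ▸ u.sq _ (H5.mem_im_of_mem _ hr))
  · rw [H5.card_eq_card_im_mul s.ker hR.le, s.inf hR, u.card]
  · refine mul_inv_eq_iff_eq_mul.1 (inj (y * ⟨b, AH hb⟩ * y⁻¹) ⟨b, AH hb⟩ (cmem (e.nA c hy.1) hb) hb ?_)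
    rw [map_mul, map_mul, map_inv, GW.cen.1 w0 _ (mA b hb), mul_inv_cancel_right]
  · have e2 := irr34 (B := im f B) u (fun a ha a1 b hb b1 => by
      obtain ⟨j, rfl⟩ := sz.tr a ha b hb a1 b1
      exact ⟨_, pow_mem sz.nor j, rfl⟩) (a.odd_D hw.1) (a.H_le_nor (a.D_le hw.1)) w0 w1
      (eA ▸ H5.im_mono (le_sup_left.trans h1)) (H5.im_mono h2)
      (H5.im_le_normalizer le_rfl (H5.mem_im_of_mem y.2 h4)) fun m => h5 fun b hb =>
        mZ ⟨b, hR.le (h2 hb)⟩ (h2 hb) (m (H5.mem_im_of_mem _ hb))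
    refine le_antisymm h2 fun r hr => ?_
    obtain ⟨b, hb, e3⟩ := e2.ge (H5.mem_im_of_mem (hR.le hr) hr)
    exact H5.mem_of_eq (mul_mem hb (h1 (mem_sup_right ((s.one hR (x := b⁻¹ * ⟨r, hR.le hr⟩)
      (mul_mem (inv_mem (h2 hb)) hr)).1 (by rw [map_mul, map_inv, e3, inv_mul_cancel]))))) (by simp)
  · have n1 : ∀ b (hb : b ∈ A), b ≠ 1 → f ⟨b, AH hb⟩ ≠ 1 := fun b hb b1 e =>
      b1 (inj _ 1 hb (one_mem A) (e.trans (map_one f).symm))
    obtain ⟨j, e2⟩ := sz.tr _ (mA b hb) _ (mA d hd) (n1 b hb b1) (n1 d hd d1)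
    exact ⟨n ^ j, pow_mem hn.1 j, pow_mem hn.2 j, inj (n ^ j * ⟨b, AH hb⟩ * (n ^ j)⁻¹) ⟨d, AH hd⟩
      (cmem (e.nA c (pow_mem hn.1 j)) hb) hd (by rw [e2, map_mul, map_mul, map_inv, map_pow])⟩

namespace NA

variable (c : F4 S A) (e : Ex S A R x) (na : ¬ R ≤ Cen R) (d : NA A R E y)
include c e na d

theorem ZR : A ⊔ E ≤ R ⊓ Cen R :=
  sup_le (le_inf e.AR (c.cen.trans (centralizer_anti e.RS))) (le_inf d.le d.cen)

theorem eZ : R ⊓ Cen R = A ⊔ E := le_antisymm (by_contra fun h => na ((d.irr _ (d.ZR c e na)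
  inf_le_left (minf d.yn (mcen d.yn)) h).ge.trans inf_le_right)) (d.ZR c e na)

theorem nZ : Nor R ≤ Nor (A ⊔ E : Subgroup G) := d.eZ c e na ▸ ninf le_rfl (ncen le_rfl)

theorem nS : Nor R ≤ Nor S := (le_inf le_top le_rfl).trans (c.gl.ai.nor c.gl.syl e.RS na)

theorem noinv {s : Set G} (h1 : s ⊆ E) (h2 : ∀ g ∈ S ⊓ Nor R, ∀ w ∈ s, g * w * g⁻¹ ∈ s) :
    ∀ w ∈ s, w = 1 := fun w hw => by
  by_contra w1
  have l : closure s ≤ E := (closure_le _).2 h1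
  obtain ⟨v, hv, v1, vv, vc⟩ := H7.exists_fixed_order_p (e.two.to_le (l.trans d.le))
    (c.gl.syl.isPGroup.to_inf_left (K := Nor R)) (fun g hg => mem_normalizer_of_conjS_le (by
      rw [conjS, MonoidHom.map_closure, closure_le]
      rintro _ ⟨w, hw, rfl⟩
      exact subset_closure (h2 g hg w hw))) (ne_bot_of (subset_closure hw) w1)
  obtain ⟨g, hg, g1, gn, -⟩ := H7.exists_mem_normalizer_of_lt c.gl.syl.isPGroup
    (lt_of_le_of_ne e.RS e.ne)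
  exact g1 (e.fp c (d.cen (l hv)) (by rw [← pow_two, vv]) (fun m => v1 (mem_bot.1 (d.inf ▸
    mem_inf.2 ⟨m, l hv⟩))) hg (c1.2 (vc g (mem_sup_right ⟨hg, gn⟩))))

theorem dec {z : G} (hz : z ∈ A ⊔ E) : ∃ a ∈ A, ∃ v ∈ E, a * v = z :=
  (H5.mem_sup_left_iff (cnor (le_cen_symm ((c.cen.trans (centralizer_anti e.RS)).trans
    (centralizer_anti d.le))))).1 hz

theorem el : ∀ z ∈ A ⊔ E, z * z = 1 := fun z hz => d.noinv c e na (s := {w | ∃ z ∈ A ⊔ E, z * z = w})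
  (by
    rintro _ ⟨z, hz, rfl⟩
    obtain ⟨a, ha, v, hv, rfl⟩ := d.dec c e na hz
    rw [mul_assoc, ← mul_assoc v, GW.cen.1 (d.cen hv) a (e.AR ha), mul_assoc, ← mul_assoc, c.el a ha,
      one_mul]
    exact E.mul_mem hv hv)
  (by
    rintro g hg _ ⟨z, hz, rfl⟩
    exact ⟨_, cmem (d.nZ c e na hg.2) hz, conj_mul⟩) _ ⟨z, hz, rfl⟩

theorem cZ {z p : G} (hz : z ∈ A ⊔ E) (hp : p ∈ S) (p1 : p ∉ R) (h : p ∈ Cen1 z) : z ∈ A :=
  by_contra fun zA => p1 (e.fp c (d.ZR c e na hz).2 (d.el c e na z hz) zA hp h)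

theorem fus (xE : x ∈ E) {b : G} (hb : b ∈ A) : ∃ u ∈ S, u * x * u⁻¹ = b * x := by
  have k : ∀ u ∈ S, ∀ n ∈ Nor R, n ∈ Cen E → ∀ a v, v ∈ E → u * x * u⁻¹ = a * v →
      n * u * n⁻¹ * x * (n * u * n⁻¹)⁻¹ = n * a * n⁻¹ * v := fun u hu n hn ne a v hv h => by
    calc _ = n * (u * (n⁻¹ * x * n) * u⁻¹) * n⁻¹ := by group
      _ = n * a * n⁻¹ * (n * v * n⁻¹) := by
        rw [mul_assoc n⁻¹, ← GW.cen.1 ne x xE, inv_mul_cancel_left, h]; group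
      _ = _ := by rw [GW.cen.1 ne v hv, mul_inv_cancel_right]
  obtain ⟨s, hs, s1⟩ : ∃ s ∈ S ⊓ Nor R, s * x * s⁻¹ ∉ E := by
    by_contra! h
    refine e.bd.ne (d.noinv c e na (s := {w | ∃ s ∈ S ⊓ Nor R, s * x * s⁻¹ = w}) ?_ ?_ _
      ⟨1, one_mem _, by simp⟩)
    · rintro _ ⟨s, hs, rfl⟩
      exact h s hs
    · rintro g hg _ ⟨s, hs, rfl⟩
      exact ⟨_, mul_mem hg hs, by group⟩
  obtain ⟨a, ha, v, hv, e1⟩ := d.dec c e na (cmem (d.nZ c e na hs.2) (mem_sup_right xE))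
  have a1 : a ≠ 1 := fun h => s1 (by rwa [← e1, h, one_mul])
  obtain ⟨m, hm, m1⟩ := SetLike.not_le_iff_exists.1 (c.gl.moves ha a1)
  obtain ⟨n, hn, ne, e2⟩ := d.tr a ha a1 _ (cmem hm ha) (by simpa using a1)
  have e3 := k s hs.1 n hn ne a v hv e1.symm
  have mA := mul_mem (cmem hm ha) (inv_mem ha)
  have e4 : s⁻¹ * (n * s * n⁻¹) * x * (s⁻¹ * (n * s * n⁻¹))⁻¹ = m * a * m⁻¹ * a⁻¹ * x := by
    calc _ = s⁻¹ * (n * s * n⁻¹ * x * (n * s * n⁻¹)⁻¹) * s := by group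
      _ = s⁻¹ * (m * a * m⁻¹ * a⁻¹) * (a * v) * s := by rw [e3, e2]; group
      _ = _ := by rw [e1, ← GW.cen.1 (c.cen mA) _ (inv_mem hs.1)]; group
  by_cases b1 : b = 1
  · exact ⟨1, one_mem S, by simp [b1]⟩
  obtain ⟨n', hn', ne', rfl⟩ := d.tr _ mA (fun h => m1 (c1'.2 (mul_inv_eq_one.1 h))) b hb b1
  have hu := S.mul_mem (S.inv_mem hs.1) (cmem (d.nS c e na hn) hs.1)
  exact ⟨_, cmem (d.nS c e na hn') hu, k _ hu n' hn' ne' _ x xE e4⟩

theorem cmx (xE : x ∈ E) : ∀ s ∈ S, s * x * s⁻¹ * x⁻¹ ∈ A := by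
  have := c.gl.simple
  have two := c.gl.syl.isPGroup
  have cR : Nat.card (S ⊓ cMod (zpowers x) A : Subgroup G) = 4 * Nat.card R := by
    have m : ∀ s ∈ S, s * x * s⁻¹ * x⁻¹ ∈ A → s ∈ S ⊓ cMod (zpowers x) A := fun s hs h =>
      ⟨hs, c.gl.nS hs, fun k hk => by
        rcases GW.mem_zp2 e.bd.1 hk with rfl | rfl
        · simp
        · exact H5.mem_of_eq (inv_mem h) (by rw [commutatorElement_def]; group)⟩
    have l : R ≤ S ⊓ cMod (zpowers x) A := fun r hr =>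
      m r (e.RS hr) (by rw [c1'.1 (e.syl.le hr), mul_inv_cancel]; exact one_mem A)
    obtain ⟨B, BA, h1, h2⟩ := cm_card (v := x) (e.AR.trans l) (c.cen.trans (centralizer_anti
      inf_le_left)) fun s hs => H5.mem_of_eq (inv_mem (hs.2.2 x (mem_zpowers x)))
        (by rw [commutatorElement_def]; group)
    rw [h1, le_antisymm BA fun b hb => by
      obtain ⟨u, hu, h⟩ := d.fus c e na xE hb
      have h3 : u * x * u⁻¹ * x⁻¹ = b := by rw [h, mul_inv_cancel_right]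
      exact h3 ▸ h2 u (m u hu (h3 ▸ hb)), c.four,
      le_antisymm (fun s hs => e.mem c hs.1.1 hs.2) (le_inf l e.syl.le)]
  have l := card_le_of_le (inf_le_left : S ⊓ cMod (zpowers x) A ≤ S)
  obtain ⟨F, FS, SF, el, h4⟩ : ∃ F ≤ S, S ≤ Nor F ∧ (∀ x ∈ F, x * x = 1) ∧ 4 < Nat.card F := by
    by_contra! h
    have p : 0 < Nat.card E := Nat.card_pos
    have := MW.main c.gl.nc c.gl.syl ⟨two, h⟩ fun h1 => by
      obtain ⟨a, ha, a1⟩ := ex_ne c.gl.ne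
      obtain ⟨m, hm, m1⟩ := SetLike.not_le_iff_exists.1 (c.gl.moves ha a1)
      obtain ⟨n, hn, -, e2⟩ := d.tr a ha a1 _ (cmem hm ha) (by simpa using a1)
      exact m1 (c1'.2 (by rw [← e2, GW.cen.1 (sup_le c.SC (centralizer_anti c.gl.le)
        (h1 (d.nS c e na hn))) a ha, mul_inv_cancel_right]))
    rw [cR, d.card] at l
    omega
  obtain ⟨v, hv, vA, h1, -⟩ := H7.exists_central_mod two FS SF (N := A) fun h =>
    absurd (c.four ▸ card_le_of_le h) (not_le.2 h4)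
  obtain ⟨a, ha, ba⟩ := c.coset (el v hv) (c.SC (FS hv)) vA
  obtain ⟨B, BA, h2, -⟩ := cm_card (v := a * v) c.gl.le c.cen fun s hs => H5.mem_of_eq
    (cmem (le_normalizer ha) (inv_mem (h1 s hs))) (by
      rw [commutatorElement_def, ← mul_assoc s, ← GW.cen.1 (c.cen ha) s hs]; group)
  have h3 := eq_of_le_of_card_ge (inf_le_left : S ⊓ cMod (zpowers x) A ≤ S) (by
    rw [cR, h2]
    exact Nat.mul_le_mul (c.four ▸ card_le_of_le BA) (e.max _ ba _ two.to_inf_left inf_le_right))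
  exact fun s hs => H5.mem_of_eq (inv_mem ((h3.ge hs).2.2 x (mem_zpowers x)))
    (by rw [commutatorElement_def]; group)

theorem sqA (xE : x ∈ E) : (∀ s ∈ S, s * s ∈ A) ∧ S ⊓ Cen S ≤ A := by
  have two := c.gl.syl.isPGroup
  have xx := e.bd.1
  have eR : S ⊓ Cen (A ⊔ zpowers x : Subgroup G) = R := le_antisymm (fun s hs => e.mem c hs.1
    (c1.2 (GW.cen.1 hs.2 x (mem_sup_right (mem_zpowers x))))) (le_inf e.RS (le_cen_symm
      (sup_le (c.cen.trans (centralizer_anti e.RS)) (zpowers_le.2 e.xc))))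
  have n1 : S ≤ Nor (A ⊔ zpowers x : Subgroup G) := fun s hs => mem_normalizer_of_conjS_le (by
    rw [conjS_sup, mem_normalizer_iff_conjS.1 (c.gl.nS hs), conjS, MonoidHom.map_zpowers]
    exact sup_le le_sup_left (zpowers_le.2 (H5.mem_of_eq (mul_mem (mem_sup_left
      (d.cmx c e na xE s hs)) (mem_sup_right (mem_zpowers x))) (by simp))))
  have SR : S ≤ Nor R := eR ▸ ninf le_normalizer (ncen n1)
  have SZ := SR.trans (d.nZ c e na)
  have ZR := (d.ZR c e na).trans inf_le_left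
  have yS := d.nS c e na d.yn
  have yZ : y ∈ Cen (A ⊔ E : Subgroup G) := cen_iff_le.2 (sup_le (cen_iff_le.1 d.yA)
    (cen_iff_le.1 d.yE))
  have ZP : A ⊔ E ≤ S ⊓ Cen (zpowers y) := le_inf (ZR.trans e.RS) (le_cen_symm (zpowers_le.2 yZ))
  have UR : ⁅S, zpowers y⁆ ≤ R := eR ▸ le_inf (com_l (zpowers_le.2 yS)) ((commutator_mono le_rfl
    (zpowers_le.2 (centralizer_anti (sup_le_sup_left (zpowers_le.2 xE) A) yZ))).trans
      (com_r (ncen n1)))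
  have od : Odd (Nat.card (zpowers y)) := by rw [Nat.card_zpowers]; exact d.yo
  have dec := fun s (hs : s ∈ S) => H5.exists_centralizer_mul_commutator (zpowers_le.2 yS)
    (cop2 two od).symm (Or.inl (odd_solv od)) hs
  have PZ : R ⊓ Cen (zpowers y) ≤ A ⊔ E := by_contra fun h => d.yc (le_cen_symm ((d.irr _
    (le_inf ZR (ZP.trans inf_le_right)) inf_le_left (minf d.yn (mcen (mzp (c1.2 rfl)))) h).ge.trans
      inf_le_right) (mem_zpowers y))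
  have RZ : ⁅S, R⁆ ≤ A ⊔ E := by
    obtain ⟨r, hr, r1, h, -⟩ := H7.exists_central_mod two e.RS SR (N := A ⊔ E) fun h =>
      na (h.trans ((d.ZR c e na).trans inf_le_right))
    have := d.irr (R ⊓ cMod S (A ⊔ E)) (le_inf ZR (le_cMod_iff.2 ⟨le_normalizer, com_r SZ⟩))
      inf_le_left (minf d.yn (normalizer_le_normalizer_cMod ⟨yS, mcnor yZ⟩)) fun h1 => r1 (h1
        ⟨hr, SZ (e.RS hr), fun k hk => commutatorElement_inv r k ▸ inv_mem (h k hk)⟩)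
    exact (le_cMod_iff.1 (this.ge.trans inf_le_right)).2
  have SP : S ≤ Nor (S ⊓ Cen (zpowers y) : Subgroup G) := fun s hs => by
    obtain ⟨p, hp, u, hu, rfl⟩ := dec s hs
    exact mul_mem (le_normalizer hp) (mnor fun k hk => H5.mem_of_eq (mul_mem (inv_mem (ZP (RZ
      (commutator_mem_commutator hk.1 (UR hu))))) hk) (by rw [commutatorElement_def]; group))
  have UP : ⁅S, zpowers y⁆ ≤ Cen (S ⊓ Cen (zpowers y) : Subgroup G) :=
    commutator_eq_bot_iff_le_centralizer.1 (commutator_commutator_eq_bot_of_rotate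
      (by rw [commutator_eq_bot_iff_le_centralizer.2 (le_cen_symm inf_le_right), commutator_bot_left])
      (commutator_eq_bot_iff_le_centralizer.2 ((com_l SP).trans inf_le_right)))
  obtain ⟨p, hp, p1⟩ : ∃ p ∈ S ⊓ Cen (zpowers y), p ∉ R := by
    by_contra! h
    refine e.ne (le_antisymm e.RS fun s hs => ?_)
    obtain ⟨p, hp, u, hu, rfl⟩ := dec s hs
    exact mul_mem (h p hp) (UR hu)
  refine ⟨fun s hs => ?_, fun z hz => d.cZ c e na ((d.eZ c e na).le ⟨e.mem c hz.1 (c1.2 (GW.cen.1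
    hz.2 x (e.RS e.xR))), centralizer_anti e.RS hz.2⟩) hp.1 p1 (c1.2 (GW.cen.1 hz.2 p hp.1).symm)⟩
  obtain ⟨q, hq, u, hu, rfl⟩ := dec s hs
  have e1 : q * u * (q * u) = q * q * (u * u) := by
    rw [mul_assoc, ← mul_assoc u, GW.cen.1 (UP hu) q hq]; group
  refine e1 ▸ mul_mem ?_ (d.cZ c e na (d.sq u (UR hu)) hp.1 p1
    (c1s.1 (mul_mem (c1.2 (GW.cen.1 (UP hu) p hp)) (c1.2 (GW.cen.1 (UP hu) p hp)))))
  by_cases q1 : q ∈ R
  · exact d.el c e na q (PZ ⟨q1, hq.2⟩) ▸ one_mem A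
  refine d.cZ c e na (PZ ⟨e.mem c (mul_mem hq.1 hq.1) (c1'.2 ?_), mul_mem hq.2 hq.2⟩) hq.1 q1
    (c1.2 (mul_assoc ..).symm)
  have m := d.cmx c e na xE q hq.1
  calc _ = q * (q * x * q⁻¹ * x⁻¹) * (x * q⁻¹) := by group
    _ = (q * x * q⁻¹ * x⁻¹) * (q * x * q⁻¹ * x⁻¹) * x := by
      rw [← GW.cen.1 (c.cen m) q hq.1]; group
    _ = x := by rw [c.el _ m, one_mul]

end NA

theorem F4.nonab (c : F4 S A) (e : Ex S A R x) (na : ¬ R ≤ Cen R) : HasSE G := by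
  obtain ⟨E, y, xE, d⟩ := e.data c na
  obtain ⟨sq, z⟩ := d.sqA c e na xE
  have xS := e.RS e.xR
  have el := MW.el_sup c.el e.bd.1 e.bd.2.1
  have cR : A ⊔ zpowers x ≤ Cen R := sup_le (c.cen.trans (centralizer_anti e.RS)) (zpowers_le.2 e.xc)
  have hθ := H5.SS.core_sig (M4.el_ea el) (fun a _ _ => odd_solv (odd_Oo _)) fun a ha _ b hb b1 => by
    rcases (SF.mem_sup_zp (mcnor e.bd.2.1) (e.bd.1 ▸ one_mem A)).1 hb with m | m
    · have l := cen_iff_le.1 (c.cen m)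
      exact H5.SS.core_balance (constr_of fun K => no_comp (c.gl.ai.mono le_top)
        (c.gl.syl.of_le l le_top) (c.gl.sc.mono (c.gl.le.trans l) le_top) c.gl.le (c.good b m b1) c.cen
        (commutator_le.2 fun s hs r hr => H5.mem_of_eq (mul_mem (mul_mem (sq _ (mul_mem hs hr))
          (sq _ (cmem' (le_normalizer hr) (inv_mem hs)))) (sq _ (inv_mem hr)))
            (by rw [commutatorElement_def]; group)) z
        (fun h => na (e.RS.trans (h.trans (centralizer_anti e.RS)))) xS e.bd.1 e.bd.2.2.1)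
        (H5.Dich.pgroup_inv (el a ha)) (l (sup_le c.gl.le (zpowers_le.2 xS) ha))
    by_cases bA : b ∈ A
    · exact (e.bd.2.2.1 ((mul_mem_cancel_left bA).1 m)).elim
    obtain ⟨u, hu, h⟩ := d.fus c e na xE m
    rw [mul_assoc b, e.bd.1, mul_one] at h
    have e' := e.of_cen (h ▸ e.bd.conj (c.gl.nS hu)) (cR hb)
    exact (l1 G _ _ _ (e'.ctx c) (le_sup_left.trans cR) na e'.bd.2.2.2).1.lb e'.syl inf_le_right
      (odd_of_le inf_le_left (odd_Oo (Cen1 a)))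
      (ninf ((cen_iff_le.1 (cR ha)).trans (lOo _)) (nc1 e'.syl.le))
  have hc := H5.SS.ssft_two (M4.el_ea el) (by
    rw [SF.card_sup_zp (mcnor e.bd.2.1) (e.bd.1 ▸ one_mem A) e.bd.2.2.1, c.four]; rfl) hθ
  refine c.gl.se_of_odd ?_ c.good
  rw [H5.Dich.cl, hc.closure_eq (M4.el_ea el) hθ le_sup_left c.four.ge]
  exact Nat.odd_iff.2 (Nat.two_dvd_ne_zero.1 (H5.mem_fam_iff.1 (hc.closure_mem hθ)).2.1)

end AI
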