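import Cfsg.Agent.AI.F4a
import Cfsg.Agent.TW.Odd2

/-! FOUR: the normalizer of the extremal subgroup. -/

set_option autoImplicit false
set_option linter.unusedVariables false
set_option linter.unusedSectionVars false

namespace AI

open Cfsg Subgroup FT H4 H5 GW L
open W (CM HasSE TO Om)
open M4 (SC)
open scoped commutatorElement

universe u

variable {G : Type u} [Group G] [Finite G] {S A R P T E : Subgroup G} {x y z g a b s v t : G}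

/-- elements centralizing `A` and fixing the coset of `v` -/
def Tv (A : Subgroup G) (v : G) : Subgroup G where
  carrier := {g | g ∈ Cen A ∧ ⁅v, g⁆ ∈ A}
  one_mem' := ⟨one_mem _, by simp⟩
  mul_mem' := fun {a b} ha hb => ⟨mul_mem ha.1 hb.1, by
    rw [commutatorElement_mul_right_eq_mul_conj, mul_assoc, mul_assoc, ← mul_assoc a]
    exact mul_mem ha.2 (cmem (mcnor ha.1) hb.2)⟩
  inv_mem' := fun {a} ha => ⟨inv_mem ha.1, by
    rw [commutatorElement_inv_right, ← commutatorElement_inv]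
    exact cmem' (mcnor ha.1) (inv_mem ha.2)⟩

/-- the commutator map -/
def ph (A : Subgroup G) (v : G) : Tv A v →* G := MonoidHom.mk' (fun g => ⁅v, (g : G)⁆) fun a b => by
  rw [coe_mul, commutatorElement_mul_right_eq_mul_conj, mul_assoc _ (a : G), GW.cen.1 a.2.1 _ b.2.2]
  group

theorem ph_ker : (ph A v).ker = (Cen1 v).subgroupOf (Tv A v) := by
  ext g
  rw [MonoidHom.mem_ker, mem_subgroupOf, c1s, c1c, ← commutatorElement_eq_one_iff_commute]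
  rfl

theorem ph_le : im (ph A v) T ≤ A := by
  rintro _ ⟨g, -, rfl⟩
  exact g.2.2

theorem cls (h : T ≤ Tv A v) : Nat.card T ≤ Nat.card A * Nat.card (T ⊓ Cen1 v : Subgroup G) := by
  rw [card_eq_card_im_mul ph_ker h]
  exact Nat.mul_le_mul_right _ (card_le_of_le ph_le)

theorem cm_conj (vv : v * v = 1) (h : ⁅v, g⁆ = a) : g * v * g⁻¹ = v * a := by
  rw [← h, commutatorElement_def, inv_eq_of_mul_eq_one_right vv, ← mul_assoc, ← mul_assoc,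
    ← mul_assoc, vv, one_mul]

theorem F4.cen_of_sq (c : F4 S A) (hg : g ∈ Nor A) (h : g * g ∈ Cen A) : g ∈ Cen A := by
  obtain ⟨m, k, hm, e⟩ := TW.odd_pow2 g
  have two := isPGroup_zpowers_of_pow e
  have n := zpowers_le.2 (pow_mem hg m)
  exact TW.mem_of_odd_sq hm (c.cenT (c.two.to_sup_of_normal_left' two n) le_sup_left
    (mem_sup_right (mem_zpowers _))) h

theorem F4.rot (c : F4 S A) (hg : g ∈ Nor A) (h : g ∉ Cen A) (ha : a ∈ A) (a1 : a ≠ 1) :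
    GW.F4 a (g * a * g⁻¹) ∧ V4 a (g * a * g⁻¹) = A ∧ Rot a (g * a * g⁻¹) g := by
  have k : ∀ {a b}, a ∈ A → b ∈ A → a ≠ 1 → b ≠ 1 → b ≠ a → GW.F4 a b ∧ V4 a b = A :=
    fun {a b} ha hb a1 b1 ne => by
      have f : GW.F4 a b := ⟨W.o2 (c.el a ha) a1, W.o2 (c.el b hb) b1, M4.el_comm c.el ha hb, ne⟩
      exact ⟨f, eq_of_le_of_card_ge (V_le ha hb) (by rw [Dg.card_V f, c.four])⟩
  have sq : ∀ {a b}, GW.F4 a b → V4 a b = A → g * g ∈ Cen1 a → g * g ∈ Cen1 b → False :=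
    fun f e h1 h2 => h (c.cen_of_sq hg (by rw [← e, cen_V]; exact ⟨h1, h2⟩))
  have cc : ∀ a, g * g * a * (g * g)⁻¹ = g * (g * a * g⁻¹) * g⁻¹ := fun a => by group
  have ne : g * a * g⁻¹ ≠ a := fun e => by
    obtain ⟨b, hb, b1⟩ : ∃ b ∈ A, b ∉ zpowers a := by
      by_contra! hn
      have := card_le_of_le (show A ≤ zpowers a from hn)
      rw [Nat.card_zpowers, W.o2 (c.el a ha) a1, c.four] at this
      omega
    obtain ⟨f, e1⟩ := k ha hb a1 (fun e => b1 (e ▸ one_mem _)) fun e => b1 (e ▸ mem_zpowers _)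
    refine sq f e1 (c1'.2 (by rw [cc, e, e])) (c1'.2 ?_)
    rcases f.mem_V.1 (e1 ▸ cmem hg hb) with e2 | e2 | e2 | e2
    · exact absurd (conj_eq_one_iff.1 e2) (ine f.ha)
    · exact absurd (conj_injective (e2.trans e.symm)) f.ne
    · rw [cc, e2, e2]
    · rw [cc, e2, ← conj_mul, e, e2, f.tta]
  obtain ⟨f, e1⟩ := k ha (cmem hg ha) a1 (by simpa using a1) ne
  refine ⟨f, e1, rfl, ?_⟩
  rcases f.mem_V.1 (e1 ▸ cmem hg (cmem hg ha)) with e2 | e2 | e2 | e2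
  · exact absurd (conj_eq_one_iff.1 e2) (ine f.ha)
  · exact (sq f e1 (c1'.2 (by rw [cc, e2])) (c1'.2 (by rw [cc, e2]))).elim
  · exact absurd (conj_injective e2) ne
  · exact e2

/-- a complement to `A` in the centre of `R` -/
structure Cm (R A E : Subgroup G) (y : G) : Prop where
  ER : E ≤ R
  Ec : E ≤ Cen R
  AE : A ⊓ E = ⊥
  dec : R ⊓ Cen R ≤ A ⊔ E
  yn : y ∈ Nor R
  yE : y ∈ Cen E
  yA : y ∉ Cen A

/-- the stabilizer of the chain `Z(R) ≥ A ≥ 1` -/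
abbrev N0 (R A : Subgroup G) : Subgroup G := Nor R ⊓ (Cen A ⊓ cMod (R ⊓ Cen R) A)

theorem N0_le (hv : v ∈ R ⊓ Cen R) : N0 R A ≤ Tv A v := fun g hg => ⟨hg.2.1, hg.2.2.2 v hv⟩

theorem nZ (R : Subgroup G) : Nor R ≤ Nor (R ⊓ Cen R : Subgroup G) := ninf le_rfl (ncen le_rfl)

namespace Ex

variable (e : Ex S A R x) (c : F4 S A)
include e c

theorem Ac : A ≤ Cen R := c.cen.trans (centralizer_anti e.RS)

theorem xZ : x ∈ R ⊓ Cen R := ⟨e.xR, e.xc⟩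

theorem ex_s : ∃ s ∈ S ⊓ Nor R, s ∉ R ∧ s * s ∈ R :=
  SF.exists_sq_mem c.gl.syl.isPGroup.to_inf_left
    (lt_inf_normalizer_of_isPGroup c.gl.syl.isPGroup (lt_of_le_of_ne e.RS e.ne)).not_ge

theorem RP : R ≤ S ⊓ Nor R := le_inf e.RS le_normalizer

theorem naP : ¬ S ⊓ Nor R ≤ Cen (S ⊓ Nor R : Subgroup G) := fun h => by
  obtain ⟨s, hs, sR, -⟩ := e.ex_s c
  exact sR (e.mem c hs.1 (cen_iff_le.1 (h (e.RP c e.xR)) hs))

theorem sylP : IsSylowOf 2 (S ⊓ Nor R) (Nor R) :=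
  isSylowOf_of_maximal inf_le_right c.gl.syl.isPGroup.to_inf_left fun T hT h1 h2 =>
    le_inf (c.gl.ai.le c.gl.syl inf_le_left (e.naP c) hT le_top h1) h2

theorem nN0 : Nor R ≤ Nor (N0 R A) := ninf le_normalizer (ninf (ncen (e.nA c))
  ((le_inf (nZ R) (e.nA c)).trans normalizer_le_normalizer_cMod))

theorem RN0 : R ≤ N0 R A := le_inf le_normalizer (le_inf (e.RS.trans c.SC) fun r hr =>
  ⟨e.nA c (le_normalizer hr), fun k hk => by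
    rw [commutatorElement_eq_one_iff_mul_comm.2 (GW.cen.1 hk.2 r hr)]; exact one_mem A⟩)

variable (m : Cm R A E y)
include m

theorem decZ (hz : z ∈ R ⊓ Cen R) : ∃ a ∈ A, ∃ k ∈ E, a * k = z :=
  (H5.mem_sup_left_iff (cnor ((m.ER.trans e.RS).trans c.SC))).1 (m.dec hz)

theorem one (h1 : z ∈ A) (h2 : z ∈ E) : z = 1 := mem_bot.1 (m.AE ▸ mem_inf.2 ⟨h1, h2⟩)

theorem cz (hz : z ∈ R ⊓ Cen R) (hs : s ∈ S) (sR : s ∉ R) (sz : s ∈ Cen1 z) : z ∈ A := by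
  obtain ⟨a, ha, k, hk, rfl⟩ := e.decZ c m hz
  by_cases k1 : k = 1
  · rwa [k1, mul_one]
  obtain ⟨v, hv, o⟩ := _root_.P.exists_inv_mem (e.two.to_le (zpowers_le.2 (m.ER hk)))
    (zpowers_ne_bot.2 k1)
  have vE := zpowers_le.2 hk hv
  have sk : k ∈ Cen1 s := (mul_mem_cancel_left (cen_iff_le.1 (c.SC hs) ha)).1 (c1s.1 sz)
  exact (sR (e.fp c (m.Ec vE) (ii o) (fun h => ine o (e.one c m h vE)) hs
    (c1s.1 (zpowers_le.2 sk hv)))).elim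

theorem nm (hz : z ∈ R ⊓ Cen R) (hs : s ∈ S ⊓ Nor R) (sR : s ∉ R) (ss : s * s ∈ R) :
    z * (s * z * s⁻¹) ∈ A := by
  have h1 := cmem (nZ R hs.2) hz
  refine e.cz c m (mul_mem hz h1) hs.1 sR (c1'.2 ?_)
  have e1 : s * (s * z * s⁻¹) * s⁻¹ = z := by
    rw [show s * (s * z * s⁻¹) * s⁻¹ = s * s * z * (s * s)⁻¹ by group, ← GW.cen.1 hz.2 _ ss]; group
  rw [← conj_mul, e1, GW.cen.1 hz.2 _ h1.1]

theorem elE (hz : z ∈ E) : z * z = 1 := by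
  by_contra zz
  obtain ⟨s, hs, sR, ss⟩ := e.ex_s c
  obtain ⟨k, hk⟩ := e.two ⟨z, m.ER hz⟩
  obtain ⟨r, hr, o⟩ := TW.ex_sq (congrArg Subtype.val hk) zz
  have rE := zpowers_le.2 hz hr
  have rZ : r ∈ R ⊓ Cen R := ⟨m.ER rE, m.Ec rE⟩
  have e1 := c.el _ (e.nm c m rZ hs sR ss)
  have e2 : Commute r (s * r * s⁻¹) := GW.cen.1 rZ.2 _ (cmem hs.2 rZ.1)
  rw [e2.symm.mul_mul_mul_comm, conj_mul] at e1
  exact ine o (e.one c m (e.cz c m (mul_mem rZ rZ) hs.1 sR (c1'.2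
    ((eq_inv_of_mul_eq_one_right e1).trans (iinv o)))) (mul_mem rE rE))

theorem elZ (hz : z ∈ R ⊓ Cen R) : z * z = 1 := by
  obtain ⟨a, ha, k, hk, rfl⟩ := e.decZ c m hz
  have e2 : Commute k a := GW.cen.1 (m.Ec hk) _ (e.AR ha)
  rw [e2.mul_mul_mul_comm, c.el a ha, e.elE c m hk, one_mul]

theorem sN0 (hs : s ∈ S ⊓ Nor R) (ss : s * s ∈ R) : s ∈ N0 R A := by
  by_cases sR : s ∈ R
  · exact e.RN0 c sR
  refine ⟨hs.2, c.SC hs.1, c.gl.nS hs.1, fun k hk => mem_of_eq (e.nm c m hk hs sR ss) ?_⟩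
  rw [commutatorElement_def, inv_eq_of_mul_eq_one_right (e.elZ c m hk)]; group

theorem cardE : Nat.card E ≤ 4 := by
  obtain ⟨s, hs, sR, ss⟩ := e.ex_s c
  rw [← c.four]
  refine Nat.card_le_card_of_injective (fun k : E => (⟨⁅(k : G), s⁆,
    (e.sN0 c m hs ss).2.2.2 k ⟨m.ER k.2, m.Ec k.2⟩⟩ : A)) fun k l h => ?_
  have h1 : (k : G) * s * (k : G)⁻¹ * s⁻¹ = l * s * (l : G)⁻¹ * s⁻¹ := congrArg Subtype.val h
  have hE := mul_mem (inv_mem l.2) k.2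
  refine Subtype.ext (inv_mul_eq_one.1 (e.one c m (e.cz c m ⟨m.ER hE, m.Ec hE⟩ hs.1 sR
    (c1s.1 (c1'.2 ?_))) hE)).symm
  rw [show (l : G)⁻¹ * k * s * ((l : G)⁻¹ * k)⁻¹ =
    (l : G)⁻¹ * (k * s * (k : G)⁻¹ * s⁻¹) * s * l by group, h1]
  group

theorem yc : y ∈ cMod (R ⊓ Cen R) A := ⟨e.nA c m.yn, fun z hz => by
  obtain ⟨a, ha, k, hk, rfl⟩ := e.decZ c m hz
  refine mem_of_eq (mul_mem ha (cmem (e.nA c m.yn) (inv_mem ha))) ?_
  rw [commutatorElement_def, mul_assoc a k y, ← GW.cen.1 m.yE k hk]; group⟩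

theorem tr0 (hv : v ∈ R ⊓ Cen R) (vA : v ∉ A) : A ≤ im (ph A v) (N0 R A) := by
  obtain ⟨s, hs, sR, ss⟩ := e.ex_s c
  have s0 := e.sN0 c m hs ss
  obtain ⟨a, ha, k, hk, rfl⟩ := e.decZ c m hv
  have k1 : ∀ g ∈ N0 R A, ⁅a * k, g⁆ = ⁅k, g⁆ := fun g hg => by
    rw [commutatorElement_mul_left_eq_conj_mul, commutatorElement_eq_one_iff_mul_comm.2
      (GW.cen.1 hg.2.1 a ha).symm, mul_one, M4.el_comm c.el ha
      (hg.2.2.2 k ⟨m.ER hk, m.Ec hk⟩), mul_inv_cancel_right]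
  have y0 := cmem (e.nN0 c m.yn) s0
  obtain ⟨-, e1, -⟩ := c.rot (e.nA c m.yn) m.yA (s0.2.2.2 _ hv) fun h =>
    vA (e.cz c m hv hs.1 sR (c1s.1 (c1.2 (commutatorElement_eq_one_iff_mul_comm.1 h))))
  refine e1.ge.trans (V_le (mem_im_of_mem (N0_le hv s0) s0)
    (mem_of_eq (mem_im_of_mem (N0_le hv y0) y0) ?_))
  change ⁅a * k, y * s * y⁻¹⁆ = _
  rw [k1 _ y0, k1 _ s0, conjugate_commutatorElement, GW.cen.1 m.yE k hk, mul_inv_cancel_right]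

theorem trP (hv : v ∈ R ⊓ Cen R) (vA : v ∉ A) : im (ph A v) (S ⊓ Nor R ⊓ N0 R A) = A := by
  have h1 := (((e.sylP c).inf_of_le_normalizer inf_le_left
    (inf_le_right.trans (e.nN0 c))).im (f := ph A v) (N0_le hv))
  exact (h1.eq_of_le c.two ph_le (e.tr0 c m hv vA)).symm

theorem cardP : Nat.card (S ⊓ Nor R : Subgroup G) = 4 * Nat.card R ∧ S ⊓ Nor R ≤ N0 R A := by
  obtain ⟨v, hv, vA, h, -⟩ := H7.exists_central_mod (c.gl.syl.isPGroup.to_inf_left (K := Nor R))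
    (inf_le_left.trans (e.RP c)) (inf_le_right.trans (nZ R)) fun h => e.bd.2.2.1 (h (e.xZ c))
  have h1 := cls (T := S ⊓ Nor R) (A := A) (v := v) fun g hg => ⟨c.SC hg.1, h g hg⟩
  have h2 := card_eq_card_im_mul ph_ker (inf_le_right.trans (N0_le hv) : S ⊓ Nor R ⊓ N0 R A ≤ _)
  have h3 : S ⊓ Nor R ⊓ Cen1 v ≤ R := fun g hg => by
    by_contra gR
    exact vA (e.cz c m hv hg.1.1 gR hg.2)
  have h4 : R ≤ S ⊓ Nor R ⊓ N0 R A ⊓ Cen1 v :=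
    le_inf (le_inf (e.RP c) (e.RN0 c)) (cen_iff_le.1 hv.2)
  have h5 := card_le_of_le h3
  have h6 := card_le_of_le h4
  have h7 := card_le_of_le (inf_le_left : S ⊓ Nor R ⊓ N0 R A ≤ _)
  rw [e.trP c m hv vA] at h2
  rw [c.four] at h1 h2
  exact ⟨by omega, (eq_of_le_of_card_ge (inf_le_left : S ⊓ Nor R ⊓ N0 R A ≤ _)
    (by omega)).ge.trans inf_le_right⟩

theorem cmA (hz : z ∈ R ⊓ Cen R) (hs : s ∈ S ⊓ Nor R) : ⁅z, s⁆ ∈ A :=
  ((e.cardP c m).2 hs).2.2.2 z hz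

/-- `P` is transitive on the cosets -/
theorem tr (hv : v ∈ R ⊓ Cen R) (vA : v ∉ A) (ha : a ∈ A) : ∃ g ∈ S ⊓ Nor R, ⁅v, g⁆ = a := by
  obtain ⟨g, hg, h⟩ := (e.trP c m hv vA).ge ha
  exact ⟨g, hg.1, h⟩

theorem sqP (hs : s ∈ S ⊓ Nor R) : s * s ∈ R := by
  refine e.mem c (mul_mem hs.1 hs.1) (c1s.1 (c1.2 (commutatorElement_eq_one_iff_mul_comm.1 ?_)))
  have h := N0_le (e.xZ c) ((e.cardP c m).2 hs)
  exact (map_mul (ph A x) ⟨s, h⟩ ⟨s, h⟩).trans (c.el _ h.2)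

theorem bad (hv : v ∈ R ⊓ Cen R) (vA : v ∉ A) : Bd A v := by
  obtain ⟨a, ha, ba⟩ := c.coset (e.elZ c m hv) (centralizer_anti e.AR hv.2) vA
  obtain ⟨g, hg, h⟩ := e.tr c m hv vA ha
  have := ba.conj (inv_mem (c.gl.nS hg.1))
  rwa [← GW.cen.1 hv.2 a (e.AR ha), ← cm_conj (e.elZ c m hv) h,
    show g⁻¹ * (g * v * g⁻¹) * g⁻¹⁻¹ = v by group] at this

theorem exn : ∃ n ∈ Nor R, n ∈ Nor (S ⊓ Nor R : Subgroup G) ∧ n ∈ Nor S ∧ n ∉ Cen A ∧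
    n ∈ cMod (R ⊓ Cen R) A := by
  obtain ⟨n, hn, h⟩ := ((e.sylP c).of_le (e.cardP c m).2 inf_le_left).frattini (e.nN0 c m.yn)
  exact ⟨_, mul_mem (inv_mem hn.1) m.yn, h, c.gl.ai.nor c.gl.syl inf_le_left (e.naP c) ⟨trivial, h⟩,
    fun h1 => m.yA ((mul_mem_cancel_left (H := Cen A) (inv_mem hn.2.1)).1 h1),
    mul_mem (inv_mem hn.2.2) (e.yc c m)⟩

end Ex

end AI
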