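import Cfsg.Agent.AI.F4b
import Cfsg.Agent.P3.B0

/-! FOUR: recognizing the Sylow 2-subgroup of `L₃(4)`. -/

set_option autoImplicit false
set_option linter.unusedVariables false
set_option linter.unusedSectionVars false

namespace AI

open Cfsg Subgroup FT H4 H5 GW L
open TW (i4 i40 i41 i42 i43 om cases4 i4_mem)
open P3 (T3)
open scoped commutatorElement

universe u

variable {G : Type u} [Group G] [Finite G] {S A R P T U : Subgroup G} {x y z g a b r u : G}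

theorem i4_add (ha : a * a = 1) (hb : b * b = 1) (h : Commute a b) (c d : H2.F4) :
    i4 a b (c + d) = i4 a b c * i4 a b d := by
  have k : ∀ c d : H2.F4, (c + d).val.1 % 2 % 2 = (c.val.1 % 2 + d.val.1 % 2) % 2 ∧
      (c + d).val.1 / 2 % 2 = (c.val.1 / 2 + d.val.1 / 2) % 2 := by decide +kernel
  rw [i4, i4, i4, (h.symm.pow_pow _ _).mul_mul_mul_comm, ← pow_add, ← pow_add,
    pow_eq_pow_mod _ ((sq a).trans ha), (k c d).1, ← pow_eq_pow_mod _ ((sq a).trans ha),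
    pow_eq_pow_mod _ ((sq b).trans hb), (k c d).2, ← pow_eq_pow_mod _ ((sq b).trans hb)]

/-- two elementary subgroups paired by the commutator map -/
structure Pr (P A R U : Subgroup G) : Prop where
  four : Nat.card A = 4
  AP : A ≤ P
  cen : A ≤ Cen P
  cm : ∀ p ∈ P, ∀ q ∈ P, ⁅p, q⁆ ∈ A
  RP : R ≤ P
  UP : U ≤ P
  eA : ∀ a ∈ A, a * a = 1
  eR : ∀ a ∈ R, a * a = 1
  eU : ∀ a ∈ U, a * a = 1
  nd : ∀ r ∈ R, r ∉ A → ∀ u ∈ U, u ∉ A → ⁅r, u⁆ ≠ 1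
  s1 : ∀ u ∈ U, u ∉ A → ∀ a ∈ A, ∃ r ∈ R, ⁅r, u⁆ = a
  s2 : ∀ r ∈ R, r ∉ A → ∀ a ∈ A, ∃ u ∈ U, ⁅r, u⁆ = a
  nR : ¬ R ≤ A
  nU : ¬ U ≤ A

namespace Pr

variable (h : Pr P A R U)
include h

theorem mr (hx : x ∈ P) (hy : y ∈ P) (hz : z ∈ P) : ⁅x, y * z⁆ = ⁅x, y⁆ * ⁅x, z⁆ := by
  rw [commutatorElement_mul_right_eq_mul_conj, mul_assoc _ y,
    ← GW.cen.1 (h.cen (h.cm x hx z hz)) y hy]
  group

theorem ml (hx : x ∈ P) (hy : y ∈ P) (hz : z ∈ P) : ⁅x * y, z⁆ = ⁅x, z⁆ * ⁅y, z⁆ := by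
  rw [commutatorElement_mul_left_eq_conj_mul, ← GW.cen.1 (h.cen (h.cm y hy z hz)) x hx,
    mul_inv_cancel_right, M4.el_comm h.eA (h.cm x hx z hz) (h.cm y hy z hz)]

theorem c1 (hx : x ∈ A) (hy : y ∈ P) : ⁅x, y⁆ = 1 :=
  commutatorElement_eq_one_iff_mul_comm.2 (GW.cen.1 (h.cen hx) y hy)

theorem c2 (hx : x ∈ P) (hy : y ∈ A) : ⁅x, y⁆ = 1 :=
  commutatorElement_eq_one_iff_mul_comm.2 (GW.cen.1 (h.cen hy) x hx).symm

theorem emb : ∃ j : T3 →* G, Function.Injective j ∧ j.range ≤ P ∧ ∀ d, j ⟨0, 0, d⟩ ∈ A := by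
  obtain ⟨e1, he1, e1A⟩ := SetLike.not_le_iff_exists.1 h.nR
  obtain ⟨u1, hu1, u1A⟩ := SetLike.not_le_iff_exists.1 h.nU
  have p1 := h.RP he1
  have q1 := h.UP hu1
  have cA := h.cm _ p1 _ q1
  have c0 := h.nd _ he1 e1A _ hu1 u1A
  generalize k11 : ⁅e1, u1⁆ = c at cA c0
  obtain ⟨d, dA, b1⟩ : ∃ b ∈ A, b ∉ zpowers c := by
    by_contra! hn
    have := card_le_of_le (show A ≤ zpowers c from hn)
    rw [Nat.card_zpowers, W.o2 (h.eA c cA) c0, h.four] at this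
    omega
  have f : GW.F4 c d := ⟨W.o2 (h.eA c cA) c0, W.o2 (h.eA d dA) fun e => b1 (e ▸ one_mem _),
    M4.el_comm h.eA cA dA, fun e => b1 (e ▸ mem_zpowers _)⟩
  have hV : V4 c d = A := eq_of_le_of_card_ge (V_le cA dA) (by rw [Dg.card_V f, h.four])
  obtain ⟨e2, he2, k21⟩ := h.s1 _ hu1 u1A d dA
  obtain ⟨u2, hu2, k12⟩ := h.s2 _ he1 e1A d dA
  have p2 := h.RP he2
  have q2 := h.UP hu2
  have n1 : ∀ r ∈ R, ⁅r, u1⁆ ≠ 1 → r ∉ A := fun r _ e e' => e (h.c1 e' q1)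
  have n2 : ∀ u ∈ U, ⁅e1, u⁆ ≠ 1 → u ∉ A := fun u _ e e' => e (h.c2 p1 e')
  have e2A := n1 e2 he2 (k21 ▸ ine f.ha)
  have u2A := n2 u2 hu2 (k12 ▸ ine f.ha)
  have e3A := n1 _ (mul_mem he1 he2) (by rw [h.ml p1 p2 q1, k11, k21]; exact ine f.hta)
  have u3A := n2 _ (mul_mem hu1 hu2) (by rw [h.mr p1 q1 q2, k11, k12]; exact ine f.hta)
  have k22 : ⁅e2, u2⁆ = c * d := by
    rcases f.mem_V.1 (hV ▸ h.cm _ p2 _ q2) with e | e | e | e
    · exact absurd e (h.nd _ he2 e2A _ hu2 u2A)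
    · refine absurd ?_ (h.nd _ (mul_mem he1 he2) e3A _ (mul_mem hu1 hu2) u3A)
      rw [h.ml p1 p2 (mul_mem q1 q2), h.mr p1 q1 q2, h.mr p2 q1 q2, k11, k12, k21, e, ← f.c, f.sq]
    · refine absurd ?_ (h.nd _ (mul_mem he1 he2) e3A _ hu2 u2A)
      rw [h.ml p1 p2 q2, k12, e, ii f.ha]
    · exact e
  have aa := i4_add (h.eR _ he1) (h.eR _ he2) (M4.el_comm h.eR he1 he2)
  have ab := i4_add (h.eU _ hu1) (h.eU _ hu2) (M4.el_comm h.eU hu1 hu2)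
  have ac := i4_add (ii f.ht) (ii f.ha) f.comm
  have b1 : ∀ a, ⁅i4 e1 e2 a, u1⁆ = i4 c d a := fun a => by
    rcases cases4 a with rfl | rfl | rfl | rfl
    · simp [i40]
    · rw [i41, i41, k11]
    · rw [i42, i42, k21]
    · rw [i43, i43, h.ml p1 p2 q1, k11, k21]
  have b2 : ∀ a, ⁅i4 e1 e2 a, u2⁆ = i4 c d (a * om) := fun a => by
    rcases cases4 a with rfl | rfl | rfl | rfl
    · simp [i40]
    · rw [i41, one_mul, i42, k12]
    · rw [i42, show om * om = 1 + om by decide +kernel, i43, k22]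
    · rw [i43, show (1 + om) * om = 1 by decide +kernel, i41, h.ml p1 p2 q2, k12, k22, f.ata]
  have bb : ∀ a b, ⁅i4 e1 e2 a, i4 u1 u2 b⁆ = i4 c d (a * b) := fun a b => by
    rcases cases4 b with rfl | rfl | rfl | rfl
    · simp [i40]
    · rw [i41, mul_one, b1]
    · rw [i42, b2]
    · rw [i43, h.mr (i4_mem p1 p2 a) q1 q2, b1, b2, mul_add, mul_one, ac]
  have zc : ∀ a, ∀ y ∈ P, Commute (i4 c d a) y := fun a => GW.cen.1 (h.cen (i4_mem cA dA a))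
  let j : T3 →* G := MonoidHom.mk' (fun x => i4 u1 u2 x.b * i4 e1 e2 x.a * i4 c d x.c)
    fun x y => by
      have e := bb x.a y.b
      have m1 := i4_mem p1 p2
      have m2 := i4_mem q1 q2
      rw [commutatorElement_def, mul_inv_eq_iff_eq_mul, mul_inv_eq_iff_eq_mul] at e
      simp only [P3.T3.mul_def, aa, ab, ac, mul_assoc]
      rw [(zc x.c _ (m2 _)).left_comm, (zc x.c _ (m1 _)).left_comm, ← mul_assoc (i4 e1 e2 x.a)
        (i4 u1 u2 y.b), e]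
      simp only [mul_assoc]
      rw [(zc (x.a * y.b) _ (m2 _)).left_comm, (zc (x.a * y.b) _ (m1 _)).left_comm,
        (zc (x.a * y.b) _ (m1 _)).left_comm, (zc (x.a * y.b) _ (h.AP (i4_mem cA dA _))).left_comm,
        (zc (x.a * y.b) _ (h.AP (i4_mem cA dA _))).eq]
  have jz : ∀ a, j ⟨0, 0, a⟩ = i4 c d a := fun a => by simp [j, i40]
  have inj : ∀ a, j ⟨0, 0, a⟩ = 1 → a = 0 := fun a e => by
    rw [jz] at e
    rcases cases4 a with rfl | rfl | rfl | rfl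
    · rfl
    · exact absurd (i41.symm.trans e) (ine f.ht)
    · exact absurd (i42.symm.trans e) (ine f.ha)
    · exact absurd (i43.symm.trans e) (ine f.hta)
  refine ⟨j, (injective_iff_map_eq_one j).2 fun x e => ?_, ?_, fun a => jz a ▸ i4_mem cA dA a⟩
  · have k : ∀ x : T3, (⟨0, 0, x.a⟩ : T3) = x * ⟨0, 1, 0⟩ * x⁻¹ * (⟨0, 1, 0⟩ : T3)⁻¹ ∧
        (⟨0, 0, x.b⟩ : T3) = x * ⟨1, 0, 0⟩ * x⁻¹ * (⟨1, 0, 0⟩ : T3)⁻¹ := by decide +kernel
    have e1 := inj x.a (by rw [(k x).1]; simp [e])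
    have e2 := inj x.b (by rw [(k x).2]; simp [e])
    obtain ⟨a, b, c⟩ := x
    obtain rfl : a = 0 := e1
    obtain rfl : b = 0 := e2
    rw [inj c e]; rfl
  · rintro _ ⟨x, rfl⟩
    exact mul_mem (mul_mem (i4_mem q1 q2 _) (i4_mem p1 p2 _)) (h.AP (i4_mem cA dA _))

end Pr

theorem Gl.not_pr (c : Gl S A) (h : Pr S A R U) (h64 : Nat.card S = 64) : False := by
  obtain ⟨j, inj, le, jA⟩ := h.emb
  have e : j.range = S := eq_of_le_of_card_ge le (by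
    rw [h64, ← Nat.card_congr (MonoidHom.ofInjective inj).toEquiv, Nat.card_eq_fintype_card,
      P3.T3.card_T3])
  have s : A8.SJ j := ⟨inj, e ▸ c.syl⟩
  have k : ∀ {j : T3 →* G}, A8.SJ j → Nor (P3.VV j) ≠ ⊤ := fun {j} s =>
    c.nor_ne (isSolvable_of_isPGroup (s.syl.isPGroup.to_le (map_le_range j _))) fun e => by
      have e1 : j ⟨1, 0, 0⟩ ∈ P3.VV j := ⟨_, P3.mem_V0.2 rfl, rfl⟩
      rw [e, mem_bot, ← map_one j] at e1
      exact absurd (s.inj e1) (by decide +kernel)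
  rcases P3.cases3 s c.core with ⟨⟨a, b, d, a0, e1⟩, -⟩ | e1 | e1
  · obtain ⟨g, e1⟩ := isConj_iff.1 e1
    have e2 := c.sc.sc g trivial _ (jA d) (e1 ▸ c.nS (le ⟨_, rfl⟩))
    have e3 := GW.cen.1 (h.cen (e1 ▸ e2)) _ (le ⟨⟨0, 1, 0⟩, rfl⟩)
    rw [← map_mul, ← map_mul] at e3
    exact a0 ((by decide +kernel : ∀ a b : H2.F4,
      (⟨a, 0, b⟩ : T3) * ⟨0, 1, 0⟩ = ⟨0, 1, 0⟩ * ⟨a, 0, b⟩ → a = 0) a b (inj e3))
  · exact k s e1
  · exact k (s.aut P3.tau P3.tau_bij) e1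

end AI
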