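import Cfsg.Agent.AI.F4c
import Cfsg.Agent.TW.Fin

/-! FOUR: the extremal subgroups are not all abelian. -/

set_option autoImplicit false
set_option linter.unusedVariables false
set_option linter.unusedSectionVars false

namespace AI

open Cfsg Subgroup FT H4 H5 GW L
open W (CM HasSE TO Om)
open M4 (SC)
open scoped commutatorElement

universe u

variable {G : Type u} [Group G] [Finite G] {S A R P T U E : Subgroup G} {x y z g a b r s u : G}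

theorem Pr.inv (h : Pr P A R U) (AR : A ≤ R) (AU : A ≤ U) (hx : x ∈ R) (xA : x ∉ A)
    (cx : P ⊓ Cen1 x ≤ R) (hz : z ∈ P) (zz : z * z = 1) : z ∈ R ∨ z ∈ U := by
  have xP := h.RP hx
  obtain ⟨u, hu, e⟩ := h.s2 x hx xA _ (h.cm x xP z hz)
  have hr : z * u ∈ R := cx ⟨mul_mem hz (h.UP hu), c1s.1 (GW.c1.2
    (commutatorElement_eq_one_iff_mul_comm.1 (by
      rw [h.mr xP hz (h.UP hu), e]; exact h.eA _ (h.cm x xP z hz))))⟩
  by_contra! hn
  refine h.nd _ hr (fun e1 => hn.2 ((mul_mem_cancel_right hu).1 (AU e1))) u hu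
    (fun e1 => hn.1 ((mul_mem_cancel_right (AR e1)).1 hr)) ?_
  rw [commutatorElement_def, inv_eq_of_mul_eq_one_right (h.eR _ hr), mul_assoc z, h.eU u hu,
    mul_one, ← mul_assoc, zz, one_mul, mul_inv_cancel]

namespace Ex

variable (e : Ex S A R x) (c : F4 S A) (ab : R ≤ Cen R)
include e c ab

theorem cm_ab : ∃ E y, Cm R A E y := by
  obtain ⟨K, b⟩ := exists_bad (e.ctx c).sc e.bd.2.2.2
  have ba := lca G _ _ _ K (e.ctx c) b (commutator_le.2 fun p hp q hq => by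
    rw [commutatorElement_eq_one_iff_mul_comm.2 (GW.cen.1 (ab hp.1) q hq.1)]; exact one_mem _)
  have e1 : R ⊓ K = A := eq_of_le_of_card_ge ba.le (c.four ▸ ba.four)
  obtain ⟨p, q, f, e2, -⟩ := TW.four_ex c.el c.four (S := ⊥) IsPGroup.of_bot bot_le
  have hp : p ∈ A := e2 ▸ t_V p q
  obtain ⟨y, -, y1, y2, y3⟩ := ba.tr p (e1 ▸ hp) q (e1 ▸ e2 ▸ a_V p q) (ine f.ht) (ine f.ha)
  have d : R ⊓ Cen R ≤ A ⊔ R ⊓ CM K := fun z hz => by
    obtain ⟨b, hb, k, hk, rfl⟩ := ba.dec z hz.1 (centralizer_anti inf_le_left hz.2)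
    exact mul_mem (mem_sup_left (e1 ▸ hb)) (mem_sup_right hk)
  refine ⟨_, y, inf_le_left, inf_le_left.trans ab, eq_bot_iff.2 fun z hz =>
    ba.inf ▸ mem_inf.2 ⟨e1 ▸ hz.1, hz.2.2⟩, d, ?_, y2, fun h => f.ne ?_⟩
  · rw [show R = A ⊔ R ⊓ CM K from le_antisymm ((le_inf le_rfl ab).trans d)
      (sup_le e.AR inf_le_left)]
    exact msup (e1 ▸ y1) (mcnor y2)
  · rw [← y3, GW.cen.1 h p hp, mul_inv_cancel_right]

variable (m : Cm R A E y)
include m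

theorem cardR : Nat.card R = 4 * Nat.card E := by
  rw [show R = A ⊔ E from le_antisymm ((le_inf le_rfl ab).trans m.dec) (sup_le e.AR m.ER),
    card_sup_of_disjoint (cnor ((m.ER.trans e.RS).trans c.SC)) m.AE, c.four]

theorem small : 8 < Nat.card R := by
  by_contra! h8
  have := c.gl.simple
  have : Group.IsPerfect G := ⟨W.simple_perfect c.gl.nc⟩
  obtain ⟨⟨t, ht⟩, t1⟩ := (ne_bot_iff_exists_ne_one (H := E)).1 fun h =>
    e.bd.2.2.1 (by simpa [h] using m.dec (e.xZ c))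
  have tZ : t ∈ R ⊓ Cen R := ⟨m.ER ht, m.Ec ht⟩
  have tA : t ∉ A := fun h => t1 (Subtype.ext (e.one c m h ht))
  have e' := e.of_cen (e.bad c m tZ tA) tZ.2
  obtain ⟨⟨a, ha⟩, a1⟩ := (ne_bot_iff_exists_ne_one).1 c.gl.ne
  obtain ⟨f, e1, r⟩ := c.rot (e.nA c m.yn) m.yA ha fun h => a1 (Subtype.ext h)
  have sb : ∀ P : Subgroup G, IsPGroup 2 P → P ≤ Cen1 t → Nat.card P ≤ 8 := fun P hP le =>
    (e.max t e'.bd P hP le).trans h8
  have At := cen_iff_le.1 e'.bd.2.1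
  have w := TW.tw4 f e'.bd.1 (At ha) (At (cmem (e.nA c m.yn) ha)) (e1 ▸ tA)
    (cen_iff_le.1 m.yE ht |> c1s.1) r fun P hP _ => sb P hP
  have le : A ⊔ zpowers t ≤ R := sup_le e.AR (zpowers_le.2 tZ.1)
  have h := w.ev (fun P hP le => TW.nat4 ▸ sb P hP le) (fun z h => by
    obtain ⟨g, -, h1⟩ := e'.syl.exists_conj_le (Q := zpowers z) (isPGroup_zpowers_of_pow (k := 1 + 1)
      (by rw [TW.pw4, h, e'.bd.1])) (zpowers_le.2 (c1.2 (by rw [← h, mul_assoc])))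
    have h2 := h1 (conj_mem_conjS (mem_zpowers z))
    have h3 := e.elZ c m ⟨h2, ab h2⟩
    rw [conj_mul, h, conj_eq_one_iff] at h3
    exact e'.bd.ne h3) (fun g _ => w.sl4 g) fun g _ hg => by
      rw [TW.Ur_i4, e1] at hg ⊢
      exact sc_nor c.gl.sc (e.two.to_le le) le_top le_sup_left ⟨trivial, hg⟩
  rw [TW.Ur_i4, e1] at h
  exact e.ne (le_antisymm e.RS ((h.eq_of_le c.gl.syl.isPGroup (le.trans e.RS) le_top).le.trans le))

theorem c16 : Nat.card R = 16 := by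
  have h1 := e.cardR c ab m
  have h2 := e.small c ab m
  have h3 := e.cardE c m
  have h4 := (e.two.to_le m.ER).card_eq_or_dvd
  omega

theorem trR (hs : s ∈ S ⊓ Nor R) (sR : s ∉ R) (ha : a ∈ A) : ∃ r ∈ R, ⁅s, r⁆ = a := by
  have le : R ≤ Tv A s := fun r hr => ⟨c.SC (e.RS hr), by
    rw [← commutatorElement_inv]; exact inv_mem (e.cmA c m ⟨hr, ab hr⟩ hs)⟩
  have h1 := card_eq_card_im_mul ph_ker le
  have h2 := card_le_of_le (show R ⊓ Cen1 s ≤ A from fun z hz =>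
    e.cz c m ⟨hz.1, ab hz.1⟩ hs.1 sR (c1s.1 hz.2))
  rw [e.c16 c ab m] at h1
  rw [c.four] at h2
  obtain ⟨g, hg, h⟩ := (eq_of_le_of_card_ge (ph_le (A := A) (v := s) (T := R))
    (by rw [c.four]; nlinarith)).ge ha
  exact ⟨g, hg, h⟩

theorem sqA (hs : s ∈ S ⊓ Nor R) : s * s ∈ A := by
  by_cases sR : s ∈ R
  · exact e.elZ c m ⟨sR, ab sR⟩ ▸ one_mem A
  · have h := e.sqP c m hs
    exact e.cz c m ⟨h, ab h⟩ hs.1 sR (c1.2 (mul_assoc ..).symm)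

theorem cmP (hr : r ∈ S ⊓ Nor R) (hs : s ∈ S ⊓ Nor R) : ⁅r, s⁆ ∈ A :=
  mem_of_eq (mul_mem (mul_mem (e.sqA c ab m (mul_mem hr hs)) (cmem' (c.gl.nS hs.1)
    (e.sqA c ab m (inv_mem hr)))) (e.sqA c ab m (inv_mem hs)))
    (by simp [commutatorElement_def, mul_assoc])

theorem second : ∃ w ∈ S ⊓ Nor R, w ∉ R ∧ Ex S A (S ⊓ Nor R ⊓ Cen1 w) w := by
  obtain ⟨s, hs, sR, -⟩ := e.ex_s c
  have h1 := e.sqA c ab m hs
  obtain ⟨z, hz, h⟩ := e.trR c ab m hs sR h1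
  have hu := mul_mem hs (e.RP c hz)
  have uR : s * z ∉ R := mt (mul_mem_cancel_right hz).1 sR
  obtain ⟨a, ha, bd⟩ := c.coset (t := s * z) (by
    rw [show s * z * (s * z) = ⁅s, z⁆ * (z * (s * s) * z) by
      simp [commutatorElement_def, mul_assoc], h, ← GW.cen.1 (c.cen h1) z (e.RS hz),
      mul_assoc (s * s) z, e.elZ c m ⟨hz, ab hz⟩, mul_one, c.el _ h1]) (c.SC hu.1) fun h => uR (e.AR h)
  have hw := mul_mem (e.RP c (e.AR ha)) hu
  have wR : a * (s * z) ∉ R := mt (mul_mem_cancel_left (e.AR ha)).1 uR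
  generalize a * (s * z) = w at bd hw wR
  have h2 := cls (T := S ⊓ Nor R) (A := A) (v := w) fun g hg => ⟨c.SC hg.1, e.cmP c ab m hw hg⟩
  rw [(e.cardP c m).1, c.four] at h2
  obtain ⟨T, hT⟩ := exists_isSylowOf 2 (Cen1 w)
  refine ⟨w, hw, wR, bd, hT.of_card_le c.gl.syl.isPGroup.to_inf_left.to_inf_left inf_le_right
    ((e.max w bd T hT.isPGroup hT.le).trans (by omega)),
    le_inf (e.AR.trans (e.RP c)) (cen_iff_le.1 bd.2.1), inf_le_left.trans inf_le_left,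
    fun h => wR (e.mem c hw.1 (c1s.1 (h.ge (e.RS e.xR)).2)),
    fun y hy P hP le => (e.max y hy P hP le).trans (by omega)⟩

end Ex

theorem F4.ab (c : F4 S A) (hall : ∀ R x, Ex S A R x → R ≤ Cen R) (e : Ex S A R x) : False := by
  have ab := hall _ _ e
  obtain ⟨E, y, m⟩ := e.cm_ab c ab
  obtain ⟨w, hw, wR, e'⟩ := e.second c ab m
  have ab' := hall _ _ e'
  obtain ⟨E', y', m'⟩ := e'.cm_ab c ab'
  have cP := (e.cardP c m).1
  have c1 := e.c16 c ab m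
  have c2 := e'.c16 c ab' m'
  have RU : ∀ u ∈ R, u ∈ S ⊓ Nor R ⊓ Cen1 w → u ∈ A := fun u h1 h2 =>
    e.cz c m ⟨h1, ab h1⟩ hw.1 wR (c1s.1 h2.2)
  have UP : S ⊓ Nor R ⊓ Cen1 w ≤ S ⊓ Nor R := inf_le_left
  generalize S ⊓ Nor R ⊓ Cen1 w = U at e' ab' m' c2 RU UP
  have pr : Pr (S ⊓ Nor R) A R U := ⟨c.four, e.AR.trans (e.RP c),
    c.cen.trans (centralizer_anti inf_le_left), fun p hp q hq => e.cmP c ab m hp hq, e.RP c, UP,
    c.el, fun r hr => e.elZ c m ⟨hr, ab hr⟩, fun r hr => e'.elZ c m' ⟨hr, ab' hr⟩,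
    fun r hr rA u hu uA h => rA (e.cz c m ⟨hr, ab hr⟩ (UP hu).1 (fun h => uA (RU u h hu))
      (c1s.1 (GW.c1.2 (commutatorElement_eq_one_iff_mul_comm.1 h)))),
    fun u hu uA a ha => by
      obtain ⟨r, hr, h⟩ := e.trR c ab m (UP hu) (fun h => uA (RU u h hu)) (inv_mem ha)
      exact ⟨r, hr, by rw [← commutatorElement_inv, h, inv_inv]⟩,
    fun r hr rA a ha => e'.trR c ab' m' ⟨e.RS hr, mnor fun u hu => mem_of_eq
      (mul_mem (e'.AR (e.cmP c ab m (e.RP c hr) (UP hu))) hu)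
      (by simp [commutatorElement_def])⟩ (fun h => rA (RU r hr h)) ha,
    fun h => e.bd.2.2.1 (h e.xR), fun h => e'.bd.2.2.1 (h e'.xR)⟩
  by_cases hS : S ⊓ Nor R = S
  · rw [hS] at pr cP
    exact c.gl.not_pr pr (by omega)
  obtain ⟨n, n1, n2, n3, n4, n5⟩ := e.exn c m
  have cx : S ⊓ Nor R ⊓ Cen1 x ≤ R := fun g hg => e.mem c hg.1.1 hg.2
  have key : ∀ g ∈ S ⊓ Nor (S ⊓ Nor R : Subgroup G), g ∉ S ⊓ Nor R → conjS g R = U :=
    fun g hg gP => by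
      have k : ∀ r ∈ R, g * r * g⁻¹ ∈ R ∨ g * r * g⁻¹ ∈ U := fun r hr =>
        pr.inv e.AR e'.AR e.xR e.bd.2.2.1 cx (cmem hg.2 (e.RP c hr)) (W.csq (pr.eR r hr))
      obtain ⟨p, hp, p1⟩ : ∃ p ∈ R, g * p * g⁻¹ ∉ R := by
        by_contra! h
        exact gP ⟨hg.1, mnor h⟩
      refine eq_of_le_of_card_ge ?_ (by rw [card_conjS, c1, c2])
      rintro _ ⟨q, hq, rfl⟩
      refine (k q hq).elim (fun h => ?_) id
      rcases k _ (mul_mem hq hp) with h1 | h1 <;> rw [← conj_mul] at h1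
      · exact absurd ((mul_mem_cancel_left h).1 h1) p1
      · exact (mul_mem_cancel_right ((k p hp).resolve_left p1)).1 h1
  obtain ⟨g, hg, gP⟩ := SetLike.exists_of_lt (lt_inf_normalizer_of_isPGroup c.gl.syl.isPGroup
    (lt_of_le_of_ne inf_le_left hS))
  have hh : n * g * n⁻¹ ∈ S ⊓ Nor (S ⊓ Nor R : Subgroup G) :=
    mem_inf.2 ⟨cmem n3 hg.1, mul_mem (mul_mem n2 (mem_inf.1 hg).2) (inv_mem n2)⟩
  have k1 := key g hg gP
  have k2 := key _ hh fun h => gP (mem_of_eq (cmem' n2 h) (by group))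
  have hp : g⁻¹ * (n * g * n⁻¹) ∈ S ⊓ Nor R := mem_inf.2 ⟨mul_mem (inv_mem (mem_inf.1 hg).1) hh.1,
    mem_normalizer_iff_conjS.2 (by rw [← conjS_conjS, k2, ← k1, conjS_inv_conjS])⟩
  have uU : g * x * g⁻¹ ∈ U := k1 ▸ conj_mem_conjS e.xR
  have uA := (e.bd.conj (c.gl.nS hg.1)).2.2.1
  have xP := e.RP c e.xR
  have a1 := n5.2 x (e.xZ c)
  have a2 := pr.cm _ xP _ hp
  have a3 := mul_mem a2 a1
  refine (c.rot (e.nA c n1) n4 (pr.cm _ xP _ (UP uU)) (pr.nd _ e.xR e.bd.2.2.1 _ uU uA)).1.ne ?_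
  have k3 : n * (g * x * g⁻¹) * n⁻¹ =
      g * x * g⁻¹ * (⁅x, g⁻¹ * (n * g * n⁻¹)⁆ * ⁅x, n⁆) := by
    rw [← c1'.1 (cen_iff_le.1 (c.SC hg.1) a3 |> c1s.1), conj_mul, ← mul_assoc x,
      ← cm_conj e.bd.1 rfl, ← c1'.1 (cen_iff_le.1 (c.SC hp.1) a1 |> c1s.1), conj_mul,
      ← cm_conj e.bd.1 rfl]
    group
  rw [conjugate_commutatorElement, k3, cm_conj e.bd.1 rfl,
    pr.ml xP (pr.AP a1) (mul_mem (UP uU) (pr.AP a3)), pr.c1 a1 (mul_mem (UP uU) (pr.AP a3)),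
    mul_one, pr.mr xP (UP uU) (pr.AP a3), pr.c2 xP a3, mul_one]

theorem fourThm_of (na : ∀ (G : Type u) [Group G] [Finite G] (S A R : Subgroup G) (x : G), F4 S A →
    Ex S A R x → ¬ R ≤ Cen R → HasSE G) : FourThm.{u} := fun G _ _ S A g h1 h2 h3 => by
  have c : F4 S A := ⟨g, h1, h2, h3⟩
  refine or_iff_not_imp_left.2 fun h => ?_
  by_contra se
  obtain ⟨R, x, e⟩ := c.ex h
  exact c.ab (fun R x e => by_contra fun h => se (na G S A R x c e h)) e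

end AI
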