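import Cfsg.Agent.AI.Alp
import Cfsg.Agent.SF.L

/-! Failure of factorization with abelian Sylow intersections. -/

set_option autoImplicit false
set_option linter.unusedVariables false
set_option linter.unusedSectionVars false

namespace AI

open Cfsg Subgroup FT H4 H5 GW L

universe u

variable {G : Type*} [Group G] [Finite G] {S P T U V L R C : Subgroup G} {g k x y u v : G}

theorem sup_syl (hT : IsSylowOf 2 T (T ⊔ C)) (hR : IsSylowOf 2 R (T ⊔ C)) (hn : T ≤ Nor C) :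
    R ⊔ C = T ⊔ C := by
  obtain ⟨k, hk, rfl⟩ := hT.exists_conj hR
  rw [← conjS_eq_of_mem hk, conjS_sup, mem_normalizer_iff_conjS.1 (sup_le hn le_normalizer hk)]

theorem le_sup_of_rel (h1 : R ≤ S) (h2 : S ≤ Nor C) (e : C.relIndex S ≤ C.relIndex R) :
    S ≤ C ⊔ R := by
  have e1 := card_mul_relIndex (le_sup_left : C ≤ C ⊔ S)
  have e2 := card_mul_relIndex (le_sup_left : C ≤ C ⊔ R)
  rw [relIndex_sup_of_le_normalizer h2] at e1
  rw [relIndex_sup_of_le_normalizer (h1.trans h2)] at e2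
  exact le_sup_right.trans (eq_of_le_of_card_ge (sup_le_sup_left h1 C)
    (by rw [← e1, ← e2]; exact Nat.mul_le_mul_left _ e)).ge

/-- a group acting on the abelian 2-group `V` with a non-normal Sylow 2-subgroup -/
structure FS (L V T : Subgroup G) : Prop where
  ai : AbI L
  ab : V ≤ Cen V
  two : IsPGroup 2 V
  le : V ≤ L
  nor : L ≤ Nor V
  syl : IsSylowOf 2 T L
  nn : ¬ L ≤ Nor (T ⊔ L ⊓ Cen V : Subgroup G)

namespace FS

variable (h : FS L V T)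
include h

theorem nC : L ≤ Nor (L ⊓ Cen V : Subgroup G) := ninf le_normalizer (ncen h.nor)

theorem ML : T ⊔ L ⊓ Cen V ≤ L := sup_le h.syl.le inf_le_left

theorem cj (hg : g ∈ L) : conjS g (T ⊔ L ⊓ Cen V) = conjS g T ⊔ L ⊓ Cen V := by
  rw [conjS_sup, mem_normalizer_iff_conjS.1 (h.nC hg)]

/-- trivial intersection -/
theorem ti (h2 : PElt 2 x) (hx : x ∈ T ⊔ L ⊓ Cen V) (hc : x ∉ Cen V) (hg : g ∈ L)
    (e : g⁻¹ * x * g ∈ T ⊔ L ⊓ Cen V) : g ∈ Nor (T ⊔ L ⊓ Cen V : Subgroup G) := by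
  have key : ∀ T', IsSylowOf 2 T' L → x ∈ T' ⊔ L ⊓ Cen V → ∃ R, IsSylowOf 2 R L ∧
      V ⊔ zpowers x ≤ R ∧ R ⊔ L ⊓ Cen V = T' ⊔ L ⊓ Cen V := fun T' hT hx => by
    have l := sup_le hT.le (inf_le_left : L ⊓ Cen V ≤ L)
    obtain ⟨k, hk⟩ := h2
    obtain ⟨R, hR, e⟩ := exists_isSylowOf_ge (K := T' ⊔ L ⊓ Cen V)
      (h.two.to_sup_of_normal_left' (isPGroup_zpowers_of_pow hk) (zpowers_le.2 (h.nor (l hx))))
      (sup_le (le_sup_of_le_right (le_inf h.le h.ab)) (zpowers_le.2 hx))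
    exact ⟨R, W.syl_up hT le_sup_left l hR, e,
      sup_syl (hT.of_le le_sup_left l) hR (hT.le.trans h.nC)⟩
  obtain ⟨R, h1, h3, h4⟩ := key T h.syl hx
  obtain ⟨R', h5, h6, h7⟩ := key _ (h.syl.map_conj (le_normalizer hg))
    (h.cj hg ▸ mem_conjS.2 e)
  obtain rfl := h.ai.uniq h1 h5 h3 h6 fun e =>
    hc (centralizer_anti le_sup_left (e (mem_sup_right (mem_zpowers x))))
  exact mem_normalizer_iff_conjS.2 ((h.cj hg).trans (h7.symm.trans h4))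

theorem mem (h2 : PElt 2 x) (hx : x ∈ L) (hn : x ∈ Nor (T ⊔ L ⊓ Cen V : Subgroup G)) :
    x ∈ T ⊔ L ⊓ Cen V := by
  obtain ⟨j, hj⟩ := h2
  obtain ⟨k, hk, e⟩ := (h.syl.of_le (le_inf h.syl.le (lnor le_sup_left)) inf_le_left).exists_conj_le
    (isPGroup_zpowers_of_pow hj) (zpowers_le.2 (mem_inf.2 ⟨hx, hn⟩))
  exact mem_of_eq (cmem' hk.2 (mem_sup_left (e (conj_mem_conjS (mem_zpowers x))))) (by group)

theorem cen_of (hx : x ∈ T) (hg : g ∈ L) (ap : g ∉ Nor (T ⊔ L ⊓ Cen V : Subgroup G))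
    (e : g⁻¹ * x * g ∈ Nor (T ⊔ L ⊓ Cen V : Subgroup G)) : x ∈ Cen V := by
  by_contra hc
  have h2 := PElt_of_mem h.syl.isPGroup hx
  exact ap (h.ti h2 (mem_sup_left hx) hc hg (h.mem (by simpa using h2.conj g⁻¹)
    (mul_mem (mul_mem (inv_mem hg) (h.syl.le hx)) hg) e))

theorem quad (hu : u ∈ T) (hg : g ∈ L) (ap : g ∉ Nor (T ⊔ L ⊓ Cen V : Subgroup G)) (CV : C ≤ V)
    (h1 : ∀ v ∈ V, v⁻¹ * (u * v * u⁻¹) ∈ C) (h2 : u ∈ Cen C) (h3 : g ∈ Nor C) : u ∈ Cen V := by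
  by_contra uc
  have uL := h.syl.le hu
  have wL : g⁻¹ * u * g ∈ L := mul_mem (mul_mem (inv_mem hg) uL) hg
  have hc : u⁻¹ * ((g⁻¹ * u * g)⁻¹ * u * (g⁻¹ * u * g)) ∈ Cen V := GW.cen.2 fun v hv => by
    have e3 := cmem' h3 (h1 _ (cmem (h.nor hg) hv))
    have f3 := GW.cen.1 (cmem' (mcen h3) h2) _ (h1 v hv)
    have e6 := GW.cen.1 h2 _ e3
    have e7 := GW.cen.1 (h.ab (CV e3)) _ (CV (h1 v hv))
    generalize hc : v⁻¹ * (u * v * u⁻¹) = c at *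
    generalize hd : g⁻¹ * ((g * v * g⁻¹)⁻¹ * (u * (g * v * g⁻¹) * u⁻¹)) * g = d at *
    generalize hw : g⁻¹ * u * g = w at *
    have f1 : u * v = v * c * u := by rw [← hc]; group
    have f2 : w * v = v * d * w := by rw [← hd, ← hw]; group
    have f5 : u * w * v = v * (c * d) * (u * w) := by
      rw [mul_assoc u, f2, ← mul_assoc, ← mul_assoc, f1, mul_assoc _ u d, e6]; group
    have f6 : w * u * v = v * (c * d) * (w * u) := by
      rw [mul_assoc w, f1, ← mul_assoc, ← mul_assoc, f2, mul_assoc _ w c, f3, ← e7]; group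
    calc _ = (w * u)⁻¹ * (u * w * v) := by group
      _ = (w * u)⁻¹ * (v * (c * d) * (w * u)) * (w * u)⁻¹ * (u * w) := by rw [f5]; group
      _ = _ := by rw [← f6]; group
  exact uc (h.cen_of hu hg ap (h.ti (PElt_of_mem h.syl.isPGroup hu) (mem_sup_left hu) uc wL
    (mem_of_eq (mul_mem (mem_sup_left hu) (mem_sup_right (mem_inf.2 ⟨mul_mem (inv_mem uL)
      (mul_mem (mul_mem (inv_mem wL) uL) wL), hc⟩))) (by group))))

end FS

/-- a quadratic offender -/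
structure FF (L V T U : Subgroup G) : Prop extends FS L V T where
  UT : U ≤ T
  q : ⁅V, U⁆ ≤ Cen U
  nc : ¬ U ≤ Cen V
  idx : (Cen U).relIndex V ≤ (Cen V).relIndex U

namespace FF

variable (h : FF L V T U)
include h

theorem UL : U ≤ L := h.UT.trans h.syl.le

theorem cz (hv : v ∈ V) (hu : u ∈ U) : v⁻¹ * (u * v * u⁻¹) ∈ V ⊓ Cen U :=
  mem_inf.2 ⟨mul_mem (inv_mem hv) (cmem (h.nor (h.UL hu)) hv), h.q (mem_of_eq
    (commutator_mem_commutator (inv_mem hv) hu) (by simp [commutatorElement_def, mul_assoc]))⟩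

theorem ZV (hg : g ∈ L) : conjS g (V ⊓ Cen U) ≤ V :=
  (conjS_mono g inf_le_left).trans (mem_normalizer_iff_conjS.1 (h.nor hg)).le

theorem cm (hx : x ∈ V) (hy : y ∈ V) : x * y = y * x := GW.cen.1 (h.ab hx) y hy

/-- the commutator map -/
def phi (hv : v ∈ V) : U →* G := MonoidHom.mk' (fun u => v⁻¹ * (u * v * (u : G)⁻¹)) fun a b => by
  have e := GW.cen.1 (h.cz hv b.2).2 a a.2
  simp only [coe_mul, mul_inv_rev]
  calc _ = v⁻¹ * a * v * (a : G)⁻¹ * (a * (v⁻¹ * (b * v * (b : G)⁻¹))) * (a : G)⁻¹ := by group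
    _ = _ := by rw [← e]; group

theorem not_le (hg : g ∈ L) (ap : g ∉ Nor (T ⊔ L ⊓ Cen V : Subgroup G)) :
    ¬ conjS g (V ⊓ Cen U) ≤ Cen U := fun e => h.nc fun u hu => h.quad (h.UT hu) hg ap inf_le_left
  (fun v hv => h.cz hv hu) (le_cen_symm inf_le_right hu) (mem_normalizer_iff_conjS.2
    (eq_of_le_of_card_ge (le_inf (h.ZV hg) e) (card_conjS g _).ge))

/-- the conclusions for an opposite conjugate -/
structure Op (V U : Subgroup G) (g : G) : Prop where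
  idx : (Cen V).relIndex U ≤ (Cen U).relIndex V
  card : Nat.card (V ⊓ Cen U ⊓ conjS g (V ⊓ Cen U) : Subgroup G) * (Cen U).relIndex V =
    Nat.card (V ⊓ Cen U : Subgroup G)
  sup : V ≤ conjS g (V ⊓ Cen U) ⊔ V ⊓ Cen U
  com : ∀ v ∈ V, v ∉ Cen U → ∀ u ∈ U, u ∉ Cen V → v⁻¹ * (u * v * u⁻¹) ∉ conjS g (V ⊓ Cen U)
  dec : ∀ v ∈ V, v ∉ Cen U → ∀ z ∈ V ⊓ Cen U, ∃ u ∈ U, ∃ d ∈ conjS g (V ⊓ Cen U),
    z = d * (v⁻¹ * (u * v * u⁻¹))

theorem op_max (hg : g ∈ L) (ap : g ∉ Nor (T ⊔ L ⊓ Cen V : Subgroup G))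
    (mx : ∀ k ∈ L, k ∉ Nor (T ⊔ L ⊓ Cen V : Subgroup G) →
      Nat.card (V ⊓ Cen U ⊓ conjS k (V ⊓ Cen U) : Subgroup G) ≤
        Nat.card (V ⊓ Cen U ⊓ conjS g (V ⊓ Cen U) : Subgroup G)) : Op V U g := by
  have c0 : ∀ x ∈ conjS g (V ⊓ Cen U), x ∉ Cen U → ∀ u ∈ U, u ∉ Cen V →
      x⁻¹ * (u * x * u⁻¹) ∉ conjS g (V ⊓ Cen U) := fun x hx xc u hu uc e => by
    have uL := h.UL hu
    have e1 := mx (g⁻¹ * u * g) (mul_mem (mul_mem (inv_mem hg) uL) hg)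
      fun e => uc (h.cen_of (h.UT hu) hg ap e)
    rw [← card_conjS g, conjS_inf g _ (conjS _ _), conjS_conjS,
      show g * (g⁻¹ * u * g) = u * g by group, ← conjS_conjS] at e1
    refine e1.not_gt (card_lt_of_lt (lt_of_le_not_ge (le_inf inf_le_right fun d hd => ?_)
      fun e2 => xc ?_))
    · exact mem_of_eq (conj_mem_conjS (g := u) hd.2)
        (by rw [← GW.cen.1 hd.1.2 u hu, mul_inv_cancel_right])
    · have := (e2 ⟨mem_of_eq (mul_mem hx e) (by group), conj_mem_conjS hx⟩).1.2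
      exact mem_of_eq (cmem' (ncen (lnor le_rfl) hu) this) (by group)
  have nZ : V ≤ Nor (conjS g (V ⊓ Cen U)) := cnor (h.ab.trans (centralizer_anti (h.ZV hg)))
  have r1 : ∀ v (hv : v ∈ V), (h.phi hv).range ≤ V ⊓ Cen U := by
    rintro v hv _ ⟨u, rfl⟩
    exact h.cz hv u.2
  have i3 : (conjS g (V ⊓ Cen U)).relIndex V = (Cen U).relIndex V := by
    have e1 := card_mul_relIndex (h.ZV hg)
    rw [card_conjS, ← card_inf_mul_relIndex (Cen U) V, inf_comm (Cen U)] at e1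
    exact Nat.eq_of_mul_eq_mul_left Nat.card_pos e1
  have i2 : (conjS g (V ⊓ Cen U)).relIndex (V ⊓ Cen U) ≤ (conjS g (V ⊓ Cen U)).relIndex V :=
    relIndex_le_of_le_right inf_le_left index_ne_zero_of_finite
  have i1 : ∀ v (hv : v ∈ V), (∀ u ∈ U, u ∉ Cen V → v⁻¹ * (u * v * u⁻¹) ∉ conjS g (V ⊓ Cen U)) →
      (Cen V).relIndex U ≤ (conjS g (V ⊓ Cen U)).relIndex (h.phi hv).range := fun v hv e => by
    rw [← index_comap]
    exact Nat.le_of_dvd (Nat.pos_of_ne_zero index_ne_zero_of_finite) (index_dvd_of_le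
      fun u hu => by_contra fun c => e u u.2 c hu)
  have i0 : ∀ v (hv : v ∈ V), (conjS g (V ⊓ Cen U)).relIndex (h.phi hv).range ≤
      (conjS g (V ⊓ Cen U)).relIndex (V ⊓ Cen U) := fun v hv =>
    relIndex_le_of_le_right (r1 v hv) index_ne_zero_of_finite
  obtain ⟨x, hx, xc⟩ := SetLike.not_le_iff_exists.1 (h.not_le hg ap)
  have j1 := i1 x (h.ZV hg hx) (c0 x hx xc)
  have j0 := i0 x (h.ZV hg hx)
  have j := h.idx
  have sp := le_sup_of_rel (inf_le_left : V ⊓ Cen U ≤ V) nZ (by omega)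
  have cm : ∀ v ∈ V, v ∉ Cen U → ∀ u ∈ U, u ∉ Cen V →
      v⁻¹ * (u * v * u⁻¹) ∉ conjS g (V ⊓ Cen U) := fun v hv vc u hu uc => by
    obtain ⟨a, ha, z, hz, rfl⟩ := (mem_sup_of_le_normalizer_left (inf_le_left.trans nZ)).1 (sp hv)
    have e := c0 a ha (fun e => vc (mul_mem e hz.2)) u hu uc
    have e1 := GW.cen.1 hz.2 u hu
    have e2 := h.cm hz.1 (h.cz (h.ZV hg ha) hu).1
    rwa [show (a * z)⁻¹ * (u * (a * z) * u⁻¹) = a⁻¹ * (u * a * u⁻¹) by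
      calc _ = z⁻¹ * (a⁻¹ * (u * a * u⁻¹)) * (u * z) * u⁻¹ := by group
        _ = z⁻¹ * (a⁻¹ * (u * a * u⁻¹) * z) := by rw [← e1]; group
        _ = _ := by rw [← e2]; group]
  refine ⟨by omega, ?_, sp, cm, fun v hv vc z hz => ?_⟩
  · rw [inf_comm, ← card_inf_mul_relIndex (conjS g (V ⊓ Cen U)) (V ⊓ Cen U)]
    congr 1
    omega
  have := i1 v hv (cm v hv vc)
  obtain ⟨d, hd, _, ⟨u, rfl⟩, e⟩ := (mem_sup_of_le_normalizer_left
    ((r1 v hv).trans (inf_le_left.trans nZ))).1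
    (le_sup_of_rel (r1 v hv) (inf_le_left.trans nZ) (by omega) hz)
  exact ⟨u, u.2, d, hd, e.symm⟩

theorem op (hg : g ∈ L) (ap : g ∉ Nor (T ⊔ L ⊓ Cen V : Subgroup G)) : Op V U g := by
  obtain ⟨k, ⟨hk, ak⟩, mx⟩ := Set.exists_max_image
    {k | k ∈ L ∧ k ∉ Nor (T ⊔ L ⊓ Cen V : Subgroup G)}
    (fun k => Nat.card (V ⊓ Cen U ⊓ conjS k (V ⊓ Cen U) : Subgroup G)) (Set.toFinite _) ⟨g, hg, ap⟩
  have o := h.op_max hk ak fun j h1 h2 => mx j ⟨h1, h2⟩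
  refine h.op_max hg ap fun j h1 h2 => (mx j ⟨h1, h2⟩).trans ?_
  have e1 := card_sup_mul_card_inf (K := V ⊓ Cen U) (A := conjS g (V ⊓ Cen U))
    (cnor ((h.ZV hg).trans (h.ab.trans (centralizer_anti inf_le_left))))
  have e2 := card_le_of_le (sup_le inf_le_left (h.ZV hg) : V ⊓ Cen U ⊔ _ ≤ V)
  have e3 := card_inf_mul_relIndex (Cen U) V
  have e4 := o.card
  rw [card_conjS] at e1
  rw [inf_comm] at e3
  have p : 0 < Nat.card V := Nat.card_pos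
  refine Nat.le_of_mul_le_mul_left ?_ p
  calc _ = Nat.card (V ⊓ Cen U : Subgroup G) * Nat.card (V ⊓ Cen U : Subgroup G) := by
        rw [← e3, mul_assoc, mul_comm ((Cen U).relIndex V), e4]
    _ ≤ _ := e1 ▸ Nat.mul_le_mul_right _ e2

theorem ex : ∃ g ∈ L, g ∉ Nor (T ⊔ L ⊓ Cen V : Subgroup G) := SetLike.not_le_iff_exists.1 h.nn

theorem eq : (Cen V).relIndex U = (Cen U).relIndex V := by
  obtain ⟨g, hg, ap⟩ := h.ex
  exact le_antisymm (h.op hg ap).idx h.idx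

theorem c1_le (hu : u ∈ U) (uc : u ∉ Cen V) : V ⊓ Cen1 u ≤ Cen U := fun v hv => by
  obtain ⟨g, hg, ap⟩ := h.ex
  by_contra c
  refine (h.op hg ap).com v hv.1 c u hu uc ?_
  rw [← c1.1 hv.2, mul_inv_cancel_right, inv_mul_cancel]
  exact one_mem _

/-- `U` is transitive on the opposite points -/
theorem tr (hg : g ∈ L) (ap : g ∉ Nor (T ⊔ L ⊓ Cen V : Subgroup G)) (hk : k ∈ L)
    (ak : k ∉ Nor (T ⊔ L ⊓ Cen V : Subgroup G)) :
    ∃ u ∈ U, k⁻¹ * u * g ∈ Nor (T ⊔ L ⊓ Cen V : Subgroup G) := by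
  obtain ⟨a, ha, ac⟩ := SetLike.not_le_iff_exists.1 h.nc
  obtain ⟨v, hv, vc⟩ := SetLike.not_le_iff_exists.1 fun e => h.nc (le_cen_symm e)
  have c0 := fun j hj aj => (h.op (g := j) hj aj).com v hv vc a ha ac
  have cV := (h.cz hv ha).1
  have cZ := conj_mem_conjS (g := k) (h.cz hv ha)
  generalize v⁻¹ * (a * v * a⁻¹) = c at *
  have o := h.op hg ap
  have yV := h.ZV hk cZ
  have yc : k * c * k⁻¹ ∉ Cen U := fun e => c0 k⁻¹ (inv_mem hk) (by simpa using ak)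
    (mem_conjS.2 (by simpa using mem_inf.2 ⟨yV, e⟩))
  have nZ : V ≤ Nor (conjS g (V ⊓ Cen U)) := cnor (h.ab.trans (centralizer_anti (h.ZV hg)))
  obtain ⟨x, hx, z, hz, e⟩ := (mem_sup_of_le_normalizer_left (inf_le_left.trans nZ)).1 (o.sup yV)
  have xV := h.ZV hg hx
  obtain ⟨u, hu, d, hd, e1⟩ := o.dec x xV (fun c => yc (e ▸ mul_mem c hz.2)) z hz
  have dc : d ∈ Cen U := mem_of_eq (mul_mem hz.2 (inv_mem (h.cz xV hu).2)) (by rw [e1]; group)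
  refine ⟨u, hu, by_contra fun ak' => c0 _ (mul_mem (mul_mem (inv_mem hk) (h.UL hu)) hg) ak' ?_⟩
  rw [← conjS_conjS, ← conjS_conjS, mem_conjS, inv_inv, ← e, e1, ← mul_assoc, h.cm xV (h.ZV hg hd)]
  exact mem_of_eq (conj_mem_conjS (g := u) (mul_mem hd hx))
    (by rw [← mul_assoc u, ← GW.cen.1 dc u hu]; group)

theorem le_sup : T ≤ U ⊔ T ⊓ Cen V := fun t ht => by
  obtain ⟨g, hg, ap⟩ := h.ex
  obtain ⟨u, hu, e⟩ := h.tr hg ap (mul_mem (h.syl.le ht) hg) fun e =>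
    ap ((mul_mem_cancel_left (lnor le_sup_left ht)).1 e)
  have m := mul_mem (inv_mem ht) (h.UT hu)
  exact mem_of_eq (mul_mem (mem_sup_left hu) (mem_sup_right (inv_mem (mem_inf.2
    ⟨m, h.cen_of m hg ap (mem_of_eq e (by group))⟩)))) (by group)

theorem nZ : L ⊓ Nor (T ⊔ L ⊓ Cen V : Subgroup G) ≤ Nor (V ⊓ Cen U : Subgroup G) := by
  have e : V ⊓ Cen U = V ⊓ Cen (T ⊔ L ⊓ Cen V : Subgroup G) := le_antisymm (le_inf inf_le_left
    (le_cen_symm (sup_le (h.le_sup.trans (sup_le (le_cen_symm inf_le_right) (inf_le_right.trans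
      (centralizer_anti inf_le_left)))) (inf_le_right.trans (centralizer_anti inf_le_left)))))
    (inf_le_inf_left _ (centralizer_anti (h.UT.trans le_sup_left)))
  rw [e]
  exact ninf (inf_le_left.trans h.nor) (ncen inf_le_right)

/-- the radical lies in every conjugate of `C_V(U)` -/
theorem rad (hg : g ∈ L) (ap : g ∉ Nor (T ⊔ L ⊓ Cen V : Subgroup G)) (hk : k ∈ L) :
    V ⊓ Cen U ⊓ conjS g (V ⊓ Cen U) ≤ conjS k (V ⊓ Cen U) := fun d hd => by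
  by_cases ak : k ∈ Nor (T ⊔ L ⊓ Cen V : Subgroup G)
  · rw [mem_normalizer_iff_conjS.1 (h.nZ ⟨hk, ak⟩)]
    exact hd.1
  obtain ⟨u, hu, e⟩ := h.tr hg ap hk ak
  rw [← mem_normalizer_iff_conjS.1 (h.nZ (mem_inf.2
    ⟨mul_mem (mul_mem (inv_mem hk) (h.UL hu)) hg, e⟩)),
    conjS_conjS, show k * (k⁻¹ * u * g) = u * g by group, ← conjS_conjS]
  exact mem_of_eq (conj_mem_conjS (g := u) hd.2)
    (by rw [← GW.cen.1 hd.1.2 u hu, mul_inv_cancel_right])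

/-- `C_V(U)` is generated by the radical and involutions -/
theorem inv (hg : g ∈ L) (ap : g ∉ Nor (T ⊔ L ⊓ Cen V : Subgroup G)) {z : G}
    (hz : z ∈ V ⊓ Cen U) : ∃ e ∈ V ⊓ Cen U, e * e = 1 ∧ ∃ d ∈ conjS g (V ⊓ Cen U), z = d * e := by
  obtain ⟨x, hx, xc, xx⟩ := SF.exists_sq_mem (h.two.to_le (h.ZV hg)) (h.not_le hg ap)
  have xV := h.ZV hg hx
  obtain ⟨u, hu, d, hd, e⟩ := (h.op hg ap).dec x xV xc z hz
  refine ⟨_, h.cz xV hu, ?_, d, hd, e⟩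
  have e1 := h.cm xV (cmem (h.nor (h.UL hu)) xV)
  have e2 := GW.cen.1 xx u hu
  calc _ = x⁻¹ * x⁻¹ * (x * (u * x * u⁻¹)) * x⁻¹ * (u * x * u⁻¹) := by group
    _ = (x * x)⁻¹ * (u * (x * x)) * u⁻¹ := by rw [e1]; group
    _ = 1 := by rw [← e2]; group

end FF

theorem ffThm : FFThm.{u} := fun G _ _ L V T U a b c d e f g h i j k x hx xc =>
  FF.c1_le ⟨⟨a, b, c, d, e, f, g⟩, h, i, j, k⟩ hx xc

end AI
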