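import Cfsg.Agent.AI.FF
import Cfsg.Agent.DD.D

/-! Essential subgroups. -/

set_option autoImplicit false
set_option linter.unusedVariables false
set_option linter.unusedSectionVars false

namespace AI

open Cfsg Subgroup FT H4 H5 GW L
open M4 (SC)
open MW (Om mem_Om Om_nor Om_le Om_el Om_cen)

universe u

/-- the fusion theorem -/
def FusThm : Prop := ∀ (G : Type u) [Group G] [Finite G] (S : Subgroup G),
  AbI (⊤ : Subgroup G) → IsSylowOf 2 S ⊤ → ⁅(⊤ : Subgroup G), (⊤ : Subgroup G)⁆ = ⊤ →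
    (∃ m : ℕ, 2 ≤ m ∧ Nonempty (S ≃* DihedralGroup m)) ∨ ⁅S, S⁆ ≤ Cen S ∨
      ∃ A, A ≠ ⊥ ∧ A ≤ S ∧ SC ⊤ A

variable {G : Type*} [Group G] [Finite G] {S P Q T U V L A D E W : Subgroup G} {w : G → Prop}
  {g n x y : G}

theorem conj_Om (g : G) (P : Subgroup G) : conjS g (Om P) = Om (conjS g P) := by
  ext x
  rw [mem_conjS, mem_Om, mem_Om, mem_conjS, ← conj_cen, mem_conjS,
    show g⁻¹ * x * g * (g⁻¹ * x * g) = g⁻¹ * (x * x) * g⁻¹⁻¹ by group, W.cj1]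

theorem conj_pGen (g : G) (P : Subgroup G) : conjS g (pGenIn 2 P) = pGenIn 2 (conjS g P) :=
  map_pGenIn _ 2 P

/-- the fusion context -/
structure Fu (S : Subgroup G) : Prop where
  ai : AbI (⊤ : Subgroup G)
  syl : IsSylowOf 2 S ⊤
  perf : ⁅(⊤ : Subgroup G), (⊤ : Subgroup G)⁆ = ⊤

namespace Ess

variable (e : Ess S P)
include e

theorem cenS : S ⊓ Cen P ≤ P := (inf_le_inf_left _ (centralizer_anti Om_le)).trans e.cen

theorem mO : x ∈ Om P ↔ x ∈ P ∧ x * x = 1 := by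
  rw [mem_Om]
  exact ⟨fun h => ⟨h.1, h.2.1⟩, fun h => ⟨h.1, h.2, e.ab h.1⟩⟩

theorem cm (hx : x ∈ P) (hy : y ∈ P) : x * y = y * x := GW.cen.1 (e.ab hx) y hy

theorem PT : P ≤ S ⊓ Nor P := le_inf e.le le_normalizer

theorem two : IsPGroup 2 P := e.syl.isPGroup.to_le e.PT

theorem cen_eq : Nor P ⊓ Cen (Om P) = Cen P := by
  refine le_antisymm ((cen_Om e.two e.ab (e.syl.inf_of_le_normalizer inf_le_left (ninf
    (lnor inf_le_right) (ncen (inf_le_right.trans Om_nor))))).trans (sup_le le_rfl ?_))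
    (le_inf (cnor le_rfl) (centralizer_anti Om_le))
  exact le_trans (fun x hx => e.cen ⟨hx.1.1, hx.2.2⟩) e.ab

theorem fs (h : AbI (⊤ : Subgroup G)) : FS (Nor P) P (S ⊓ Nor P) :=
  ⟨h.mono le_top, e.ab, e.two, le_normalizer, le_rfl, e.syl, by
    rw [inf_eq_right.2 (cnor le_rfl : Cen P ≤ Nor P)]; exact e.nn⟩

theorem fs' (h : AbI (⊤ : Subgroup G)) : FS (Nor P) (Om P) (S ⊓ Nor P) :=
  ⟨h.mono le_top, Om_cen.trans (centralizer_anti Om_le), e.two.to_le Om_le,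
    Om_le.trans le_normalizer, Om_nor, e.syl, by rw [e.cen_eq]; exact e.nn⟩

theorem na : ¬ S ⊓ Nor P ≤ Cen (S ⊓ Nor P : Subgroup G) := fun h => e.nn (by
  rw [sup_eq_right.2 (h.trans (centralizer_anti e.PT))]; exact ncen le_rfl)

theorem conj (hn : n ∈ Nor S) : Ess S (conjS n P) := by
  have e1 := mem_normalizer_iff_conjS.1 hn
  refine ⟨e1 ▸ conjS_mono n e.le, ?_, ?_, ?_, fun h => e.nn ?_⟩
  · exact (conjS_mono n e.ab).trans (conjS_centralizer n P).le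
  · rw [← conj_Om, ← conj_cen, ← e1, ← conjS_inf]
    exact conjS_mono n e.cen
  · rw [← conj_nor, ← e1, ← conjS_inf]
    exact e.syl.map _
  · rw [← conj_nor, ← e1, ← conjS_inf, ← conj_cen, ← conjS_sup, ← conj_nor] at h
    exact (conjS_le_conjS_iff n).1 h

theorem eq_of (e' : Ess S D) (h : Om P ≤ D) : P = D := by
  have e1 : D ≤ P := le_trans (le_inf e'.le (e'.ab.trans (centralizer_anti h))) e.cen
  exact le_antisymm (le_trans (le_inf e.le (e.ab.trans (centralizer_anti e1))) e'.cenS) e1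

theorem sc_le (h : AbI (⊤ : Subgroup G)) (hS : IsSylowOf 2 S ⊤) (c : SC ⊤ A) (AS : A ≤ S) :
    A ≤ P := by
  have nA := c.nor hS.isPGroup le_top AS
  obtain ⟨g, hg, ap⟩ := SetLike.not_le_iff_exists.1 (e.fs h).nn
  have k : ∀ a ∈ A, a ∈ Nor P → a ∈ P := fun a ha hn => e.cenS ⟨AS ha, (e.fs h).quad
    (C := A ⊓ P) ⟨AS ha, hn⟩ hg ap inf_le_right (fun v hv => mem_inf.2 ⟨mem_of_eq
      (mul_mem (cmem' (nA (e.le hv)) ha) (inv_mem ha)) (by group), mul_mem (inv_mem hv) (cmem hn hv)⟩)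
    (GW.cen.2 fun x hx => M4.el_comm c.el ha hx.1) (mnor fun x hx => mem_inf.2
      ⟨c.sc g trivial x hx.1 (nA (e.le (cmem hg hx.2))), cmem hg hx.2⟩)⟩
  by_contra hn
  refine (lt_inf_normalizer_of_isPGroup (hS.isPGroup.to_le (sup_le AS e.le))
    (lt_of_le_not_ge le_sup_right fun l => hn (le_sup_left.trans l))).not_ge fun x hx => ?_
  obtain ⟨a, ha, p, hp, rfl⟩ := (mem_sup_of_le_normalizer_left (e.le.trans nA)).1 hx.1
  exact mul_mem (k a ha ((mul_mem_cancel_right (le_normalizer hp)).1 hx.2)) hp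

theorem rel (hE : E ≤ S) : (Cen P).relIndex E = P.relIndex E := by
  rw [← inf_relIndex_right, ← inf_relIndex_right P, le_antisymm (le_inf (fun x hx =>
    e.cenS ⟨hE hx.2, hx.1⟩) inf_le_right) (inf_le_inf_right E e.ab)]

theorem ff (h : AbI (⊤ : Subgroup G)) (e' : Ess S E) (h1 : E ≤ Nor P) (h2 : P ≤ Nor E)
    (ne : E ≠ P) (c : Nat.card P ≤ Nat.card E) : FF (Nor P) P (S ⊓ Nor P) E := by
  refine ⟨e.fs h, le_inf e'.le h1, (W.com_r h2).trans e'.ab,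
    fun l => ne (e'.eq_of e (Om_le.trans (le_trans (le_inf e'.le l) e.cenS))), ?_⟩
  rw [e.rel e'.le, e'.rel e.le]
  have e1 := card_inf_mul_relIndex E P
  have e2 := card_inf_mul_relIndex P E
  rw [inf_comm] at e2
  exact Nat.le_of_mul_le_mul_left (by rw [e1, e2]; exact c) Nat.card_pos

end Ess

namespace Fu

variable (h : Fu S)
include h

theorem two : IsPGroup 2 S := h.syl.isPGroup

theorem alp (h1 : ∀ n ∈ Nor S, Iv w S n) (h2 : ∀ P, Ess S P → ∀ x ∈ pGenIn 2 (Nor P), Iv w P x)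
    (hx : x ∈ S) (hg : g * x * g⁻¹ ∈ S) : w x ↔ w (g * x * g⁻¹) := by
  refine alpA h.ai h.syl h1 (fun P e n hn => ?_) hx hg
  obtain ⟨c, hc, e1⟩ := (e.syl.of_le (le_pGenIn inf_le_right e.syl.isPGroup)
    (pGenIn_le 2 _)).frattini (le_normalizer_pGenIn 2 _ hn)
  rw [show n = c * (c⁻¹ * n) by simp]
  exact ((h1 _ (h.ai.nor h.syl inf_le_left e.na ⟨trivial, e1⟩)).mono e.le).mul
    (mul_mem (inv_mem (pGenIn_le 2 _ hc)) hn) (h2 P e c hc)

theorem foc (h1 : ∀ n ∈ Nor S, ∀ y ∈ S, y⁻¹ * (n * y * n⁻¹) ∈ W)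
    (h2 : ∀ P, Ess S P → ∀ x ∈ pGenIn 2 (Nor P), ∀ y ∈ P, y⁻¹ * (x * y * x⁻¹) ∈ W) : S ≤ W := by
  have k : ∀ x y z : G, y⁻¹ * z ∈ W → (x⁻¹ * y ∈ W ↔ x⁻¹ * z ∈ W) := fun x y z e => by
    rw [← mul_mem_cancel_right e, mul_assoc, mul_inv_cancel_left]
  have := focal_le (K := W) h.syl fun x hx g _ hg => (h.alp (w := fun y => x⁻¹ * y ∈ W)
    (fun n hn y hy => k _ _ _ (h1 n hn y hy)) (fun P e n hn y hy => k _ _ _ (h2 P e n hn y hy))
    hx hg).1 (by simp)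
  rwa [h.perf, inf_top_eq] at this

theorem no2 (h0 : ∀ x ∈ S, ∀ y ∈ S, x ∉ W → y ∉ W → x * y ∈ W) (h1 : Nor S ≤ Nor W)
    (h2 : ∀ P, Ess S P → ∀ x ∈ pGenIn 2 (Nor P), Iv (· ∈ W) P x) : S ≤ W := by
  have k : ∀ y ∈ S, ∀ z ∈ S, (y ∈ W ↔ z ∈ W) → y⁻¹ * z ∈ W := fun y hy z hz e => by
    by_cases c : y ∈ W
    · exact mul_mem (inv_mem c) (e.1 c)
    · exact h0 _ (inv_mem hy) _ hz (mt inv_mem_iff.1 c) (mt e.2 c)
  exact h.foc (fun n hn y hy => k y hy _ (cmem hn hy) (mem_normalizer_iff.1 (h1 hn) y))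
    fun P e x hx y hy => k y (e.le hy) _ (e.le (cmem (pGenIn_le 2 _ hx) hy)) (h2 P e x hx y hy)

theorem sc (AS : A ≤ S) (el : ∀ a ∈ A, a * a = 1) (h1 : Nor S ≤ Nor A)
    (h2 : ∀ P, Ess S P → ∀ x ∈ pGenIn 2 (Nor P), Iv (· ∈ A) P x) : SC ⊤ A := by
  refine ⟨le_top, el, fun g _ a ha e => ?_⟩
  obtain ⟨m, hm, e1⟩ := (h.syl.of_le (le_normalizer.trans h1) le_top).exists_conj_le
    (Q := zpowers (g * a * g⁻¹))
    (isPGroup_zpowers_of_pow (k := 1) (by rw [pow_one, pow_two]; exact W.csq (el a ha)))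
    (zpowers_le.2 e)
  have e2 := (h.alp (w := (· ∈ A)) (g := m * g) (fun n hn y _ => mem_normalizer_iff.1 (h1 hn) y) h2
    (AS ha) (mem_of_eq (e1 (conj_mem_conjS (mem_zpowers _))) (by group))).1 ha
  exact mem_of_eq (cmem' hm e2) (by group)

end Fu

theorem iv_nor (h : g ∈ Nor W) : Iv (· ∈ W) P g := fun y _ => mem_normalizer_iff.1 h y

theorem idx : Idx.{u} := fun G _ _ S A c e => by
  have := c.simple
  have h : Fu S := ⟨c.ai, c.syl, W.simple_perfect c.nc⟩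
  have e1 := h.no2 (W := Cen A) (fun x hx y hy h1 h2 => by
      have := (mul_mem_iff_of_index_two (H := (Cen A).subgroupOf S) e (a := ⟨x, hx⟩)
        (b := ⟨y, hy⟩)).2 (iff_of_false h1 h2)
      exact this) (ncen c.nnS) fun P p x hx => iv_nor (mcen (mnor fun a ha => c.sc.sc x trivial a ha
        (c.nS (p.le (cmem (pGenIn_le 2 _ hx) (p.sc_le c.ai c.syl c.sc c.le ha))))))
  rw [relIndex_eq_one.2 e1] at e
  omega

theorem com_le (h1 : S ≤ E ⊔ D) (h2 : E ≤ Nor D) (ab : E ≤ Cen E) : ⁅S, S⁆ ≤ D :=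
  commutator_le.2 fun x hx y hy => by
    rw [sup_comm] at h1
    obtain ⟨n, hn, a, ha, rfl⟩ := (mem_sup_of_le_normalizer_left h2).1 (h1 hx)
    obtain ⟨m, hm, b, hb, rfl⟩ := (mem_sup_of_le_normalizer_left h2).1 (h1 hy)
    refine mem_of_eq (mul_mem (mul_mem (mul_mem hn (cmem (h2 ha) hm)) (cmem (h2 hb) (inv_mem hn)))
      (inv_mem hm)) ?_
    have e := GW.cen.1 (ab ha) b hb
    rw [commutatorElement_def]
    calc _ = n * a * m * a⁻¹ * (b * a) * a⁻¹ * n⁻¹ * b⁻¹ * m⁻¹ := by group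
      _ = _ := by rw [← e]; group

theorem Om_ne (two : IsPGroup 2 S) (h : S ≠ ⊥) : Om S ≠ ⊥ := by
  obtain ⟨z, hz, zz, z1, c⟩ := H5.Dich.exists_central two h
  exact W.ne_bot_of (mem_Om.2 ⟨hz, zz, cen_iff_le.2 c⟩) z1

/-- all essential subgroups are normal -/
theorem Fu.normal (h : Fu S) (hn : ∀ P, Ess S P → S ≤ Nor P) :
    ⁅S, S⁆ ≤ Cen S ∨ ∃ A, A ≠ ⊥ ∧ A ≤ S ∧ SC ⊤ A := by
  by_cases S0 : S = ⊥
  · exact Or.inl (by rw [S0]; simp)
  by_cases e : ∃ D, Ess S D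
  swap
  · exact Or.inr ⟨_, Om_ne h.two S0, Om_le, h.sc Om_le Om_el Om_nor fun P p => (e ⟨P, p⟩).elim⟩
  obtain ⟨D, d⟩ := e
  by_cases e : ∀ E, Ess S E → E = D
  · refine Or.inr ⟨_, Om_ne d.two fun e1 => d.na ?_, Om_le.trans d.le, h.sc (Om_le.trans d.le) Om_el
      (fun n hn => Om_nor (mem_normalizer_iff_conjS.2 (e _ (d.conj hn)))) fun P p x hx =>
        iv_nor (Om_nor (e P p ▸ pGenIn_le 2 _ hx))⟩
    refine absurd ((le_inf le_rfl ?_).trans (d.cenS.trans e1.le)) (mt eq_bot_iff.2 S0)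
    rw [e1]
    exact le_cen_symm bot_le
  push Not at e
  obtain ⟨E, p, ne⟩ := e
  wlog c : Nat.card D ≤ Nat.card E generalizing D E
  · exact this E p D d ne.symm (by omega)
  have f := (d.ff h.ai p (p.le.trans (hn D d)) (d.le.trans (hn E p)) ne c).le_sup
  rw [inf_eq_left.2 (hn D d)] at f
  replace f := f.trans (sup_le_sup_left d.cenS E)
  exact Or.inl (le_cen_symm (f.trans (sup_le (le_cen_symm ((com_le (sup_comm E D ▸ f)
    (d.le.trans (hn E p)) d.ab).trans p.ab)) (le_cen_symm ((com_le f (p.le.trans (hn D d))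
      p.ab).trans d.ab)))))

end AI
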