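import Cfsg.Agent.AI.Fus1

/-! Non-normal essential subgroups. -/

set_option autoImplicit false
set_option linter.unusedVariables false
set_option linter.unusedSectionVars false

namespace AI

open Cfsg Subgroup FT H4 H5 GW L
open M4 (SC)
open MW (Om mem_Om Om_nor Om_le Om_el Om_cen)
open scoped commutatorElement

variable {G : Type*} [Group G] [Finite G] {S P D E W : Subgroup G} {g n s u v w x y z : G}

theorem le_or_le {A B C : Subgroup G} (h : ∀ x ∈ A, x ∈ B ∨ x ∈ C) : A ≤ B ∨ A ≤ C := by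
  by_contra! c
  obtain ⟨a, ha, a1⟩ := SetLike.not_le_iff_exists.1 c.1
  obtain ⟨b, hb, b1⟩ := SetLike.not_le_iff_exists.1 c.2
  rcases h _ (mul_mem ha hb) with e | e
  · exact a1 ((mul_mem_cancel_right ((h b hb).resolve_right b1)).1 e)
  · exact b1 ((mul_mem_cancel_left ((h a ha).resolve_left a1)).1 e)

theorem l2 (h : x * x = 1) (t : G) : x * (x * t) = t := by rw [← mul_assoc, h, one_mul]

/-- a pair of essential subgroups normalizing each other -/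
structure NN (S D E : Subgroup G) : Prop where
  fu : Fu S
  d : Ess S D
  e : Ess S E
  ne : E ≠ D
  nor : S ⊓ Nor E = S ⊓ Nor D
  card : Nat.card D = Nat.card E

namespace NN

variable (h : NN S D E)
include h

theorem symm : NN S E D := ⟨h.fu, h.e, h.d, h.ne.symm, h.nor.symm, h.card.symm⟩

theorem ET : E ≤ S ⊓ Nor D := h.nor ▸ h.e.PT

theorem ff : FF (Nor D) D (S ⊓ Nor D) E :=
  h.d.ff h.fu.ai h.e (h.ET.trans inf_le_right) (h.symm.ET.trans inf_le_right) h.ne h.card.le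

theorem Z : D ⊓ Cen E = D ⊓ E := le_antisymm
  (le_inf inf_le_left fun x hx => h.e.cenS ⟨h.d.le hx.1, hx.2⟩) (inf_le_inf_left _ h.e.ab)

theorem dec (hx : x ∈ S ⊓ Nor D) : ∃ d ∈ D, ∃ e ∈ E, d * e = x := by
  have := h.ff.le_sup.trans (sup_le_sup_left ((inf_le_inf_right _ inf_le_left).trans h.d.cenS) E) hx
  rw [sup_comm] at this
  exact (mem_sup_of_le_normalizer_left (h.ET.trans inf_le_right)).1 this

theorem cT : D ⊓ E ≤ Cen (S ⊓ Nor D : Subgroup G) := fun z hz => GW.cen.2 fun x hx => by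
  obtain ⟨d, hd, e, he, rfl⟩ := h.dec hx
  rw [← mul_assoc, h.d.cm hz.1 hd, mul_assoc, h.e.cm hz.2 he, mul_assoc]

theorem inv (hx : x ∈ D) : ∃ i ∈ D, i * i = 1 ∧ ∃ z ∈ D ⊓ E, x = i * z := by
  obtain ⟨g, hg, ap⟩ := h.ff.ex
  obtain ⟨a, ha, b, hb, rfl⟩ := (mem_sup_of_le_normalizer_left (cnor (inf_le_left.trans
    (h.d.ab.trans (centralizer_anti (h.ff.ZV hg)))))).1 ((h.ff.op hg ap).sup hx)
  obtain ⟨i, hi, ii, d, hd, e⟩ := h.ff.inv (inv_mem hg) (by simpa using ap) (mem_conjS.1 ha)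
  rw [mem_conjS, inv_inv, h.Z] at hd
  have iD := cmem hg hi.1
  refine ⟨_, iD, W.csq ii, _, mul_mem hd (h.Z ▸ hb), ?_⟩
  rw [← mul_assoc, h.d.cm iD hd.1]
  congr 1
  calc a = g * (g⁻¹ * a * g) * g⁻¹ := by group
    _ = _ := by rw [e]; group

theorem cz {d e : G} (hd : d ∈ D) (he : e ∈ E) : ⁅d, e⁆ ∈ D ⊓ E :=
  ⟨W.com_l (h.ET.trans inf_le_right) (commutator_mem_commutator hd he),
    W.com_r (h.symm.ET.trans inf_le_right) (commutator_mem_commutator hd he)⟩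

theorem cne {d e : G} (hd : d ∈ D) (he : e ∈ E) (d1 : d ∉ E) (e1 : e ∉ D) : ⁅d, e⁆ ≠ 1 := fun c =>
  d1 (h.Z.le ⟨hd, h.ff.c1_le he (fun c => e1 (h.d.cenS ⟨h.e.le he, c⟩))
    ⟨hd, c1.2 (commutatorElement_eq_one_iff_mul_comm.1 c)⟩⟩).2

theorem invs (hx : x ∈ S ⊓ Nor D) (xx : x * x = 1) : x ∈ D ∨ x ∈ E := by
  obtain ⟨d, hd, e, he, rfl⟩ := h.dec hx
  by_contra! c
  obtain ⟨i, hi, ii, a, ha, rfl⟩ := h.inv hd
  obtain ⟨j, hj, jj, b, hb, rfl⟩ := h.symm.inv he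
  have i1 : i ∉ E := fun e => c.2 (mul_mem (mul_mem e ha.2) he)
  have j1 : j ∉ D := fun e => c.1 (mul_mem hd (mul_mem e hb.2))
  obtain ⟨g, hg, ap⟩ := h.ff.ex
  have m := mul_mem ha (mem_inf.2 ⟨hb.2, hb.1⟩)
  obtain ⟨k, hk, kk, f, hf, e⟩ := h.ff.inv hg ap (h.Z.ge m)
  refine (h.ff.op hg ap).com i hi (fun c => i1 (h.Z.le ⟨hi, c⟩).2) j hj
    (fun c => j1 (h.d.cenS ⟨h.e.le hj, c⟩)) (mem_of_eq (inv_mem (mul_mem hf hf)) ?_)
  have e1 := h.d.cm hk.1 (h.ff.ZV hg hf)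
  have e2 : f * f = a * b * (a * b) := by
    rw [e]
    calc _ = f * (k * k) * f := by rw [kk]; group
      _ = f * k * (k * f) := by group
      _ = _ := by rw [e1]
  have e3 := GW.cen.1 (h.cT m) _ (mul_mem (h.d.PT hi) (h.ET hj))
  have e4 := h.e.cm ha.2 hj
  rw [show i * a * (j * b) = i * j * (a * b) by rw [mul_assoc i, ← mul_assoc a, e4]; group] at xx
  rw [e2, DD.isq ii, DD.isq jj, inv_eq_iff_mul_eq_one, ← xx]
  calc _ = a * b * (a * b * (i * j)) * (i * j) := by group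
    _ = a * b * (i * j * (a * b)) * (i * j) := by rw [e3]
    _ = a * b * (i * j) * (a * b * (i * j)) := by group
    _ = _ := by rw [e3]

theorem ess (p : Ess S P) (e : Om P ≤ S ⊓ Nor D) : P = D ∨ P = E :=
  (le_or_le fun x hx => h.invs (e hx) (Om_el x hx)).imp (p.eq_of h.d) (p.eq_of h.e)

theorem cases (hy : y ∈ Nor S) (e : y ∈ Nor (S ⊓ Nor D : Subgroup G)) :
    conjS y D = D ∨ conjS y D = E :=
  h.ess (h.d.conj hy) (Om_le.trans ((conjS_mono y h.d.PT).trans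
    (mem_normalizer_iff_conjS.1 e).le))

theorem swap (hy : y ∈ S) (e : y ∈ Nor (S ⊓ Nor D : Subgroup G)) (c : y ∉ Nor D) :
    conjS y D = E ∧ conjS y E = D :=
  ⟨(h.cases (le_normalizer hy) e).resolve_left (mt mem_normalizer_iff_conjS.2 c),
    (h.symm.cases (le_normalizer hy) (h.nor ▸ e)).resolve_left fun c' =>
      c (h.nor.le ⟨hy, mem_normalizer_iff_conjS.2 c'⟩).2⟩

theorem mul (hx : x ∈ S ⊓ Nor (S ⊓ Nor D : Subgroup G)) (hy : y ∈ S ⊓ Nor (S ⊓ Nor D : Subgroup G))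
    (c : x ∉ Nor D) (c' : y ∉ Nor D) : x * y ∈ Nor D := mem_normalizer_iff_conjS.2 (by
  rw [← conjS_conjS, (h.swap hy.1 hy.2 c').1, (h.swap hx.1 hx.2 c).2])

theorem cl {a d e : G} (ha : a ∈ D) (hd : d ∈ D) (he : e ∈ E) : ⁅a * d, e⁆ = ⁅a, e⁆ * ⁅d, e⁆ := by
  rw [commutatorElement_mul_left_eq_conj_mul, ← GW.cen.1 (h.cT (h.cz hd he)) a (h.d.PT ha),
    mul_inv_cancel_right, h.d.cm (h.cz hd he).1 (h.cz ha he).1]

theorem cr {a d e : G} (ha : a ∈ E) (hd : d ∈ D) (he : e ∈ E) : ⁅d, a * e⁆ = ⁅d, a⁆ * ⁅d, e⁆ := by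
  rw [commutatorElement_mul_right_eq_mul_conj, mul_assoc, mul_assoc, ← mul_assoc a,
    ← GW.cen.1 (h.cT (h.cz hd he)) a (h.ET ha), mul_inv_cancel_right]

theorem c2 {d e : G} (hd : d ∈ D) (he : e ∈ E) (dd : d * d = 1) : ⁅d, e⁆ * ⁅d, e⁆ = 1 := by
  rw [← h.cl hd hd he, dd, commutatorElement_one_left]

theorem mm {a b d e : G} (ha : a ∈ D) (hb : b ∈ E) (hd : d ∈ D) (he : e ∈ E) :
    a * b * (d * e) = ⁅d, b⁆⁻¹ * (a * d * (b * e)) := by
  rw [mul_assoc a d, ← mul_assoc _ a, GW.cen.1 (inv_mem (h.cT (h.cz hd hb))) a (h.d.PT ha),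
    commutatorElement_def]
  group

/-- for `q ≥ 4` there are no other essential subgroups in `N_S(T)` -/
theorem big {a b : G} (ha : a ∈ D) (hb : b ∈ D) (aa : a * a = 1) (bb : b * b = 1) (a1 : a ∉ E)
    (b1 : b ∉ E) (ab : a * b ∉ E) (p : Ess S P)
    (e : Om P ≤ S ⊓ Nor (S ⊓ Nor D : Subgroup G)) : P = D ∨ P = E := by
  by_contra c
  obtain ⟨y, hy, y1⟩ := SetLike.not_le_iff_exists.1 fun e => c (h.ess p e)
  replace y1 : y ∉ Nor D := fun c => y1 ⟨(e hy).1, c⟩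
  obtain ⟨s1, s2⟩ := h.swap (e hy).1 (e hy).2 y1
  have yy := Om_el y hy
  have yi := DD.isq yy
  have cm : ∀ x ∈ Om P, x * y = y * x := fun x hx => p.cm (Om_le hx) (Om_le hy)
  have v0 : ∀ x ∈ Om P, x ∈ Nor D → x ∈ D ⊓ E := fun x hx hn => by
    have e1 : y * x * y⁻¹ = x := by rw [← cm x hx, mul_inv_cancel_right]
    rcases h.invs ⟨(e hx).1, hn⟩ (Om_el x hx) with c | c
    · exact ⟨c, s1 ▸ e1 ▸ conj_mem_conjS c⟩
    · exact ⟨s2 ▸ e1 ▸ conj_mem_conjS c, c⟩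
  have v1 : ∀ x ∈ Om P, x ∈ D ⊓ E ∨ x * y ∈ D ⊓ E := fun x hx => by
    by_cases c : x ∈ Nor D
    · exact Or.inl (v0 x hx c)
    · exact Or.inr (v0 _ (mul_mem hx hy) (h.mul (e hx) (e hy) c y1))
  have cy : ∀ t ∈ S ⊓ Nor D, t * y = y * t → t ∈ Cen (Om P) := fun t ht e1 => GW.cen.2 fun x hx => by
    rcases v1 x hx with c | c
    · exact (GW.cen.1 (h.cT c) t ht).symm
    · rw [show x = x * y * y by rw [mul_assoc, yy, mul_one], ← mul_assoc,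
        ← GW.cen.1 (h.cT c) t ht, mul_assoc, e1, ← mul_assoc]
  have mE : ∀ x ∈ D, y * x * y⁻¹ ∈ E := fun x hx => s1 ▸ conj_mem_conjS hx
  have nE : ∀ x ∈ D, x ∉ E → y * x * y⁻¹ ∉ D := fun x hx c c' =>
    c (conj_mem_conjS_iff.1 (s2 ▸ c' : y * x * y⁻¹ ∈ conjS y E))
  have mT : ∀ x ∈ D, x * (y * x * y⁻¹) ∈ S ⊓ Nor D := fun x hx =>
    mul_mem (h.d.PT hx) (h.ET (mE x hx))
  have cj : ∀ x, y * (x * (y * x * y⁻¹)) * y⁻¹ = y * x * y⁻¹ * x := fun x => by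
    calc _ = y * x * y⁻¹ * (y * y) * x * (y * y)⁻¹ := by group
      _ = _ := by rw [yy]; group
  have k1 : ∀ x ∈ D, x * x = 1 → x * (y * x * y⁻¹) ∈ Nor P := fun x hx xx => by
    have c := h.cz hx (mE x hx)
    have e1 : x * (y * x * y⁻¹) * y * (x * (y * x * y⁻¹))⁻¹ = ⁅x, y * x * y⁻¹⁆ * y := by
      simp only [commutatorElement_def, mul_inv_rev, DD.isq xx, yi, mul_assoc, yy, mul_one]
    have e2 : ⁅x, y * x * y⁻¹⁆ ∈ Om P := p.mO.2 ⟨p.cen ⟨h.d.le c.1, cy _ (h.d.PT c.1) (by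
      rw [← e1, ← DD.isq (h.c2 hx (mE x hx) xx)]
      simp only [commutatorElement_def, mul_inv_rev, DD.isq xx, yi, mul_assoc, l2 yy, yy,
        mul_one])⟩, h.c2 hx (mE x hx) xx⟩
    have e3 : x * (y * x * y⁻¹) ∈ Nor (Om P) := mnor fun t ht => by
      rcases v1 t ht with c | c
      · rwa [← GW.cen.1 (h.cT c) _ (mT x hx), mul_inv_cancel_right]
      · rw [show t = t * y * y by rw [mul_assoc, yy, mul_one], ← mul_assoc,
          ← GW.cen.1 (h.cT c) _ (mT x hx), mul_assoc, mul_assoc, ← mul_assoc _ y, e1]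
        exact mul_mem (mul_mem ht hy) (mul_mem e2 hy)
    rw [le_antisymm (le_inf p.le (p.ab.trans (centralizer_anti Om_le))) p.cen]
    exact minf (le_normalizer (mT x hx).1) (mcen e3)
  have k2 : ∀ x ∈ D, x ∉ E → x * (y * x * y⁻¹) ∉ Cen (Om P) := fun x hx x1 c =>
    h.cne hx (mE x hx) x1 (nE x hx x1) (commutatorElement_eq_one_iff_mul_comm.2 (by
      rw [← cj, ← GW.cen.1 c y hy, mul_inv_cancel_right]))
  have nc : ¬ S ⊓ Nor D ⊓ Nor P ≤ Cen (Om P) := fun l => k2 a ha a1 (l ⟨mT a ha, k1 a ha aa⟩)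
  have i2 : (Cen (S ⊓ Nor D ⊓ Nor P : Subgroup G)).relIndex (Om P) = 2 := by
    have l : D ⊓ E ≤ Cen (S ⊓ Nor D ⊓ Nor P : Subgroup G) :=
      h.cT.trans (centralizer_anti inf_le_left)
    have y2 : y ∉ Cen (S ⊓ Nor D ⊓ Nor P : Subgroup G) := fun c =>
      nc fun t ht => cy t ht.1 (GW.cen.1 c t ht).symm
    exact relIndex_eq_two_iff.2 ⟨y, hy, fun x hx => (v1 x hx).elim
      (fun c => Or.inr ⟨l c, fun c' => y2 ((mul_mem_cancel_left (l c)).1 c')⟩)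
      fun c => Or.inl ⟨l c, fun c' => y2 ((mul_mem_cancel_left c').1 (l c))⟩⟩
  have f : FF (Nor P) (Om P) (S ⊓ Nor P) (S ⊓ Nor D ⊓ Nor P) := by
    refine ⟨p.fs' h.fu.ai, inf_le_inf_right _ inf_le_left, commutator_le.2 fun x hx t ht =>
      centralizer_anti inf_le_left (h.cT (v0 _ (W.com_l (inf_le_right.trans Om_nor)
        (commutator_mem_commutator hx ht)) ?_)), nc, ?_⟩
    · exact mul_mem (cmem (e hx).2 ht.1).2 (inv_mem ht.1.2)
    · rw [i2]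
      exact Nat.succ_le_of_lt (lt_of_le_of_ne (Nat.pos_of_ne_zero index_ne_zero_of_finite)
        fun e => nc (relIndex_eq_one.1 e.symm))
  have k3 : ∀ x ∈ D, x * x = 1 → x ∉ E → ∀ t ∈ D, t * t = 1 → t ∉ E →
      x * (y * x * y⁻¹) * (t * (y * t * y⁻¹)) ∈ P := fun x hx xx x1 t ht tt t1 =>
    p.cen ⟨mul_mem (mT x hx).1 (mT t ht).1, (mul_mem_iff_of_index_two (f.eq.trans i2)
      (a := ⟨_, mT x hx, k1 x hx xx⟩) (b := ⟨_, mT t ht, k1 t ht tt⟩)).2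
        (iff_of_false (k2 x hx x1) (k2 t ht t1))⟩
  have k4 : ∀ x ∈ D, x * x = 1 → x ∉ E → ∀ t ∈ D, t * t = 1 → t ∉ E →
      ⁅x, y * x * y⁻¹⁆ = ⁅t, y * t * y⁻¹⁆ := fun x hx xx x1 t ht tt t1 => by
    have e1 := p.cm (Om_le hy) (k3 x hx xx x1 t ht tt t1)
    rw [← mul_inv_eq_iff_eq_mul, show ∀ a b : G, y * (a * b) * y⁻¹ = y * a * y⁻¹ * (y * b * y⁻¹) by
      intros; group, cj, cj] at e1
    have e2 := GW.cen.1 (h.cT (h.cz ht (mE t ht))) _ (mul_mem (h.ET (mE x hx)) (h.d.PT hx))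
    rw [← DD.isq (h.c2 ht (mE t ht) tt), eq_inv_iff_mul_eq_one]
    generalize y * x * y⁻¹ = x' at *
    generalize y * t * y⁻¹ = t' at *
    calc _ = ⁅x, x'⁆ * (⁅t, t'⁆ * (x' * x)) * (t' * t) * (x' * x * (t' * t))⁻¹ := by group
      _ = x * x' * (t * t') * (x' * x * (t' * t))⁻¹ := by
        rw [e2, commutatorElement_def, commutatorElement_def]; group
      _ = 1 := by rw [e1, mul_inv_cancel]
  have hc := mul_mem ha hb
  have cc : a * b * (a * b) = 1 := by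
    rw [mul_assoc, ← mul_assoc b, h.d.cm hb ha, mul_assoc, bb, mul_one, aa]
  have q1 := k4 a ha aa a1 b hb bb b1
  have q2 := k4 _ hc cc ab a ha aa a1
  have q3 := p.cm (k3 a ha aa a1 b hb bb b1) (k3 a ha aa a1 _ hc cc ab)
  have q0 := h.cne ha (mE a ha) a1 (nE a ha a1)
  have ea := mE a ha
  have eb := mE b hb
  have aa' : y * a * y⁻¹ * (y * a * y⁻¹) = 1 := W.csq aa
  rw [show y * (a * b) * y⁻¹ = y * a * y⁻¹ * (y * b * y⁻¹) by group] at q2 q3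
  generalize y * a * y⁻¹ = a' at *
  generalize y * b * y⁻¹ = b' at *
  have he := mul_mem ea eb
  rw [h.mm ha ea hb eb, h.mm ha ea hc he, ← mul_assoc a a, aa, one_mul, ← mul_assoc a' a', aa',
    one_mul] at q3
  have z1 := inv_mem (h.cT (h.cz hb ea))
  have z2 := inv_mem (h.cT (h.cz hc ea))
  have t1 := mul_mem (h.d.PT hc) (h.ET he)
  have t2 := mul_mem (h.d.PT hb) (h.ET eb)
  have q4 : a * b * (a' * b') * (b * b') = b * b' * (a * b * (a' * b')) := by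
    rw [mul_assoc, ← mul_assoc (a * b * _), ← GW.cen.1 z2 _ t1, mul_assoc ⁅a * b, a'⁆⁻¹,
      mul_assoc ⁅a * b, a'⁆⁻¹ (b * b'), ← mul_assoc (b * b'), ← GW.cen.1 z1 _ t2, mul_assoc ⁅b, a'⁆⁻¹,
      ← mul_assoc, ← mul_assoc ⁅a * b, a'⁆⁻¹,
      h.d.cm (inv_mem (h.cz hb ea).1) (inv_mem (h.cz hc ea).1)] at q3
    exact mul_left_cancel q3
  rw [h.mm hc he hb eb, h.mm hb eb hc he, h.d.cm hb hc, h.e.cm eb he, mul_left_inj, inv_inj,
    h.cr ea hb eb, h.cl ha hb eb, mul_left_inj] at q4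
  rw [h.cl ha hb he, h.cr ea ha eb, h.cr ea hb eb, q4, mul_assoc, ← mul_assoc ⁅a, b'⁆,
    h.c2 ha eb aa, one_mul, ← q1, mul_eq_left] at q2
  exact q0 q2

theorem norT (hn : n ∈ Nor S) (e : conjS n D = D ∨ conjS n D = E) :
    n ∈ Nor (S ⊓ Nor D : Subgroup G) := by
  rw [mem_normalizer_iff_conjS, conjS_inf, mem_normalizer_iff_conjS.1 hn, conj_nor]
  rcases e with e | e <;> rw [e]
  exact h.nor

theorem small (hn : ¬ S ≤ Nor D) {a b : G} (ha : a ∈ D) (hb : b ∈ D) (aa : a * a = 1)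
    (bb : b * b = 1) (a1 : a ∉ E) (b1 : b ∉ E) : a * b ∈ E := by
  by_contra ab
  have k := fun P => h.big (P := P) ha hb aa bb a1 b1 ab
  have e : S ≤ Nor (S ⊓ Nor D : Subgroup G) := by
    by_contra c
    exact (lt_inf_normalizer_of_isPGroup h.fu.two (lt_of_le_not_ge
      (inf_le_left : S ⊓ Nor (S ⊓ Nor D : Subgroup G) ≤ S) fun e => c (e.trans inf_le_right))).not_ge
      fun r hr => ⟨hr.1, h.norT (le_normalizer hr.1) (k _ (h.d.conj (le_normalizer hr.1))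
        (Om_le.trans ((conjS_mono r (le_inf h.d.le (lnor h.d.PT))).trans
          (mem_normalizer_iff_conjS.1 hr.2).le)))⟩
  have k' : ∀ P, Ess S P → P = D ∨ P = E := fun P p => k P p (Om_le.trans (p.le.trans (le_inf le_rfl e)))
  refine hn ((h.fu.no2 (W := S ⊓ Nor D) (fun x hx y hy c c' => ⟨mul_mem hx hy, h.mul ⟨hx, e hx⟩
    ⟨hy, e hy⟩ (fun c1 => c ⟨hx, c1⟩) fun c1 => c' ⟨hy, c1⟩⟩)
    (fun n hn => h.norT hn (k' _ (h.d.conj hn))) fun P p x hx y hy => ?_).trans inf_le_right)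
  have l : P ≤ S ⊓ Nor D := (k' P p).elim (fun e => e ▸ h.d.PT) fun e => e ▸ h.ET
  exact iff_of_true (l hy) (l (cmem (pGenIn_le 2 _ hx) hy))

end NN

/-- an essential subgroup on which an element acts as a transvection -/
structure Q2 (S P : Subgroup G) (z u : G) : Prop where
  fu : Fu S
  e : Ess S P
  uT : u ∈ S ⊓ Nor P
  u1 : u ∉ P
  zz : z * z = 1
  cm : ∀ p ∈ P, ⁅p, u⁆ = 1 ∨ ⁅p, u⁆ = z

theorem Fu.q2 (h : Fu S) (d : Ess S D) (hn : ¬ S ≤ Nor D) :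
    ∃ z u, Q2 S D z u ∧ ∃ s ∈ S, u ∈ conjS s D := by
  obtain ⟨s, hs, s1⟩ := SetLike.not_le_iff_exists.1 (lt_inf_normalizer_of_isPGroup h.two
    (lt_of_le_not_ge (inf_le_left : S ⊓ Nor D ≤ S) fun e => hn (e.trans inf_le_right))).not_ge
  have n : NN S D (conjS s D) := ⟨h, d, d.conj (le_normalizer hs.1),
    fun e => s1 ⟨hs.1, mem_normalizer_iff_conjS.2 e⟩, by
      rw [← conj_nor, ← mem_normalizer_iff_conjS.1 hs.2, conjS_inf, conjS_eq_of_mem hs.1],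
    (card_conjS s D).symm⟩
  obtain ⟨u, hu, u1⟩ := SetLike.not_le_iff_exists.1 fun e => n.ne (n.e.eq_of d (Om_le.trans e))
  obtain ⟨a, h0, a1⟩ := SetLike.not_le_iff_exists.1 fun e => n.ne (d.eq_of n.e (Om_le.trans e)).symm
  obtain ⟨a, ha, aa, c, hc, rfl⟩ := n.inv h0
  replace a1 := mt (fun e => mul_mem e hc.2) a1
  refine ⟨⁅a, u⁆, u, ⟨h, d, n.ET hu, u1, n.c2 ha hu aa, fun p hp => ?_⟩, s, hs.1, hu⟩
  have k : ∀ x ∈ conjS s D, ⁅x, u⁆ = 1 := fun x hx =>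
    commutatorElement_eq_one_iff_mul_comm.2 (n.e.cm hx hu)
  obtain ⟨b, hb, bb, c, hc, rfl⟩ := n.inv hp
  rw [n.cl hb hc.1 hu, k c hc.2, mul_one]
  by_cases e : b ∈ conjS s D
  · exact Or.inl (k b e)
  have := k _ (n.small hn ha hb aa bb a1 e)
  rw [n.cl ha hb hu, ← inv_eq_iff_mul_eq_one, DD.isq (n.c2 ha hu aa)] at this
  exact Or.inr this.symm

/-- the radical -/
abbrev R0 (P : Subgroup G) : Subgroup G := P ⊓ Cen (pGenIn 2 (Nor P))

theorem conj_R0 (g : G) (P : Subgroup G) : conjS g (R0 P) = R0 (conjS g P) := by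
  rw [conjS_inf, conj_cen, conj_pGen, conj_nor]

/-- `P = R0 P × ⟨z, v⟩` -/
structure Vz (S P : Subgroup G) (v z : G) : Prop where
  fu : Fu S
  e : Ess S P
  vP : v ∈ P
  zP : z ∈ P
  vv : v * v = 1
  zz : z * z = 1
  z1 : z ≠ 1
  cen : S ⊓ Cen1 v ≤ P
  cjT : ∀ t ∈ S ⊓ Nor P, t * v * t⁻¹ = v ∨ t * v * t⁻¹ = v * z
  ex : ∃ u ∈ S, u * v * u⁻¹ = v * z
  sq : ∀ x ∈ P, x * x ≠ z
  zR : z ∉ R0 P
  dec : ∀ y ∈ P, y ∈ Cen (S ⊓ Nor P : Subgroup G) → y ∈ R0 P ∨ y * z ∈ R0 P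
  dec2 : ∀ y ∈ P, y ∈ Cen (S ⊓ Nor P : Subgroup G) ∨ y * v ∈ Cen (S ⊓ Nor P : Subgroup G)
  com : ∀ x ∈ pGenIn 2 (Nor P), ∀ y ∈ P, y⁻¹ * (x * y * x⁻¹) ∈ zpowers z ⊔ zpowers v
  cls : ∀ k ∈ Nor P, k * v * k⁻¹ = z ∨ k * v * k⁻¹ = v ∨ k * v * k⁻¹ = v * z
  fz : ∃ k ∈ Nor P, k * z * k⁻¹ = v

theorem Q2.vz (h : Q2 S P z u) : ∃ v, Vz S P v z := by
  have e := h.e
  have uc : u ∉ Cen P := fun c => h.u1 (e.cenS ⟨h.uT.1, c⟩)
  obtain ⟨p, hp, p1⟩ : ∃ p ∈ P, ⁅p, u⁆ ≠ 1 := by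
    by_contra! c
    exact uc (GW.cen.2 fun x hx => (commutatorElement_eq_one_iff_mul_comm.1 (c x hx)).symm)
  have pz := (h.cm p hp).resolve_left p1
  have z1 : z ≠ 1 := pz ▸ p1
  have zP : z ∈ P := pz ▸ W.com_l inf_le_right (commutator_mem_commutator hp h.uT)
  have zu : u ∈ Cen1 z := c1'.2 (by
    have := h.cm _ (cmem h.uT.2 hp)
    rw [show ⁅u * p * u⁻¹, u⁆ = u * ⁅p, u⁆ * u⁻¹ by simp only [commutatorElement_def]; group,
      pz, W.cj1] at this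
    exact this.resolve_left z1)
  have cP : Cen P ≤ cMod P (zpowers z) := fun c hc => ⟨nzp (zpowers_le.2 (c1.2 (GW.cen.1 hc z zP)))
    (mem_zpowers c), fun k hk => by
      rw [commutatorElement_eq_one_iff_mul_comm.2 (GW.cen.1 hc k hk).symm]; exact one_mem _⟩
  have cU : zpowers u ≤ cMod P (zpowers z) := zpowers_le.2 ⟨nzp (zpowers_le.2 zu) (mem_zpowers u),
    fun k hk => (h.cm k hk).elim (fun e => e ▸ one_mem _) fun e => e ▸ mem_zpowers z⟩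
  have zZ : z ∈ P ⊓ Cen (zpowers u) := ⟨zP, cen_zp u ▸ c1.2 (c1.1 zu).symm⟩
  have mC : ∀ x, x ∈ Cen (zpowers u) ↔ ⁅x, u⁆ = 1 := fun x => by
    rw [cen_zp, c1, commutatorElement_eq_one_iff_mul_comm]
  have k2 : ∀ x ∈ P, ∀ y ∈ P, x ∉ Cen (zpowers u) → y ∉ Cen (zpowers u) →
      x * y ∈ Cen (zpowers u) := fun x hx y hy c c' => by
    rw [mC] at c c' ⊢
    rw [commutatorElement_mul_left_eq_conj_mul, (h.cm x hx).resolve_left c,
      (h.cm y hy).resolve_left c', e.cm hx zP, mul_inv_cancel_right, h.zz]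
  have nc : ¬ zpowers u ≤ Cen P := fun c => uc (c (mem_zpowers u))
  have f : FF (Nor P) P (S ⊓ Nor P) (zpowers u) := by
    refine ⟨e.fs h.fu.ai, zpowers_le.2 h.uT, (le_cMod_iff.1 cU).2.trans (zpowers_le.2 zZ.2), nc, ?_⟩
    rw [← inf_relIndex_right, DD.rel2 inf_le_right hp (fun c => p1 ((mC p).1 c.1))
      fun x hx y hy c c' => ⟨k2 x hx y hy (fun e => c ⟨e, hx⟩) fun e => c' ⟨e, hy⟩, mul_mem hx hy⟩]
    exact Nat.succ_le_of_lt (lt_of_le_of_ne (Nat.pos_of_ne_zero index_ne_zero_of_finite)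
      fun e => nc (relIndex_eq_one.1 e.symm))
  have cT : S ⊓ Nor P ≤ cMod P (zpowers z) := f.le_sup.trans (sup_le cU (inf_le_right.trans cP))
  have zT : P ⊓ Cen (zpowers u) ≤ Cen (S ⊓ Nor P : Subgroup G) := le_cen_symm (f.le_sup.trans
    (sup_le (le_cen_symm inf_le_right) (inf_le_right.trans (centralizer_anti inf_le_left))))
  have cz : ∀ x ∈ P, ∀ t ∈ cMod P (zpowers z), x⁻¹ * (t * x * t⁻¹) = 1 ∨ x⁻¹ * (t * x * t⁻¹) = z :=
    fun x hx t ht => W.mem_zp2 h.zz (mem_of_eq (ht.2 _ (inv_mem hx))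
      (by rw [commutatorElement_def]; group))
  have pc := mt (mC p).1 p1
  have za : ∀ k ∈ Nor P, k ∉ Nor (S ⊓ Nor P ⊔ Nor P ⊓ Cen P : Subgroup G) →
      z ∉ conjS k (P ⊓ Cen (zpowers u)) := fun k hk ak => by
    have := (f.op hk ak).com p hp pc u (mem_zpowers u) uc
    rwa [(cz p hp u (cU (mem_zpowers u))).resolve_left fun e => this (e ▸ one_mem _)] at this
  obtain ⟨g, hg, ap⟩ := f.ex
  have rd : P ⊓ Cen (zpowers u) ⊓ conjS g (P ⊓ Cen (zpowers u)) ≤ R0 P := fun d hd =>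
    ⟨hd.1.1, cen_iff_le.2 (pGenIn_le_iff.2 fun x hx ⟨j, hj⟩ => by
      obtain ⟨k, hk, e1⟩ := e.syl.exists_conj_le (isPGroup_zpowers_of_pow hj) (zpowers_le.2 hx)
      have e2 := GW.cen.1 (zT (mem_conjS.1 (f.rad hg ap (inv_mem hk) hd))) _
        (e1 (conj_mem_conjS (mem_zpowers x)))
      rw [inv_inv] at e2
      refine c1.2 ?_
      calc _ = k⁻¹ * (k * x * k⁻¹ * (k * d * k⁻¹)) * k := by group
        _ = _ := by rw [← e2]; group)⟩
  have zR : z ∉ R0 P := fun c => za g hg ap (mem_conjS.2 ⟨cmem' hg zP, centralizer_anti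
    (le_pGenIn (f.UT.trans inf_le_right) (e.syl.isPGroup.to_le f.UT))
    (cmem' (mcen (le_normalizer_pGenIn 2 _ hg)) c.2)⟩)
  have dec : ∀ y ∈ P ⊓ Cen (zpowers u), y ∈ R0 P ∨ y * z ∈ R0 P := fun y hy => by
    obtain ⟨a, ha, d, hd, e1⟩ := (f.op hg ap).dec p hp pc y hy
    rcases cz p hp a (cU ha) with c | c <;> rw [c] at e1
    · exact Or.inl (rd ⟨hy, by rwa [e1, mul_one]⟩)
    · exact Or.inr (rd ⟨mul_mem hy zZ, by rwa [e1, mul_assoc, h.zz, mul_one]⟩)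
  have vP := cmem hg zP
  have vc : g * z * g⁻¹ ∉ Cen (zpowers u) := fun c => za g⁻¹ (inv_mem hg) (by simpa using ap)
    (mem_conjS.2 (by simpa using mem_inf.2 ⟨vP, c⟩))
  have cj : ∀ t ∈ S ⊓ Nor P, t * (g * z * g⁻¹) * t⁻¹ = g * z * g⁻¹ ∨
      t * (g * z * g⁻¹) * t⁻¹ = g * z * g⁻¹ * z := fun t ht =>
    (cz _ vP t (cT ht)).imp (fun e => (inv_mul_eq_one.1 e).symm) inv_mul_eq_iff_eq_mul.1
  have fz : ∀ k ∈ Nor P, k ∈ Nor (S ⊓ Nor P ⊔ Nor P ⊓ Cen P : Subgroup G) → k * z * k⁻¹ = z :=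
    fun k hk ak => by
    have := (sup_le cT (inf_le_right.trans cP) (cmem ak (mem_sup_left h.uT))).2 _ (cmem hk hp)
    rw [← conjugate_commutatorElement, pz] at this
    exact (W.mem_zp2 h.zz this).resolve_left (mt W.cj1.1 z1)
  have cl : ∀ k ∈ Nor P, k * z * k⁻¹ = z ∨ k * z * k⁻¹ = g * z * g⁻¹ ∨
      k * z * k⁻¹ = g * z * g⁻¹ * z := fun k hk => by
    refine (em _).imp (fz k hk) fun ak => ?_
    obtain ⟨a, ha, e1⟩ := f.tr hg ap hk ak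
    rw [← fz _ (mul_mem (mul_mem (inv_mem hk) (f.UL ha)) hg) e1,
      show k * (k⁻¹ * a * g * z * (k⁻¹ * a * g)⁻¹) * k⁻¹ = a * (g * z * g⁻¹) * a⁻¹ by group,
      fz _ (mul_mem (mul_mem (inv_mem hk) (f.UL ha)) hg) e1]
    exact cj a (f.UT ha)
  have mV : ∀ k ∈ Nor P, k * z * k⁻¹ ∈ zpowers z ⊔ zpowers (g * z * g⁻¹) := fun k hk => by
    have h1 := mem_sup_left (T := zpowers (g * z * g⁻¹)) (mem_zpowers z)
    have h2 := mem_sup_right (S := zpowers z) (mem_zpowers (g * z * g⁻¹))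
    rcases cl k hk with c | c | c <;> rw [c]
    exacts [h1, h2, mul_mem h2 h1]
  have d2 : ∀ y ∈ P, y ∈ Cen (zpowers u) ∨ y * (g * z * g⁻¹) ∈ Cen (zpowers u) := fun y hy =>
    (em _).imp_right fun c => k2 y hy _ vP c vc
  have sq : ∀ y ∈ P ⊓ Cen (zpowers u), y * y ∈ R0 P := fun y hy => (dec y hy).elim
    (fun c => mul_mem c c) fun c => mem_of_eq (mul_mem c c) (by
      rw [mul_assoc, ← mul_assoc z, ← e.cm hy.1 zP, mul_assoc, h.zz, mul_one])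
  refine ⟨g * z * g⁻¹, h.fu, e, vP, zP, W.csq h.zz, h.zz, z1, ?_, cj, ⟨u, h.uT.1,
    (cj u h.uT).resolve_left fun c => vc (cen_zp u ▸ c1.2 (c1.1 (c1'.2 c)).symm)⟩, ?_, zR,
    fun y hy c => dec y ⟨hy, centralizer_anti f.UT c⟩, fun y hy => (d2 y hy).imp
      (fun c => zT ⟨hy, c⟩) fun c => zT ⟨mul_mem hy vP, c⟩, fun x hx y hy => ?_, fun k hk => by
        simpa only [mul_assoc, mul_inv_rev] using cl _ (mul_mem hk hg), g, hg, rfl⟩
  · by_contra c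
    refine (lt_inf_normalizer_of_isPGroup h.fu.two.to_inf_left (lt_of_le_not_ge (le_inf e.le
      (cen_iff_le.1 (e.ab vP))) c)).not_ge fun t ht => ?_
    obtain ⟨a, ha, b, hb, rfl⟩ := (mem_sup_of_le_normalizer_right (ninf (f.UT.trans le_normalizer)
      (ncen f.UL))).1 (f.le_sup ⟨ht.1.1, ht.2⟩)
    refine e.cenS ⟨ht.1.1, mul_mem (by_contra fun ac => vc (f.c1_le ha ac ⟨vP, c1.2 (c1.1
      ((mul_mem_cancel_right (c1.2 (GW.cen.1 hb.2 _ vP))).1 ht.1.2)).symm⟩)) hb.2⟩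
  · intro x hx c
    refine zR (c ▸ (d2 x hx).elim (fun c => sq x ⟨hx, c⟩) fun c =>
      mem_of_eq (sq _ ⟨mul_mem hx vP, c⟩) ?_)
    rw [mul_assoc, ← mul_assoc _ x, ← e.cm hx vP, mul_assoc, W.csq h.zz, mul_one]
  · have : pGenIn 2 (Nor P) ≤ cMod P (zpowers z ⊔ zpowers (g * z * g⁻¹)) :=
      pGenIn_le_iff.2 fun x hx ⟨j, hj⟩ => ⟨mem_normalizer_of_conjS_le (by
        rw [conjS_sup, W.conj_zp, W.conj_zp]
        exact sup_le (zpowers_le.2 (mV x hx)) (zpowers_le.2 (by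
          simpa only [mul_assoc, mul_inv_rev] using mV _ (mul_mem hx hg)))), fun y hy => by
      obtain ⟨k, hk, e1⟩ := e.syl.exists_conj_le (isPGroup_zpowers_of_pow hj) (zpowers_le.2 hx)
      have e2 := (cT (e1 (conj_mem_conjS (mem_zpowers x)))).2 _ (cmem hk hy)
      rw [← conjugate_commutatorElement] at e2
      rcases W.mem_zp2 h.zz e2 with c | c
      · rw [W.cj1.1 c]; exact one_mem _
      · exact mem_of_eq (mV _ (inv_mem hk)) (by rw [← c]; group)⟩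
    exact mem_of_eq ((this hx).2 _ (inv_mem hy)) (by rw [commutatorElement_def]; group)

end AI
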