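import Cfsg.Agent.AI.Fus2

/-! The dihedral normal subgroup. -/

set_option autoImplicit false
set_option linter.unusedVariables false
set_option linter.unusedSectionVars false

namespace AI

open Cfsg Subgroup FT H4 H5 GW L
open M4 (SC)
open MW (Om mem_Om Om_nor Om_le Om_el Om_cen)
open scoped commutatorElement

variable {G : Type*} [Group G] [Finite G] {S P D E W : Subgroup G} {g n r s u v w x y z ρ : G}

theorem exc (hx : x ∈ conjS n P) : ∃ y ∈ P, x = n * y * n⁻¹ :=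
  ⟨_, mem_conjS.1 hx, by group⟩

theorem odd_gen (two : IsPGroup 2 S) (h : ρ ∈ S) {i : ℤ} (hi : Odd i) : ρ ∈ zpowers (ρ ^ i) := by
  obtain ⟨k, hk⟩ := IsPGroup.iff_orderOf.1 two ⟨ρ, h⟩
  rw [mem_zpowers_zpow_iff, ← orderOf_coe ⟨ρ, h⟩ |>.symm.trans rfl, hk]
  push_cast
  exact Int.isCoprime_iff_gcd_eq_one.1 (IsCoprime.pow_right (Int.isCoprime_two_right.2 hi))

theorem cjz (a : G) (i : ℤ) : x * a ^ i * x⁻¹ = (x * a * x⁻¹) ^ i := conj_zpow.symm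

theorem dh (two : IsPGroup 2 S) (h : ρ ∈ S) (r1 : ρ ≠ 1) (hx : x ∈ Nor (zpowers ρ)) {i : ℤ}
    (hi : Even i) (e : x * v * x⁻¹ = v * ρ ^ i) : (∃ l : ℤ, v * ρ ^ l ∈ Cen1 x) ∨
      ∀ y ∈ zpowers ρ, y * y * (y * y) = 1 → y ∈ Cen1 x := by
  obtain ⟨a, ha⟩ := mem_zpowers_iff.1 (cmem hx (mem_zpowers ρ))
  obtain ⟨c, hc⟩ := mem_zpowers_iff.1 (cmem' hx (mem_zpowers ρ))
  obtain ⟨i, rfl⟩ := hi
  have e1 : Even (a * c - 1) := DD.even_of two h r1 (by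
    rw [zpow_sub_one, zpow_mul, ha, ← cjz, hc]; group)
  have k : ∀ y, x * y * x⁻¹ = y → y ∈ Cen1 x := fun y e => c1.2 (mul_inv_eq_iff_eq_mul.1 e).symm
  obtain ⟨m, rfl | rfl⟩ : ∃ m, a = 4 * m + 3 ∨ a = 4 * m + 1 := by
    refine ⟨a / 4, ?_⟩
    have : ¬ Even a := fun h => Int.not_even_iff_odd.2 ((h.mul_right c).sub_odd odd_one) e1
    rw [Int.not_even_iff] at this
    omega
  · obtain ⟨j, hj⟩ := mem_zpowers_iff.1 (odd_gen two h (odd_two_mul_add_one m))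
    refine Or.inl ⟨-(j * i), k _ ?_⟩
    rw [← conj_mul, e, cjz, ← ha, mul_assoc, mul_right_inj, ← zpow_mul, ← zpow_add,
      show i + i + (4 * m + 3) * -(j * i) = -(j * i) + (2 * i - (2 * m + 1) * (j * (2 * i))) by ring,
      zpow_add, zpow_sub, zpow_mul ρ (2 * m + 1), zpow_mul _ j, hj, mul_inv_cancel, mul_one]
  · refine Or.inr fun y hy e => k y ?_
    obtain ⟨j, rfl⟩ := mem_zpowers_iff.1 hy
    rw [cjz, ← ha, ← zpow_mul, mul_comm _ j, zpow_mul, zpow_add_one, zpow_mul,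
      show (ρ ^ j) ^ (4 : ℤ) = 1 by rw [← e]; group, one_zpow, one_mul]

theorem inv_zp (h : v * ρ * v⁻¹ = ρ⁻¹) (hy : y ∈ zpowers ρ) : v * y * v⁻¹ = y⁻¹ := by
  obtain ⟨j, rfl⟩ := mem_zpowers_iff.1 hy
  rw [cjz, h, inv_zpow]

theorem cj_inv (h : v * ρ * v⁻¹ = ρ⁻¹) (hy : y ∈ zpowers ρ) : y⁻¹ * v * y⁻¹⁻¹ = v * (y * y) := by
  calc _ = v * (v⁻¹ * y⁻¹ * v) * y := by group
    _ = _ := by rw [← inv_zp h hy]; group

/-- the class of `v` consists of the reflections `v ρ^i` -/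
structure Dv (S : Subgroup G) (v ρ : G) : Prop where
  vv : v * v = 1
  rS : ρ ∈ S
  inv : v * ρ * v⁻¹ = ρ⁻¹
  big : ρ * ρ ≠ 1
  all : ∀ r ∈ S, ∃ i : ℤ, r * v * r⁻¹ = v * ρ ^ i
  one : ∃ s ∈ S, s * v * s⁻¹ = v * ρ

theorem refl_mul (vv : v * v = 1) (h : v * ρ * v⁻¹ = ρ⁻¹) (i j : ℤ) :
    v * ρ ^ i * (v * ρ ^ j) ∈ zpowers ρ := mem_of_eq (mul_mem (inv_mem (zpow_mem_zpowers ρ i))
  (zpow_mem_zpowers ρ j)) (by rw [← inv_zp h (zpow_mem_zpowers ρ i), DD.isq vv, mul_assoc])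

theorem refl_cj (rS : ρ ∈ S) (h : v * ρ * v⁻¹ = ρ⁻¹) (one : ∃ s ∈ S, s * v * s⁻¹ = v * ρ) (i : ℤ) :
    ∃ r ∈ S, r * v * r⁻¹ = v * ρ ^ i := by
  obtain ⟨k, rfl | rfl⟩ := Int.even_or_odd' i
  · exact ⟨_, inv_mem (zpow_mem rS k), by rw [cj_inv h (zpow_mem_zpowers ρ k)]; group⟩
  · obtain ⟨s, hs, e⟩ := one
    refine ⟨_, mul_mem (inv_mem (zpow_mem rS k)) hs, ?_⟩
    calc _ = (ρ ^ k)⁻¹ * (s * v * s⁻¹) * ρ ^ k := by group
      _ = (ρ ^ k)⁻¹ * v * (ρ ^ k)⁻¹⁻¹ * ρ := by rw [e]; group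
      _ = _ := by rw [cj_inv h (zpow_mem_zpowers ρ k)]; group

theorem nmem (h : v * ρ * v⁻¹ = ρ⁻¹) (big : ρ * ρ ≠ 1) : v ∉ zpowers ρ := fun c => big (by
  rw [DD.zcm c (mem_zpowers ρ), mul_inv_cancel_right] at h
  exact mul_eq_one_iff_eq_inv.2 h)

theorem Dv.nor (d : Dv S v ρ) : S ≤ Nor (zpowers ρ) := fun r hr => mem_normalizer_of_conjS_le (by
  obtain ⟨s, hs, e⟩ := d.one
  obtain ⟨i, hi⟩ := d.all r hr
  obtain ⟨j, hj⟩ := d.all _ (mul_mem hr hs)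
  rw [W.conj_zp, zpowers_le]
  refine mem_of_eq (refl_mul d.vv d.inv i j) ?_
  rw [← hi, ← hj, show ρ = v * (s * v * s⁻¹) by rw [e, l2 d.vv]]
  group)

theorem Dv.d0 (d : Dv S v ρ) : DD.D0 (zpowers ρ ⊔ zpowers v) ρ :=
  DD.mkD0 (W.o2 d.vv fun e => nmem d.inv d.big (e ▸ one_mem _)) d.inv (nmem d.inv d.big)

theorem Dv.norD (d : Dv S v ρ) : S ≤ Nor (zpowers ρ ⊔ zpowers v : Subgroup G) := fun r hr =>
  mem_normalizer_of_conjS_le (by
    obtain ⟨i, hi⟩ := d.all r hr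
    rw [conjS_sup, mem_normalizer_iff_conjS.1 (d.nor hr), W.conj_zp, hi]
    exact sup_le le_sup_left (zpowers_le.2 (mul_mem (mem_sup_right (mem_zpowers v))
      (mem_sup_left (zpow_mem_zpowers ρ i)))))

namespace Vz

variable (h : Vz S P v z)
include h

theorem vS : v ∈ S := h.e.le h.vP

theorem conj (hn : n ∈ Nor S) : Vz S (conjS n P) (n * v * n⁻¹) (n * z * n⁻¹) := by
  have e1 := mem_normalizer_iff_conjS.1 hn
  have e2 : S ⊓ Nor (conjS n P) = conjS n (S ⊓ Nor P) := by rw [conjS_inf, e1, conj_nor]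
  refine ⟨h.fu, h.e.conj hn, conj_mem_conjS h.vP, conj_mem_conjS h.zP, W.csq h.vv, W.csq h.zz,
    mt W.cj1.1 h.z1, ?_, fun t ht => ?_, ?_, fun x hx => ?_, ?_, fun y hy => ?_, fun y hy => ?_,
    fun x hx y hy => ?_, fun k hk => ?_, ?_⟩
  · rw [← conj_c1, ← e1, ← conjS_inf]
    exact conjS_mono n h.cen
  · obtain ⟨t, ht', rfl⟩ := exc (e2 ▸ ht)
    simpa only [conj_mul, conj_inv, mul_left_inj, mul_right_inj] using h.cjT t ht'
  · obtain ⟨u, hu, e⟩ := h.ex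
    exact ⟨_, cmem hn hu, by simpa only [conj_mul, conj_inv, mul_left_inj, mul_right_inj] using e⟩
  · obtain ⟨x, hx', rfl⟩ := exc hx
    simpa only [Ne, conj_mul, mul_left_inj, mul_right_inj] using h.sq x hx'
  · rw [← conj_R0, conj_mem_conjS_iff]
    exact h.zR
  · obtain ⟨y, hy', rfl⟩ := exc hy
    rw [← conj_R0]
    simpa only [e2, ← conj_cen, conj_mul, conj_mem_conjS_iff] using h.dec y hy'
  · obtain ⟨y, hy', rfl⟩ := exc hy
    simpa only [e2, ← conj_cen, conj_mul, conj_mem_conjS_iff] using h.dec2 y hy'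
  · rw [← conj_nor, ← conj_pGen] at hx
    obtain ⟨x, hx', rfl⟩ := exc hx
    obtain ⟨y, hy', rfl⟩ := exc hy
    simpa only [← W.conj_zp, ← conjS_sup, conj_mul, conj_inv, conj_mem_conjS_iff]
      using h.com x hx' y hy'
  · rw [← conj_nor] at hk
    obtain ⟨k, hk', rfl⟩ := exc hk
    simpa only [conj_mul, conj_inv, mul_left_inj, mul_right_inj] using h.cls k hk'
  · obtain ⟨k, hk, e⟩ := h.fz
    exact ⟨_, conj_nor n P ▸ conj_mem_conjS hk, by rw [← e]; group⟩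

theorem nor (hr : r ∈ S) (c : r * v * r⁻¹ ∈ Cen1 v) : r ∈ Nor P :=
  mem_normalizer_iff_conjS.2 (h.e.eq_of (h.conj (le_normalizer hr)).e
    (Om_le.trans (le_trans (le_inf h.e.le (cen_iff_le.1 (h.e.ab (h.cen
      ⟨cmem (le_normalizer hr) h.vS, c⟩)))) (h.conj (le_normalizer hr)).cen))).symm

theorem cjS (hr : r ∈ S) (c : r * v * r⁻¹ ∈ Cen1 v) :
    r * v * r⁻¹ = v ∨ r * v * r⁻¹ = v * z := h.cjT r ⟨hr, h.nor hr c⟩

theorem root (rS : ρ ∈ S) (i : v * ρ * v⁻¹ = ρ⁻¹) (big : ρ * ρ ≠ 1) :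
    ∃ y ∈ zpowers ρ, y * y = z := by
  obtain ⟨a, ha, a1, aa⟩ := SF.exists_sq_mem (Y := ⊥)
    (h.fu.two.to_le (zpowers_le.2 (mul_mem rS rS))) fun c => big (c (mem_zpowers _))
  obtain ⟨k, rfl⟩ := mem_zpowers_iff.1 ha
  rw [(Commute.refl ρ).mul_zpow] at a1 aa
  have m := zpow_mem_zpowers ρ k
  refine ⟨_, m, ?_⟩
  have e := h.cjS (inv_mem (zpow_mem rS k))
  rw [cj_inv i m] at e
  refine mul_left_cancel ((e (c1.2 ?_)).resolve_left fun c => a1 (mul_eq_left.1 c))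
  have := inv_zp i (mul_mem m m)
  rw [DD.isq aa, DD.isq h.vv] at this
  rw [this, l2 h.vv]

theorem zm (hr : r ∈ S) (ne : r * v * r⁻¹ ≠ v) : z ∈ zpowers (v * (r * v * r⁻¹)) := by
  have e : r * v * r⁻¹ * (r * v * r⁻¹) = 1 := W.csq h.vv
  have i : v * (v * (r * v * r⁻¹)) * v⁻¹ = (v * (r * v * r⁻¹))⁻¹ := by
    rw [l2 h.vv, mul_inv_rev, DD.isq e]
  by_cases c : v * (r * v * r⁻¹) * (v * (r * v * r⁻¹)) = 1
  · rw [DD.isq c, l2 h.vv, DD.isq h.vv] at i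
    rw [(h.cjS hr (c1.2 i)).resolve_left ne, l2 h.vv]
    exact mem_zpowers z
  obtain ⟨y, hy, rfl⟩ := h.root (mul_mem h.vS (cmem (le_normalizer hr) h.vS)) i c
  exact mul_mem hy hy

theorem zc : S ≤ Cen1 z := fun r hr => by
  by_cases c : r * v * r⁻¹ = v
  · exact c1.2 (h.e.cm (h.cen ⟨hr, c1'.2 c⟩) h.zP)
  have e := (h.conj (le_normalizer hr)).zm (inv_mem hr) (by simpa [mul_assoc] using Ne.symm c)
  rw [show r⁻¹ * (r * v * r⁻¹) * r⁻¹⁻¹ = v by group, ← zpowers_inv, mul_inv_rev, DD.isq h.vv,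
    DD.isq (W.csq h.vv)] at e
  exact c1'.2 (inv_uniq e (h.zm hr c) (W.o2 (W.csq h.zz) (mt W.cj1.1 h.z1)) (W.o2 h.zz h.z1))

theorem cj (hr : r ∈ S) : Vz S (conjS r P) (r * v * r⁻¹) z := by
  have := h.conj (le_normalizer hr)
  rwa [c1'.1 (h.zc hr)] at this

theorem dih (big : ∃ r ∈ S, r * v * r⁻¹ ∉ Cen1 v) : ∃ ρ, Dv S v ρ := by
  obtain ⟨s, hs, mx⟩ := Set.exists_max_image (S : Set G)
    (fun r => Nat.card (zpowers (v * (r * v * r⁻¹)))) (Set.toFinite _) ⟨1, one_mem S⟩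
  have e : s * v * s⁻¹ * (s * v * s⁻¹) = 1 := W.csq h.vv
  have i : v * (v * (s * v * s⁻¹)) * v⁻¹ = (v * (s * v * s⁻¹))⁻¹ := by
    rw [l2 h.vv, mul_inv_rev, DD.isq e]
  have rS := mul_mem h.vS (cmem (le_normalizer hs) h.vS)
  have on : ∃ t ∈ S, t * v * t⁻¹ = v * (v * (s * v * s⁻¹)) := ⟨s, hs, (l2 h.vv _).symm⟩
  generalize v * (s * v * s⁻¹) = ρ at *
  have b : ρ * ρ ≠ 1 := fun c => by
    obtain ⟨r, hr, e⟩ := big
    have e1 := (mx r hr).trans (W.card_zp_le c)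
    have e2 := pow_card_eq_one' (x := (⟨_, mem_zpowers _⟩ : zpowers (v * (r * v * r⁻¹))))
    have e3 : 0 < Nat.card (zpowers (v * (r * v * r⁻¹))) := Nat.card_pos
    have e4 : (v * (r * v * r⁻¹))⁻¹ = v * (r * v * r⁻¹) := by
      replace e2 := congrArg Subtype.val e2
      rw [coe_pow, coe_one, coe_mk] at e2
      interval_cases Nat.card (zpowers (v * (r * v * r⁻¹)))
      · rw [pow_one] at e2
        rw [e2, inv_one]
      · exact DD.isq (by rwa [pow_two] at e2)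
    rw [mul_inv_rev, DD.isq h.vv, DD.isq (W.csq h.vv)] at e4
    exact e (c1.2 e4)
  have d := DD.mkD0 (W.o2 h.vv fun e => nmem i b (e ▸ one_mem _)) i (nmem i b)
  have rv : DD.Rf (zpowers ρ ⊔ zpowers v) ρ v := ⟨mem_sup_right (mem_zpowers v), nmem i b⟩
  have k : ∀ x ∈ Nor (zpowers ρ ⊔ zpowers v : Subgroup G), x ∈ Nor (zpowers ρ) ∧
      ∃ j : ℤ, x * v * x⁻¹ = v * ρ ^ j := fun x hx => by
    have e : x ∈ Nor (zpowers ρ) := mem_normalizer_of_conjS_le (by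
      rw [W.conj_zp, zpowers_le]
      by_contra c
      exact b (W.cj1.1 (conj_mul.symm.trans (d.sq _ ⟨cmem hx d.mr, c⟩))))
    obtain ⟨y, hy, e1⟩ := d.rot rv ⟨cmem hx rv.1, fun c => rv.2 (mem_of_eq (cmem' e c) (by group))⟩
    obtain ⟨j, rfl⟩ := mem_zpowers_iff.1 hy
    exact ⟨e, j, e1⟩
  obtain ⟨y, hy, yy⟩ := h.root rS i b
  have k1 : ∀ r ∈ S, r * v * r⁻¹ ∈ Nor (zpowers ρ ⊔ zpowers v : Subgroup G) →
      r * v * r⁻¹ ∈ zpowers ρ ⊔ zpowers v := fun r hr hn => by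
    obtain ⟨e, j, e1⟩ := k _ hn
    have c := h.cj hr
    rcases Int.even_or_odd j with hj | hj
    · rcases dh h.fu.two rS (fun e => b (by simp [e])) e hj e1 with ⟨l, e2⟩ | e2
      · obtain ⟨t, ht, e3⟩ := refl_cj rS i on l
        have e4 := c.cjS (mul_mem ht (inv_mem hr))
        rw [show t * r⁻¹ * (r * v * r⁻¹) * (t * r⁻¹)⁻¹ = t * v * t⁻¹ by group, e3] at e4
        have m := mul_mem rv.1 (d.le (zpow_mem_zpowers ρ l))
        rcases e4 e2 with e5 | e5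
        · exact e5 ▸ m
        · exact (mul_mem_cancel_right (d.le (yy ▸ mul_mem hy hy))).1 (e5 ▸ m)
      · exact (c.sq y (c.cen ⟨zpowers_le.2 rS hy, e2 y hy (by rw [yy, h.zz])⟩) yy).elim
    have e2 : zpowers ρ ≤ zpowers (v * (r * v * r⁻¹)) := zpowers_le.2 (zpowers_le.2 (mem_of_eq
      (mul_mem (mem_zpowers _) (mem_zpowers _)) (by
        rw [← l2 h.vv (ρ ^ j), ← e1, DD.isq c.vv]; group)) (odd_gen h.fu.two rS hj))
    exact (mul_mem_cancel_left rv.1).1 (d.le (eq_of_le_of_card_ge e2 (mx r hr) ▸ mem_zpowers _))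
  have nD : S ≤ Nor (zpowers ρ ⊔ zpowers v : Subgroup G) := by
    by_contra c
    refine (lt_inf_normalizer_of_isPGroup h.fu.two (lt_of_le_not_ge (inf_le_left :
      S ⊓ Nor (zpowers ρ ⊔ zpowers v : Subgroup G) ≤ S) fun e => c (e.trans inf_le_right))).not_ge
      fun r hr => ⟨hr.1, mem_normalizer_of_conjS_le ?_⟩
    have m1 := k1 r hr.1 (cmem hr.2 (mem_inf.2 ⟨h.vS, le_normalizer rv.1⟩)).2
    obtain ⟨t, ht, e⟩ := on
    have m2 := k1 _ (mul_mem hr.1 ht) (mem_of_eq (cmem hr.2 (mem_inf.2 ⟨mul_mem h.vS rS,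
      le_normalizer (mul_mem rv.1 d.mr)⟩)).2 (by rw [← e]; group))
    rw [conjS_sup, W.conj_zp, W.conj_zp]
    refine sup_le (zpowers_le.2 (mem_of_eq (mul_mem m1 m2) ?_)) (zpowers_le.2 m1)
    rw [← l2 h.vv ρ, ← e]; group
  exact ⟨ρ, h.vv, rS, i, b, fun r hr => (k r (nD hr)).2, on⟩

theorem pair (d : Dv S v ρ) (hw : w ∈ S) (ww : w * w = 1) (sq : ∀ x ∈ S ⊓ Cen1 w, x * x ≠ z)
    (nc : ∀ r ∈ S, r * v * r⁻¹ ∉ Cen1 w) : ρ ∈ zpowers (v * w * (v * w)) := by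
  obtain ⟨i, e⟩ := d.all w hw
  rcases Int.even_or_odd i with hi | hi
  · obtain ⟨y, hy, yy⟩ := h.root d.rS d.inv d.big
    rcases dh h.fu.two d.rS (fun e => d.big (by simp [e])) (d.nor hw) hi e with ⟨l, e2⟩ | e2
    · obtain ⟨t, ht, e3⟩ := refl_cj d.rS d.inv d.one l
      exact (nc t ht (e3 ▸ e2)).elim
    · exact (sq y ⟨zpowers_le.2 d.rS hy, e2 y hy (by rw [yy, h.zz])⟩ yy).elim
  rw [show v * w * (v * w) = ρ ^ i by rw [← l2 h.vv (ρ ^ i), ← e, DD.isq ww]; group]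
  exact odd_gen h.fu.two d.rS hi

theorem nmem_of (p : Ess S E) (ne : ∀ r ∈ S, conjS r P ≠ E) (hr : r ∈ S) : r * v * r⁻¹ ∉ E :=
  fun c => ne r hr (p.eq_of (h.cj hr).e (Om_le.trans (le_trans (le_inf p.le
    (cen_iff_le.1 (p.ab c))) (h.cj hr).cen))).symm

theorem other (d : Dv S v ρ) (p : Ess S E) (ne : ∀ r ∈ S, conjS r P ≠ E) : ∃ u, Q2 S E z u := by
  have d0 := d.d0
  have rv : DD.Rf (zpowers ρ ⊔ zpowers v) ρ v :=
    ⟨mem_sup_right (mem_zpowers v), nmem d.inv d.big⟩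
  have DS : zpowers ρ ⊔ zpowers v ≤ S := sup_le (zpowers_le.2 d.rS) (zpowers_le.2 h.vS)
  have rf : ∀ x, DD.Rf (zpowers ρ ⊔ zpowers v) ρ x → ∃ r ∈ S, r * v * r⁻¹ = x := fun x hx => by
    obtain ⟨y, hy, rfl⟩ := d0.rot rv hx
    obtain ⟨j, rfl⟩ := mem_zpowers_iff.1 hy
    exact refl_cj d.rS d.inv d.one j
  have k0 : ∀ x ∈ E, x ∈ zpowers ρ ⊔ zpowers v → x ∈ zpowers ρ := fun x hx hx' => by
    by_contra c
    obtain ⟨r, hr, rfl⟩ := rf x ⟨hx', c⟩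
    exact h.nmem_of p ne hr hx
  obtain ⟨y0, hy0, yy0⟩ := h.root d.rS d.inv d.big
  have k1 : ∀ x ∈ zpowers ρ, x * x = 1 → x = 1 ∨ x = z := fun x hx xx => (em _).imp_right
    fun c => inv_uniq hx (yy0 ▸ mul_mem hy0 hy0) (W.o2 xx c) (W.o2 h.zz h.z1)
  obtain ⟨u, hu, u1, uu⟩ := SF.exists_sq_mem (Y := E) (R := (zpowers ρ ⊔ zpowers v) ⊓ Nor E)
    (h.fu.two.to_le (inf_le_left.trans DS)) fun c => by
    refine (lt_inf_normalizer_of_isPGroup (h.fu.two.to_le (sup_le DS p.le)) (lt_of_le_not_ge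
      le_sup_right fun l => h.nmem_of p ne (one_mem S) ?_)).not_ge fun x hx => ?_
    · simpa using l (mem_sup_left rv.1)
    obtain ⟨a, ha, b, hb, rfl⟩ := (mem_sup_of_le_normalizer_left (p.le.trans d.norD)).1 hx.1
    exact mul_mem (c ⟨ha, (mul_mem_cancel_right (le_normalizer hb)).1 hx.2⟩) hb
  have k2 : ∀ x ∈ E, x⁻¹ * (u * x * u⁻¹) ∈ E ⊓ zpowers ρ := fun x hx => by
    have m := mul_mem (inv_mem hx) (cmem hu.2 hx)
    exact ⟨m, k0 _ m (mem_of_eq (mul_mem (cmem' (d.norD (p.le hx)) hu.1) (inv_mem hu.1))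
      (by group))⟩
  have zE : z ∈ E := p.cenS ⟨h.e.le h.zP, cen_iff_le.2 (p.le.trans h.zc)⟩
  have k3 : ∀ x ∈ Om E, u * x * u⁻¹ = x ∨ u * x * u⁻¹ = x * z := fun x hx =>
    (k1 _ (k2 x (Om_le hx)).2 (Om_el _ (mul_mem (inv_mem hx) (cmem (Om_nor hu.2) hx)))).imp
      (fun e => (inv_mul_eq_one.1 e).symm) inv_mul_eq_iff_eq_mul.1
  have zO := p.mO.2 ⟨zE, h.zz⟩
  obtain ⟨g, hg, e⟩ : ∃ g ∈ Nor E, u * (g * z * g⁻¹) * u⁻¹ = g * z * g⁻¹ * z := by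
    by_contra! c
    have f := p.fs' h.fu.ai
    obtain ⟨g, hg, ap⟩ := SetLike.not_le_iff_exists.1 f.nn
    refine u1 (p.cen ⟨DS hu.1, f.quad (C := closure {x | ∃ k ∈ Nor E, x = k * z * k⁻¹})
      ⟨DS hu.1, hu.2⟩ hg ap ((closure_le _).2 ?_) (fun x hx => ?_)
      (cen_iff_le.2 ((closure_le _).2 ?_)) (mem_normalizer_of_conjS_le ?_)⟩)
    · rintro _ ⟨k, hk, rfl⟩
      exact cmem (Om_nor hk) zO
    · rcases k3 x hx with e | e <;> rw [e]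
      · simp
      · exact subset_closure ⟨1, one_mem _, by simp⟩
    · rintro _ ⟨k, hk, rfl⟩
      exact c1.2 (mul_inv_eq_iff_eq_mul.1 ((k3 _ (cmem (Om_nor hk) zO)).resolve_right (c k hk))).symm
    · rw [conjS, MonoidHom.map_closure, closure_le]
      rintro _ ⟨_, ⟨k, hk, rfl⟩, rfl⟩
      exact subset_closure ⟨g * k, mul_mem hg hk, by simp [mul_assoc]⟩
  have k4 : ∀ x ∈ E ⊓ zpowers ρ, x * x = 1 := fun x hx => by
    by_contra c
    obtain ⟨y, hy, yy⟩ := h.root (p.le hx.1) (inv_zp d.inv hx.2) c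
    have aE := cmem hg (zpowers_le.2 hx.1 hy)
    have aa : g * y * g⁻¹ * (g * y * g⁻¹) = g * z * g⁻¹ := by rw [conj_mul, yy]
    generalize g * y * g⁻¹ = a at *
    have bE := cmem hu.2 aE
    have e1 := p.cm aE bE
    have e2 : u * a * u⁻¹ * (u * a * u⁻¹) = a * a * z := by rw [conj_mul, aa, e]
    by_cases uc : u ∈ zpowers ρ
    · have e3 := DD.zcm uc (k2 a aE).2
      have e4 := p.cm uu aE
      have e5 := p.cm aE (k2 a aE).1
      refine h.z1 (mul_eq_left.1 (e2.symm.trans ?_))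
      generalize hc : a⁻¹ * (u * a * u⁻¹) = c at *
      have e6 : u * a * u⁻¹ = a * c := by rw [← hc]; group
      have e7 : c * c = 1 := by
        refine mul_left_cancel (a := a) ?_
        calc _ = u * a * u⁻¹ * (u * c * u⁻¹) := by rw [e6, e3]; group
          _ = u * (u * a * u⁻¹) * u⁻¹ := by rw [conj_mul, e6]
          _ = u * u * a * (u * u)⁻¹ := by group
          _ = _ := by rw [e4]; group
      rw [e6, mul_assoc, ← mul_assoc c, ← e5, mul_assoc, e7, mul_one]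
    · obtain ⟨r, hr, e3⟩ := rf u ⟨hu.1, uc⟩
      have c := h.cj hr
      rw [e3] at c
      refine c.sq _ (c.cen ⟨p.le (mul_mem aE bE), c1.2 ?_⟩) ?_
      · rw [e1]
        calc _ = u * a * (u * a * u) := by rw [DD.isq c.vv]; group
          _ = u * (u * a * u⁻¹ * a) := by rw [← e1, DD.isq c.vv]; group
          _ = _ := rfl
      · rw [mul_assoc, ← mul_assoc (u * a * u⁻¹), ← e1, mul_assoc a, e2, aa, ← mul_assoc a, aa,
          l2 (W.csq h.zz)]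
  refine ⟨u, h.fu, p, ⟨DS hu.1, hu.2⟩, u1, h.zz, fun x hx => ?_⟩
  have := k2 _ (inv_mem hx)
  rw [show ⁅x, u⁆ = x⁻¹⁻¹ * (u * x⁻¹ * u⁻¹) by rw [commutatorElement_def]; group]
  exact k1 _ this.2 (k4 _ this)

end Vz

end AI
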