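import Cfsg.Agent.AI.Fus3

/-! The fusion theorem. -/

set_option autoImplicit false
set_option linter.unusedVariables false
set_option linter.unusedSectionVars false

namespace AI

open Cfsg Subgroup FT H4 H5 GW L
open M4 (SC)
open MW (Om mem_Om Om_nor Om_le Om_el Om_cen)
open scoped commutatorElement

universe u

section

variable {G : Type*} [Group G] [Finite G] {S P Q D E W : Subgroup G} {g n r s u v w x y z ρ σ : G}

theorem Dv.par (d : Dv S v ρ) (two : IsPGroup 2 S) (hr : r ∈ S) :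
    ∃ a : ℤ, Odd a ∧ r * ρ * r⁻¹ = ρ ^ a := by
  obtain ⟨a, ha⟩ := mem_zpowers_iff.1 (cmem (d.nor hr) (mem_zpowers ρ))
  obtain ⟨c, hc⟩ := mem_zpowers_iff.1 (cmem' (d.nor hr) (mem_zpowers ρ))
  have e1 : Even (a * c - 1) := DD.even_of two d.rS (fun e => d.big (by simp [e])) (by
    rw [zpow_sub_one, zpow_mul, ha, ← cjz, hc]; group)
  exact ⟨a, Int.not_even_iff_odd.1 fun h =>
    Int.not_even_iff_odd.2 ((h.mul_right c).sub_odd odd_one) e1, ha.symm⟩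

theorem Vz.uniq {z' : G} (q : Vz S E x z) (q' : Vz S E y z') : y = x ∨ y = x * z := by
  obtain ⟨u, hu, e⟩ := q'.ex
  have uT : u ∈ S ⊓ Nor E := ⟨hu, q'.nor hu (e ▸ c1.2 (q.e.cm (mul_mem q'.vP q'.zP) q'.vP))⟩
  have ne : y * z' ≠ y := fun c => q'.z1 (mul_eq_left.1 c)
  have e1 : z' = z := by
    have c := GW.cen.1 ((q.dec2 y q'.vP).resolve_left fun c => ne (by
      rw [← e, ← GW.cen.1 c u uT, mul_inv_cancel_right])) u uT
    have e2 : u * y * u⁻¹ = y * x * (u * x * u⁻¹) := by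
      rw [← mul_assoc (y * x), ← mul_assoc (y * x), c, mul_assoc u (y * x), mul_assoc y, q.vv,
        mul_one]
    rcases q.cjT u uT with e3 | e3 <;> rw [e, e3, mul_assoc] at e2
    · exact (ne (by rw [e2, q.vv, mul_one])).elim
    · rwa [l2 q.vv, mul_right_inj] at e2
  subst e1
  obtain ⟨k, hk, e2⟩ := q.fz
  obtain ⟨j, hj, e3⟩ := q'.fz
  have := q.cls _ (mul_mem hj (inv_mem hk))
  rw [show j * k⁻¹ * x * (j * k⁻¹)⁻¹ = y by rw [← e2, ← e3]; group] at this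
  exact this.resolve_left fun c => ne (by rw [← e, c, c1'.1 (q.zc hu)])

/-- one class of essential subgroups -/
theorem Vz.one (h : Vz S P v z) (d : Dv S v ρ) (al : ∀ E, Ess S E → ∃ r ∈ S, conjS r P = E) :
    False := by
  have ev : ∀ i : ℤ, Even i → ∀ r ∈ S, r * v * r⁻¹ = v * ρ ^ i → r ∈ zpowers ρ ⊔ P := by
    rintro _ ⟨k, rfl⟩ r hr e
    have m := zpow_mem_zpowers ρ k
    refine (mul_mem_cancel_left (mem_sup_left m)).1 (mem_sup_right (h.cen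
      ⟨mul_mem (zpow_mem d.rS k) hr, c1'.2 ?_⟩))
    calc _ = ρ ^ k * (r * v * r⁻¹) * (ρ ^ k)⁻¹ := by group
      _ = ρ ^ k * ((ρ ^ k)⁻¹ * v * (ρ ^ k)⁻¹⁻¹) * (ρ ^ k)⁻¹ := by rw [e, cj_inv d.inv m, zpow_add]
      _ = _ := by group
  have od : ∀ r ∈ S, r ∉ zpowers ρ ⊔ P → ∃ i : ℤ, Odd i ∧ r * v * r⁻¹ = v * ρ ^ i := fun r hr c => by
    obtain ⟨i, e⟩ := d.all r hr
    exact ⟨i, Int.not_even_iff_odd.1 fun hi => c (ev i hi r hr e), e⟩
  have h0 : ∀ x ∈ S, ∀ y ∈ S, x ∉ zpowers ρ ⊔ P → y ∉ zpowers ρ ⊔ P → x * y ∈ zpowers ρ ⊔ P :=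
    fun x hx y hy c c' => by
    obtain ⟨i, hi, e⟩ := od x hx c
    obtain ⟨j, hj, e'⟩ := od y hy c'
    obtain ⟨a, ha, e1⟩ := d.par h.fu.two hx
    refine ev _ (hi.add_odd (ha.mul hj)) _ (mul_mem hx hy) ?_
    calc _ = x * (y * v * y⁻¹) * x⁻¹ := by group
      _ = _ := by rw [e', ← conj_mul, e, cjz, e1, zpow_add, zpow_mul, mul_assoc]
  have l : ∀ E, Ess S E → E ≤ zpowers ρ ⊔ P := fun E p x hx => by
    obtain ⟨r, hr, rfl⟩ := al E p
    obtain ⟨y, hy, rfl⟩ := exc hx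
    by_cases c : r ∈ zpowers ρ ⊔ P
    · exact cmem (le_normalizer c) (mem_sup_right hy)
    rw [mul_assoc]
    exact h0 r hr _ (mul_mem (h.e.le hy) (inv_mem hr)) c
      fun e => c (inv_mem_iff.1 ((mul_mem_cancel_left (mem_sup_right hy)).1 e))
  obtain ⟨s, hs, e⟩ := d.one
  have e1 := h.fu.no2 h0 (fun n hn => mem_normalizer_of_conjS_le (by
    rw [conjS_sup, W.conj_zp]
    refine sup_le (zpowers_le.2 (mem_of_eq (mul_mem (l _ (h.conj hn).e (h.conj hn).vP)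
      (l _ ((h.cj hs).conj hn).e ((h.cj hs).conj hn).vP)) ?_)) (l _ (h.conj hn).e)
    rw [conj_mul, e, l2 h.vv])) fun E p x hx y hy =>
      iff_of_true (l E p hy) (l E p (cmem (pGenIn_le 2 _ hx) hy))
  obtain ⟨a, ha, b, hb, rfl⟩ := (mem_sup_of_le_normalizer_left (h.e.le.trans d.nor)).1 (e1 hs)
  obtain ⟨k, rfl⟩ := mem_zpowers_iff.1 ha
  have e2 := cj_inv d.inv (inv_mem ha)
  rw [show ρ ^ k * b * v * (ρ ^ k * b)⁻¹ = ρ ^ k * (b * v * b⁻¹) * (ρ ^ k)⁻¹ by group,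
    h.e.cm hb h.vP, mul_inv_cancel_right] at e
  rw [inv_inv, e, mul_right_inj] at e2
  have := DD.even_of h.fu.two d.rS (fun e => d.big (by simp [e])) (j := 2 * k + 1) (by
    rw [zpow_add_one, two_mul, zpow_add]
    nth_rewrite 3 [e2]
    group)
  exact Int.not_even_iff_odd.2 (odd_two_mul_add_one k) this

/-- two classes of essential subgroups -/
structure TwF (S P Q : Subgroup G) (v w z : G) : Prop where
  p : Vz S P v z
  q : Vz S Q w z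
  big : v * w * (v * w) * (v * w * (v * w)) ≠ 1
  a1 : ∀ r ∈ S, ∃ i : ℤ, r * v * r⁻¹ = v * (v * w) ^ (2 * i)
  a2 : ∀ r ∈ S, ∃ i : ℤ, r * w * r⁻¹ = w * (w * v) ^ (2 * i)

theorem Vz.a1 (h : Vz S P v z) (d : Dv S v ρ) (q : Vz S Q w z) (ne : ∀ r ∈ S, conjS r P ≠ Q) :
    v * w * (v * w) * (v * w * (v * w)) ≠ 1 ∧
      ∀ r ∈ S, ∃ i : ℤ, r * v * r⁻¹ = v * (v * w) ^ (2 * i) := by
  obtain ⟨k, hk⟩ := mem_zpowers_iff.1 (h.pair d q.vS q.vv (fun x hx => q.sq x (q.cen hx))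
    fun r hr c => h.nmem_of q.e ne hr (q.cen ⟨cmem (le_normalizer hr) h.vS, c⟩))
  refine ⟨fun c => d.big (by rw [← hk, ← (Commute.refl _).mul_zpow, c, one_zpow]), fun r hr => ?_⟩
  obtain ⟨i, e⟩ := d.all r hr
  exact ⟨k * i, by rw [e, ← hk, zpow_mul, zpow_two, zpow_mul]⟩

theorem Vz.tw (h : Vz S P v z) (d : Dv S v ρ) (p : Ess S Q) (ne : ∀ r ∈ S, conjS r P ≠ Q) :
    ∃ w, TwF S P Q v w z := by
  obtain ⟨u, hu⟩ := h.other d p ne
  obtain ⟨w, q⟩ := hu.vz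
  obtain ⟨b, a1⟩ := h.a1 d q ne
  obtain ⟨τ, d'⟩ := q.dih ⟨v, h.vS, fun c => b (by
    have := c1.1 c
    rw [DD.isq h.vv] at this
    calc _ = v * w * (v * w) * (v * w * v * w) := by group
      _ = _ := by rw [this]; simp only [mul_assoc, l2 h.vv, l2 q.vv, h.vv])⟩
  exact ⟨w, h, q, b, a1, (q.a1 d' h fun r hr e => ne r⁻¹ (inv_mem hr)
    (e ▸ conjS_inv_conjS r Q)).2⟩

namespace TwF

variable (h : TwF S P Q v w z)
include h

theorem wv : w * v = (v * w)⁻¹ := by rw [mul_inv_rev, DD.isq h.p.vv, DD.isq h.q.vv]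

theorem symm : TwF S Q P w v z := ⟨h.q, h.p, fun c => h.big (by
  rw [h.wv] at c; rw [← inv_eq_one, ← c]; group), h.a2, h.a1⟩

theorem sS : v * w ∈ S := mul_mem h.p.vS h.q.vS

theorem inv : v * (v * w) * v⁻¹ = (v * w)⁻¹ := by rw [l2 h.p.vv, DD.isq h.p.vv, h.wv]

theorem b2 : v * w * (v * w) ≠ 1 := fun c => h.big (by rw [c, one_mul])

theorem a3 (hr : r ∈ S) : ∃ i : ℤ, r * w * r⁻¹ = v * (v * w) ^ i := by
  obtain ⟨i, e⟩ := h.a2 r hr
  exact ⟨1 + -(2 * i), by rw [e, h.wv, zpow_one_add, ← mul_assoc, l2 h.p.vv, inv_zpow']⟩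

theorem nor : S ≤ Nor (zpowers (v * w)) := fun r hr => mem_normalizer_of_conjS_le (by
  obtain ⟨i, hi⟩ := h.a1 r hr
  obtain ⟨j, hj⟩ := h.a3 hr
  rw [W.conj_zp, zpowers_le, ← conj_mul, hi, hj]
  exact refl_mul h.p.vv h.inv _ _)

theorem refl (l : ℤ) : ∃ r ∈ S, r * v * r⁻¹ = v * (v * w) ^ l ∨ r * w * r⁻¹ = v * (v * w) ^ l := by
  obtain ⟨k, rfl | rfl⟩ := Int.even_or_odd' l
  · exact ⟨_, inv_mem (zpow_mem h.sS k), Or.inl (by
      rw [cj_inv h.inv (zpow_mem_zpowers _ k), two_mul, zpow_add])⟩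
  · refine ⟨_, inv_mem (zpow_mem h.sS k), Or.inr ?_⟩
    rw [cj_inv (ρ := w * v) h.symm.inv (by rw [h.wv, zpowers_inv]; exact zpow_mem_zpowers _ k),
      add_comm, zpow_one_add, ← mul_assoc v, l2 h.p.vv, two_mul, zpow_add]

theorem cls (p : Ess S E) : ∃ r ∈ S, conjS r P = E ∨ conjS r Q = E := by
  by_contra! c
  obtain ⟨ρ, d⟩ := h.p.dih ⟨w, h.q.vS, fun c => h.big (by
    have := c1.1 c
    rw [DD.isq h.q.vv] at this
    calc _ = v * w * (v * w) * (v * (w * v * w)) := by group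
      _ = _ := by rw [← this]; simp only [mul_assoc, l2 h.p.vv, l2 h.q.vv, h.p.vv])⟩
  obtain ⟨u, hu⟩ := h.p.other d p fun r hr => (c r hr).1
  obtain ⟨x, q⟩ := hu.vz
  obtain ⟨i, e⟩ := h.a1 x q.vS
  rcases dh h.p.fu.two h.sS (fun e => h.b2 (by rw [e, one_mul])) (h.nor q.vS) (even_two_mul i) e
    with ⟨l, e1⟩ | e1
  · obtain ⟨r, hr, e2 | e2⟩ := h.refl l
    · exact h.p.nmem_of p (fun r hr => (c r hr).1) hr
        (q.cen ⟨cmem (le_normalizer hr) h.p.vS, e2 ▸ e1⟩)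
    · exact h.q.nmem_of p (fun r hr => (c r hr).2) hr
        (q.cen ⟨cmem (le_normalizer hr) h.q.vS, e2 ▸ e1⟩)
  · obtain ⟨y, hy, yy⟩ := h.p.root h.sS h.inv h.b2
    exact q.sq y (q.cen ⟨zpowers_le.2 h.sS hy, e1 y hy (by rw [yy, q.zz])⟩) yy

theorem zm : z ∈ zpowers (v * w) := by
  obtain ⟨y, hy, rfl⟩ := h.p.root h.sS h.inv h.b2
  exact mul_mem hy hy

/-- every essential subgroup comes with a reflection -/
theorem vz (p : Ess S E) : ∃ x, Vz S E x z ∧ ∃ i : ℤ, x = v * (v * w) ^ i := by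
  obtain ⟨r, hr, rfl | rfl⟩ := h.cls p
  · obtain ⟨i, e⟩ := h.a1 r hr
    exact ⟨_, h.p.cj hr, _, e⟩
  · exact ⟨_, h.q.cj hr, h.a3 hr⟩

theorem nn (hn : n ∈ Nor S) : ∃ i : ℤ, n * v * n⁻¹ = v * (v * w) ^ i := by
  obtain ⟨x, q, i, rfl⟩ := h.vz (h.p.conj hn).e
  obtain ⟨j, hj⟩ := mem_zpowers_iff.1 h.zm
  rcases q.uniq (h.p.conj hn) with e | e
  · exact ⟨i, e⟩
  · exact ⟨i + j, by rw [e, ← hj, zpow_add, mul_assoc]⟩

theorem nn' (hn : n ∈ Nor S) : ∃ i : ℤ, n * w * n⁻¹ = v * (v * w) ^ i := by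
  obtain ⟨i, e⟩ := h.symm.nn hn
  exact ⟨1 + -i, by rw [e, h.wv, zpow_one_add, ← mul_assoc, l2 h.p.vv, inv_zpow']⟩

theorem nor' : Nor S ≤ Nor (zpowers (v * w)) := fun r hr => mem_normalizer_of_conjS_le (by
  obtain ⟨i, hi⟩ := h.nn hr
  obtain ⟨j, hj⟩ := h.nn' hr
  rw [W.conj_zp, zpowers_le, ← conj_mul, hi, hj]
  exact refl_mul h.p.vv h.inv _ _)

theorem dec (hr : r ∈ S) : ∃ i : ℤ, ∃ d ∈ P, r = (v * w) ^ i * d := by
  obtain ⟨i, e⟩ := h.a1 r hr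
  have m := zpow_mem_zpowers (v * w) i
  refine ⟨-i, (v * w) ^ i * r, h.p.cen ⟨mul_mem (zpow_mem h.sS i) hr, c1'.2 ?_⟩, by group⟩
  calc _ = (v * w) ^ i * (r * v * r⁻¹) * ((v * w) ^ i)⁻¹ := by group
    _ = (v * w) ^ i * (((v * w) ^ i)⁻¹ * v * ((v * w) ^ i)⁻¹⁻¹) * ((v * w) ^ i)⁻¹ := by
      rw [e, cj_inv h.inv m, two_mul, zpow_add]
    _ = _ := by group

theorem com (h1 : v * w ∈ W) (h2 : v ∈ W) (p : Ess S E) (hx : x ∈ pGenIn 2 (Nor E)) (hy : y ∈ E) :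
    y⁻¹ * (x * y * x⁻¹) ∈ W := by
  obtain ⟨t, q, i, rfl⟩ := h.vz p
  exact sup_le (zpowers_le.2 (zpowers_le.2 h1 h.zm)) (zpowers_le.2 (mul_mem h2 (zpow_mem h1 i)))
    (q.com x hx y hy)

theorem pm : S ≤ Cen1 (v * w) ⊔ zpowers v := by
  refine h.p.fu.foc (fun n hn y hy => mem_sup_left (c1'.2 ?_)) fun E p x hx y hy =>
    h.com (mem_sup_left (c1.2 rfl)) (mem_sup_right (mem_zpowers v)) p hx hy
  obtain ⟨a, ha⟩ := mem_zpowers_iff.1 (cmem (h.nor hy) (mem_zpowers _))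
  obtain ⟨c, hc⟩ := mem_zpowers_iff.1 (cmem' (h.nor' hn) (mem_zpowers _))
  generalize v * w = σ at *
  have e : y * σ ^ c * y⁻¹ = n⁻¹ * σ ^ a * n⁻¹⁻¹ := by
    rw [cjz, cjz, ← ha, inv_inv, ← hc, ← zpow_mul, ← zpow_mul, mul_comm]
  calc _ = y⁻¹ * n * (y * (n⁻¹ * σ * n) * y⁻¹) * n⁻¹ * y := by group
    _ = _ := by rw [← hc, e, ha]; group

theorem cenR : R0 P ≤ Cen S := fun d hd => by
  have e1 : d ∈ Cen1 (v * w) := by
    obtain ⟨a, ha, b, hb, e⟩ := (mem_sup_of_le_normalizer_left (zpowers_le.2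
      (mem_normalizer_of_conjS_le (by
        rw [conj_c1, h.inv]
        exact fun x hx => c1.2 (Commute.inv_right_iff.1 (c1.1 hx)))))).1 (h.pm (h.p.e.le hd.1))
    rcases W.mem_zp2 h.p.vv hb with rfl | rfl
    · exact mem_of_eq ha (by rw [← e, mul_one])
    obtain ⟨y, hy, yy⟩ := h.p.root h.sS h.inv h.b2
    have yS := zpowers_le.2 h.sS hy
    have c := h.p.cj (inv_mem yS)
    rw [cj_inv h.inv hy, yy] at c
    have e2 := h.p.e.eq_of c.e (Om_le.trans (le_trans (le_inf h.p.e.le (cen_iff_le.1 (h.p.e.ab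
      (mul_mem h.p.vP h.p.zP)))) c.cen))
    have e3 := GW.cen.1 hd.2 y (le_pGenIn inf_le_right h.p.e.syl.isPGroup
      (mem_inf.2 ⟨yS, inv_mem_iff.1 (mem_normalizer_iff_conjS.2 e2.symm)⟩))
    have e4 := c1.1 (zpowers_le.2 (c1.2 (c1.1 ha).symm) hy)
    refine (h.p.z1 ?_).elim
    rw [← e, mul_assoc, ← mul_assoc y, e4, mul_assoc, mul_right_inj] at e3
    have e5 := inv_zp h.inv hy
    rw [e3, mul_inv_cancel_right] at e5
    rw [← yy, mul_eq_one_iff_eq_inv.2 e5]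
  exact GW.cen.2 fun r hr => by
    obtain ⟨i, a, ha, rfl⟩ := h.dec hr
    rw [← mul_assoc, (Commute.zpow_right (c1.1 e1) i).eq, mul_assoc, h.p.e.cm hd.1 ha, mul_assoc]

theorem R0_eq (p : Ess S E) : R0 E = R0 P ∨ R0 E = R0 Q := by
  obtain ⟨r, hr, rfl | rfl⟩ := h.cls p <;> rw [← conj_R0]
  · exact Or.inl (mem_normalizer_iff_conjS.1 (mcnor (le_cen_symm h.cenR hr)))
  · exact Or.inr (mem_normalizer_iff_conjS.1 (mcnor (le_cen_symm h.symm.cenR hr)))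

theorem res : (∃ m : ℕ, 2 ≤ m ∧ Nonempty (S ≃* DihedralGroup m)) ∨
    ∃ A, A ≠ ⊥ ∧ A ≤ S ∧ SC ⊤ A := by
  have BS : R0 P ⊓ R0 Q ≤ S := inf_le_left.trans (inf_le_left.trans h.p.e.le)
  by_cases B0 : R0 P ⊓ R0 Q = ⊥
  swap
  · have nB : Nor S ≤ Nor (R0 P ⊓ R0 Q : Subgroup G) := fun n hn => by
      have e1 := h.R0_eq (h.p.e.conj hn)
      have e2 := h.R0_eq (h.q.e.conj hn)
      rw [← conj_R0] at e1 e2
      rw [mem_normalizer_iff_conjS, conjS_inf]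
      rcases e1 with e1 | e1 <;> rcases e2 with e2 | e2
      · rw [e1, e2, conjS_injective n (e2.trans e1.symm)]
      · rw [e1, e2]
      · rw [e1, e2, inf_comm]
      · rw [e1, e2, conjS_injective n (e1.trans e2.symm)]
    refine Or.inr ⟨_, Om_ne (h.p.fu.two.to_le BS) B0, Om_le.trans BS, h.p.fu.sc (Om_le.trans BS)
      Om_el (nB.trans Om_nor) fun E p x hx => iv_nor (Om_nor (mcnor (le_cen_symm ?_ hx)))⟩
    refine le_trans ?_ (inf_le_right : R0 E ≤ _)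
    exact (h.R0_eq p).elim (fun e => inf_le_left.trans e.ge) fun e => inf_le_right.trans e.ge
  have d0 := DD.mkD0 (W.o2 h.p.vv fun e => nmem h.inv h.b2 (e ▸ one_mem _)) h.inv (nmem h.inv h.b2)
  have m1 := mem_sup_left (T := zpowers v) (mem_zpowers (v * w))
  have m2 := mem_sup_right (S := zpowers (v * w)) (mem_zpowers v)
  have m3 := mem_sup_left (T := zpowers v) h.zm
  have k : ∀ x ∈ S, ∃ a ∈ zpowers (v * w) ⊔ zpowers v, ∃ d ∈ R0 P, x = a * d := fun x hx => by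
    obtain ⟨i, a, ha, rfl⟩ := h.dec hx
    have k : ∀ b ∈ P, b ∈ Cen (S ⊓ Nor P : Subgroup G) →
        ∃ a ∈ zpowers (v * w) ⊔ zpowers v, ∃ d ∈ R0 P, b = a * d := fun b hb c =>
      (h.p.dec b hb c).elim (fun e => ⟨1, one_mem _, b, e, (one_mul b).symm⟩) fun e =>
        ⟨z, m3, _, e, by rw [h.p.e.cm hb h.p.zP, l2 h.p.zz]⟩
    rcases h.p.dec2 a ha with c | c
    · obtain ⟨b, hb, d, hd, rfl⟩ := k a ha c
      exact ⟨_, mul_mem (zpow_mem m1 i) hb, d, hd, (mul_assoc _ _ _).symm⟩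
    · obtain ⟨b, hb, d, hd, e⟩ := k _ (mul_mem ha h.p.vP) c
      exact ⟨_, mul_mem (mul_mem (zpow_mem m1 i) m2) hb, d, hd, by
        rw [mul_assoc, mul_assoc, ← e, h.p.e.cm ha h.p.vP, l2 h.p.vv]⟩
  have k2 : ∀ d ∈ R0 P, d ≠ 1 → d * z ∈ R0 Q := fun d hd d1 => by
    have c := h.cenR hd
    exact (h.q.dec d (h.q.e.cenS ⟨h.p.e.le hd.1, centralizer_anti h.q.e.le c⟩)
      (centralizer_anti inf_le_left c)).resolve_left fun e => d1 (W.eq1 B0 hd e)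
  have e := h.p.fu.no2 (W := zpowers (v * w) ⊔ zpowers v) (fun x hx y hy c c' => by
      obtain ⟨a, ha, d, hd, rfl⟩ := k x hx
      obtain ⟨b, hb, f, hf, rfl⟩ := k y hy
      have e1 := mul_mem (k2 d hd fun e => c (by simpa [e] using ha))
        (k2 f hf fun e => c' (by simpa [e] using hb))
      rw [mul_assoc, ← mul_assoc z, ← h.p.e.cm hf.1 h.p.zP, mul_assoc, h.p.zz, mul_one] at e1
      rw [mul_assoc, ← mul_assoc d, GW.cen.1 (h.cenR hd) b (sup_le (zpowers_le.2 h.sS)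
        (zpowers_le.2 h.p.vS) hb), mul_assoc, W.eq1 B0 (mul_mem hd hf) e1, mul_one]
      exact mul_mem ha hb) (fun n hn => mem_normalizer_of_conjS_le (by
      obtain ⟨i, e⟩ := h.nn hn
      rw [conjS_sup, mem_normalizer_iff_conjS.1 (h.nor' hn), W.conj_zp, e]
      exact sup_le le_sup_left (zpowers_le.2 (mul_mem m2 (zpow_mem m1 i)))))
    fun E p x hx y hy => by
      beta_reduce
      rw [← mul_mem_cancel_right (h.com m1 m2 p hx hy), mul_inv_cancel_left]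
  rw [le_antisymm e (sup_le (zpowers_le.2 h.sS) (zpowers_le.2 h.p.vS))]
  exact Or.inl (d0.iso fun e => h.b2 (by rw [e, one_mul]))

end TwF

end

theorem fusThm : FusThm.{u} := fun G _ _ S a b c => by
  have h : Fu S := ⟨a, b, c⟩
  by_cases hn : ∀ P, Ess S P → S ≤ Nor P
  · exact Or.inr (h.normal hn)
  push Not at hn
  obtain ⟨D, d, hn⟩ := hn
  obtain ⟨z, u, q, -⟩ := h.q2 d hn
  obtain ⟨v, p⟩ := q.vz
  obtain ⟨r, hr, r1⟩ := SetLike.not_le_iff_exists.1 hn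
  obtain ⟨ρ, e⟩ := p.dih ⟨r, hr, fun c => r1 (p.nor hr c)⟩
  by_cases al : ∀ E, Ess S E → ∃ r ∈ S, conjS r D = E
  · exact (p.one e al).elim
  push Not at al
  obtain ⟨E, f, ne⟩ := al
  obtain ⟨w, t⟩ := p.tw e f ne
  exact t.res.imp_right Or.inr

end AI
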