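import Cfsg.Agent.AI.Stmt
import Cfsg.Agent.IC.A

/-! Strongly closed elementary abelian subgroups and 2-components: existence of a bad component
and pump-ups. -/

set_option autoImplicit false
set_option linter.unusedVariables false
set_option linter.unusedSectionVars false

namespace AI

open Cfsg Subgroup FT H4 H5 GW L
open W (CM HasSE TO Om)
open M4 (SC)

universe u

section tools

variable {G : Type*} [Group G] [Finite G] {H K R P A Q : Subgroup G}

/-- 2-subgroups of `K` and of `CM K` inside a common 2-group commute -/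
theorem cen_of_CM (hR : IsPGroup 2 R) (h1 : Q ≤ R ⊓ K) (h2 : P ≤ R ⊓ CM K) : Q ≤ Cen P := by
  rw [← commutator_eq_bot_iff_le_centralizer, eq_bot_iff, ← W.two_odd hR (odd_Oo K)]
  exact le_inf ((commutator_mono (h1.trans inf_le_left) (h2.trans inf_le_left)).trans
    (commutator_le_self R)) ((commutator_mono (h1.trans inf_le_right) le_rfl).trans
      (W.com_CM (h2.trans inf_le_right)))

theorem not_syl_le_CM (hK : PQS 2 K) (hQ : IsSylowOf 2 Q K) : ¬ Q ≤ CM K := fun e =>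
  (PCompIn.mk SN.refl hK).not_commutator_sylow_le hQ (W.com_CM e)

theorem not_le_CM (hK : PQS 2 K) : ¬ K ≤ CM K := fun e => by
  obtain ⟨Q, hQ⟩ := exists_isSylowOf (q := 2) K
  exact not_syl_le_CM hK hQ (hQ.le.trans e)

/-- (a) a strongly closed elementary abelian subgroup normalizes every 2-component -/
theorem nor_comp (h : SC H A) (hK : PCompIn 2 H K) : A ≤ Nor K := fun a ha => by
  by_contra hn
  obtain ⟨R, hR, AR⟩ := exists_isSylowOf_ge (M4.el_two h.el) h.le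
  have RA := h.nor hR.isPGroup hR.le AR
  have hK' := hK.conjS_of_mem (h.le ha)
  have ne : K ≠ conjS a K := fun e => hn (mem_normalizer_iff_conjS.2 e.symm)
  have hQ := IsSylowOf.inf_of_sn hR hK.sn
  have PC : R ⊓ conjS a K ≤ CM K := inf_le_right.trans (W.le_CM_of_ne hK hK' ne)
  have two : IsPGroup 2 (R ⊓ conjS a K : Subgroup G) := hR.isPGroup.to_inf_left
  have k1 := (hK.pqs.pGenIn_inf_centralizer two (PC.trans (W.CM_le_nor K)) (W.com_CM PC)).1
  have l1 := pGenIn_le 2 (K ⊓ Cen (R ⊓ conjS a K : Subgroup G))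
  have q1 : R ⊓ K ≤ pGenIn 2 (K ⊓ Cen (R ⊓ conjS a K : Subgroup G)) := le_pGenIn
    (le_inf inf_le_right (cen_of_CM hR.isPGroup le_rfl (le_inf inf_le_left PC))) hQ.isPGroup
  have e := focal_le (K := A) (hQ.of_le q1 (l1.trans inf_le_left)) fun x hx k hk hy => by
    have e1 : x⁻¹ * (a * x * a⁻¹) ∈ A :=
      mem_of_eq (mul_mem (cmem' (RA hx.1) ha) (inv_mem ha)) (by group)
    have e2 : a * x * a⁻¹ ∈ R ⊓ conjS a K :=
      ⟨R.mul_mem (R.mul_mem (AR ha) hx.1) (R.inv_mem (AR ha)), conj_mem_conjS hx.2⟩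
    have e3 := cen.1 (l1 hk).2 _ e2
    have e4 : k * (x⁻¹ * (a * x * a⁻¹)) * k⁻¹ = (k * x * k⁻¹)⁻¹ * (a * x * a⁻¹) := by
      rw [mul_inv_eq_iff_eq_mul, mul_assoc (k * x * k⁻¹)⁻¹, ← e3]; group
    have e5 := h.sc k (hK.le (l1 hk).1) _ e1 (e4 ▸ RA (R.mul_mem (R.inv_mem hy.1) e2.1))
    rw [e4] at e5
    exact mem_of_eq (mul_mem e1 (inv_mem e5)) (by group)
  rw [k1.perfect, inf_eq_left.2 q1] at e
  refine ne (hK.eq_of_sylow_le hK' hQ fun x hx => ?_)
  rw [← c1'.1 (c1s.1 (M4.el_c1 h.el ha (e hx)))]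
  exact conj_mem_conjS hx.2

end tools

section main

variable {G : Type u} [Group G] [Finite G] {H K R P A J : Subgroup G}

/-- (b) if `A` meets `K` in `CM K` then `A` centralizes `K` modulo its core -/
theorem le_CM_of_inf (h : SC H A) (hK : PCompIn 2 H K) (e : A ⊓ K ≤ CM K) : A ≤ CM K := by
  have AK := nor_comp h hK
  intro a ha
  rcases hK.pqs.commutator_eq_or (zpowers_le.2 (AK ha)) with e0 | e0
  swap
  · exact W.le_CM (zpowers_le.2 (AK ha)) e0 (mem_zpowers a)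
  exfalso
  have nK : K ⊔ A ≤ Nor K := sup_le le_normalizer AK
  obtain ⟨X, _, _, f, hf, hk⟩ := exists_hom_ker_eq (L := K ⊔ A) (M := K ⊓ CM K)
    (ninf nK (nK.trans (W.nCM K)))
  have s := sc_im (h.mono le_sup_right (sup_le hK.le h.le)) hf
  have aY : a ∈ K ⊔ A := mem_sup_right ha
  have ai : f ⟨a, aY⟩ ∈ im f A := mem_im_of_mem aY ha
  have key : ∀ g, g * f ⟨a, aY⟩ * g⁻¹ * (f ⟨a, aY⟩)⁻¹ ∈ pPrimeCore 2 X := by
    by_cases a1 : f ⟨a, aY⟩ = 1
    · intro g; rw [a1]; simp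
    obtain ⟨T, hT, AT⟩ := exists_isSylowOf_ge (M4.el_two s.el) (M4.el_c1 s.el ai)
    refine zstar' (W.o2 (s.el _ ai) a1) (H3.isolated_of_weaklyClosed
      (PElt_of_mem (M4.el_two s.el) ai) hT fun g hg => ?_)
    have e1 := s.sc g trivial _ ai (s.nor hT.isPGroup le_top AT hg)
    obtain ⟨g, rfl⟩ := hf g
    obtain ⟨b, hb, e2⟩ := mem_im.1 (mul_mem e1 (inv_mem ai))
    have e3 : (g : G) * a * (g : G)⁻¹ * a⁻¹ ∈ K := by
      obtain ⟨k, hk, c, hc, e4⟩ := (mem_sup_left_iff AK).1 g.2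
      rw [← e4]
      exact mem_of_eq (mul_mem hk (cmem (AK ha) (inv_mem hk))) (by
        rw [show k * c * a * (k * c)⁻¹ = k * (c * a * c⁻¹) * k⁻¹ by group,
          c1'.1 (M4.el_c1 h.el ha hc)]
        group)
    have e4 : f (b⁻¹ * (g * ⟨a, aY⟩ * g⁻¹ * ⟨a, aY⟩⁻¹)) = 1 := by
      simp only [map_mul, map_inv, e2, inv_mul_cancel]
    have e5 : (b : G) ∈ K := by
      have := ((map_eq_one_iff_of_ker hk).1 e4).1
      exact mem_of_eq (K.mul_mem e3 (K.inv_mem this)) (by simp [mul_assoc])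
    rw [← mul_inv_eq_one, ← e2]
    exact (map_eq_one_iff_of_ker hk).2 ⟨e5, e ⟨hb, e5⟩⟩
  obtain ⟨Q, hQ⟩ := exists_isSylowOf (q := 2) K
  have e1 : im f K ≤ pPrimeCore 2 X := by
    refine (im_mono e0.ge).trans ?_
    rw [im_commutator le_sup_left (zpowers_le.2 aY), im_zpowers aY]
    refine (le_cMod_iff.1 (zpowers_le.2 ⟨le_normalizer_of_normal (mem_top _), fun k _ => ?_⟩)).2
    exact key k
  have e2 : im f Q = ⊥ := eq_bot_iff.2 ((le_inf le_rfl ((im_mono hQ.le).trans e1)).trans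
    (W.two_odd (isPGroup_im hQ.isPGroup) (pPrimeCoreIn_top (p := 2) (G := X) ▸ odd_Oo ⊤)).le)
  exact not_syl_le_CM hK.pqs hQ
    (((im_eq_bot_iff hk (hQ.le.trans le_sup_left)).1 e2).trans inf_le_right)

/-- if `A` centralizes all 2-components modulo cores then `A ≤ O_{2',2}(H)` -/
theorem le_Opp_of_CM (h : SC H A) (e : ∀ K, PCompIn 2 H K → A ≤ CM K) : A ≤ Opp 2 H := by
  obtain ⟨X, _, _, f, hf, hk⟩ := exists_hom_ker_eq (lOo H)
  have h0 : pPrimeCoreIn 2 (⊤ : Subgroup X) = ⊥ := im_self hf ▸ pPrimeCoreIn_im_eq_bot hf hk le_rfl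
  have s := sc_im h hf
  rw [← pre_pCoreIn_eq_Opp hk le_rfl, ← im_le_iff h.le, im_self hf]
  set V := pCoreIn 2 (⊤ : Subgroup X)
  set B := im f A
  have nV : ⊤ ≤ Nor V := le_normalizer_pCoreIn 2 ⊤
  have two : IsPGroup 2 V := isPGroup_pCoreIn 2 ⊤
  have VB : V ≤ Nor B := le_sup_left.trans (s.nor
    (IsPGroup.to_sup_of_normal_left' two (M4.el_two s.el) (le_top.trans nV)) le_top le_sup_right)
  have nW : ⊤ ≤ Nor (B ⊓ V : Subgroup X) := fun g _ => mnor fun x hx =>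
    ⟨s.sc g trivial x hx.1 (VB (cmem (nV trivial) hx.2)), cmem (nV trivial) hx.2⟩
  have nE : ⊤ ≤ Nor (layerIn (⊤ : Subgroup X)) := le_normalizer.trans (nLay ⊤)
  refine le_trans (b := cMod V (B ⊓ V) ⊓ Cen (B ⊓ V : Subgroup X) ⊓ Cen (layerIn ⊤)) ?_
    (le_pCoreIn le_top (ninf (ninf ((le_inf nV nW).trans normalizer_le_normalizer_cMod)
      (ncen nW)) (ncen nE)) (isPGroup_of_forall_prime fun x hx o => ?_))
  · refine le_inf (le_inf (le_cMod_iff.2 ⟨le_top.trans nW,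
      le_inf (W.com_r VB) (W.com_l (le_top.trans nV))⟩)
      fun x hx => cen.2 fun y hy => M4.el_comm s.el hx hy.1) (le_cen_symm ?_)
    refine layerIn_le_iff.2 fun L hL => ?_
    obtain ⟨K, hK, rfl⟩ := W.lift_comp hf hk hL
    exact commutator_eq_bot_iff_le_centralizer.1 (W.im_cen_comp hk hK h.le (e K hK))
  · have o' : (Nat.card (zpowers x)).Coprime 2 := by rwa [Nat.card_zpowers]
    refine zpowers_eq_bot.1 (eq_bot_of_centralizes_components h0 le_top o' ?_ fun L hL => ?_)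
    · refine stable_series_cent (le_top.trans nV) (W.cop2 two (odd_iff_cop.2 o')).symm
        (Or.inl (solv_zp x)) (fun i => if i = 0 then V else if i = 1 then B ⊓ V else ⊥) 2
        le_rfl rfl fun i hi => ?_
      rcases (by omega : i = 0 ∨ i = 1) with rfl | rfl
      · simpa using (le_cMod_iff.1 (zpowers_le.2 hx.1.1)).2
      · simpa using commutator_eq_bot_iff_le_centralizer.2 (le_cen_symm (zpowers_le.2 hx.1.2))
    · exact commutator_eq_bot_iff_le_centralizer.2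
        (hL.le_layerIn.trans (le_cen_symm (zpowers_le.2 hx.2)))

theorem exists_bad (h : SC H A) (e : ¬ A ≤ Opp 2 H) : ∃ K, Bad H A K := by
  by_contra! c
  exact e (le_Opp_of_CM h fun K hK => le_CM_of_inf h hK (by_contra fun e1 => c K ⟨hK, e1⟩))

theorem exBad : ExBad.{u} := fun _ _ _ _ _ _ c e => exists_bad c.sc e

/-- pump-up of an arbitrary 2-component -/
theorem pump0 (h : SC H A) {a : G} (ha : a ∈ A) (hJ : PCompIn 2 (H ⊓ Cen1 a) J) :
    ∃ K, PCompIn 2 H K ∧ J ≤ K := by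
  have hP := (M4.el_two h.el).to_le (zpowers_le.2 ha)
  have e1 := lbal_in L.zstar hP (zpowers_le.2 (h.le ha))
  rw [H4.centralizer_zpowers] at e1
  have JL := hJ.le_pLayerIn.trans e1
  by_contra! c
  have : pLayerIn 2 H ≤ cMod J (Oo H) := pLayerIn_le_iff.2 fun K hK =>
    le_cMod_iff.2 ⟨hK.le.trans (lOo H), commutator_comm K J ▸ (le_cMod_iff.1
      ((IC.pu1 (h.le ha) (h.el a ha) hJ hK (nor_comp h hK ha)).resolve_left (c K hK))).2⟩
  exact hJ.pqs.not_le_of_coprime (odd_iff_cop.1 (odd_Oo H))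
    (hJ.perfect.ge.trans (le_cMod_iff.1 (JL.trans this)).2)

/-- centralizing the larger component modulo its core descends -/
theorem CM_down (e : J ≤ K) (hn : P ≤ Nor J) (h : P ≤ CM K) : P ≤ CM J :=
  W.cover le_rfl le_sup_left hn
    (odd_of_le ((commutator_mono e le_rfl).trans (W.com_CM h)) (odd_Oo K))

theorem pump : Pump.{u} := fun _ _ _ H R A J a c ha b => by
  obtain ⟨K, hK, e⟩ := pump0 c.sc ha b.comp
  exact ⟨K, ⟨hK, fun e1 => b.bad (CM_down e (lnor inf_le_right)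
    ((inf_le_inf_left A e).trans e1))⟩, e⟩

end main

end AI
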