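import Cfsg.Agent.AI.LA1
import Cfsg.Agent.Hz.S1

/-! The local quotient of a 2-component; simple sections with abelian Sylow 2-subgroups. -/

set_option autoImplicit false
set_option linter.unusedVariables false
set_option linter.unusedSectionVars false

namespace AI

open Cfsg Subgroup FT H4 H5 GW L
open W (CM HasSE TO Om AS)
open M4 (SC)

universe u

variable {G : Type u} [Group G] [Finite G] {H K M R P A Q L S T : Subgroup G}

/-- `L` is a simple normal subgroup with trivial centralizer -/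
structure Sim (L : Subgroup G) : Prop where
  nor : L.Normal
  qs : QS L
  cen : Cen L = ⊥

/-- the local quotient `M / (M ⊓ CM K)` -/
theorem loc (hK : PQS 2 K) (hKM : K ≤ M) (hn : M ≤ Nor K) :
    ∃ (X : Type u) (_ : Group X) (_ : Finite X) (f : M →* X), Function.Surjective f ∧
      f.ker = (M ⊓ CM K).subgroupOf M ∧ Sim (im f K) := by
  obtain ⟨X, _, _, f, hf, hk⟩ := exists_hom_ker_eq (L := M) (M := M ⊓ CM K)
    (ninf le_normalizer (hn.trans (W.nCM K)))
  have c : Cen (im f K) = ⊥ := eq_bot_iff.2 fun y hy => by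
    obtain ⟨x, rfl⟩ := hf y
    have n := zpowers_le.2 (hn x.2)
    have e1 := (commutator_le_iff_im hk hKM (zpowers_le.2 x.2)).2
      (by rw [im_zpowers x.2]; exact le_cen_symm (zpowers_le.2 hy))
    rcases hK.commutator_eq_or n with e | e
    · exact (not_le_CM hK (e.ge.trans (e1.trans inf_le_right))).elim
    · exact (map_eq_one_iff_of_ker hk).2 ⟨x.2, W.le_CM n e (mem_zpowers _)⟩
  refine ⟨X, _, ‹_›, f, hf, hk, normal_of_top_le_normalizer (im_self hf ▸ im_le_normalizer hn),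
    ⟨by rw [← im_commutator hKM hKM, hK.perfect], fun e => not_le_CM hK
      (((im_eq_bot_iff hk hKM).1 e).trans inf_le_right), fun N h1 h2 => ?_⟩, c⟩
  have e0 : im f (K ⊓ pre f N) = N := by rw [im_inf_pre, inf_eq_right.2 h1]
  have n : K ≤ Nor (K ⊓ pre f N : Subgroup G) := ninf le_normalizer (le_normalizer_pre hKM h2)
  rcases hK.normal _ inf_le_left n with e | e
  · exact Or.inl (by rw [← e0, e])
  · refine Or.inr (e0 ▸ ((im_eq_bot_iff hk (inf_le_left.trans hKM)).2 (le_inf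
      (inf_le_left.trans hKM) (W.le_CM (lnor inf_le_left) (by rwa [commutator_comm])))).le.trans
        bot_le)

namespace Sim

variable (h : Sim L)
include h

theorem simple : IsSimpleGroup L := QS.simple' h.qs (by rw [h.cen, inf_bot_eq])

theorem nc : ¬ IsMulCommutative L := fun e => h.qs.not_le_centralizer fun x hx =>
  GW.cen.2 fun y hy => congrArg Subtype.val (e.1.1 (⟨x, hx⟩ : L) ⟨y, hy⟩)

/-- the involutions generate `L` -/
theorem le_of_inv (e : ∀ x ∈ L, x * x = 1 → x ∈ M) : L ≤ M := by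
  rcases h.qs.normal (Om L) (W.Om_le L) (le_normalizer.trans (W.nOm L)) with e1 | e1
  · exact e1.ge.trans ((closure_le _).2 fun x hx => e x hx.1 hx.2)
  · obtain ⟨t, ht, o⟩ := QS.ex_inv h.qs
    have : t ∈ Cen L := e1 (subset_closure ⟨ht, ii o⟩)
    rw [h.cen] at this
    exact (ine o this).elim

theorem ti (se : HasSE L) (hS : IsSylowOf 2 S L) (hT : IsSylowOf 2 T L) {z : G} (z1 : z ≠ 1)
    (h1 : z ∈ S) (h2 : z ∈ T) : S = T := by
  have := h.simple
  obtain ⟨x, rfl⟩ := hS.exists_sylow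
  obtain ⟨y, rfl⟩ := hT.exists_sylow
  obtain ⟨M, hM⟩ := se
  obtain ⟨a, ha, rfl⟩ := h1
  obtain ⟨b, hb, e⟩ := h2
  rw [Hz.ti_of_se (W.oddCore_simple h.nc) hM (a := a) (fun e => z1 (by simp [e])) ha
    (Subtype.ext e ▸ hb)]

theorem known (as : AS S L) : Nat.card S = 4 ∨ HasSE L ∨ Nat.card S = 8 := by
  have := h.simple
  have e : Nat.card (S.subgroupOf L) = Nat.card S := Nat.card_congr
    (subgroupOfEquivOfLe as.le).toEquiv
  rcases W.known_top _ L (S.subgroupOf L) rfl h.nc as.sub with e1 | e1 | ⟨t, N, j⟩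
  · exact Or.inl (e ▸ e1)
  · exact Or.inr (Or.inl e1)
  · exact Or.inr (Or.inr (e ▸ j.c8))

/-- an outer involution normalizing the elementary abelian Sylow subgroup `S` centralizes an
involution outside `S` -/
theorem two_core (as : AS S L) (el : ∀ x ∈ S, x * x = 1) {t : G} (tt : t * t = 1) (tL : t ∉ L)
    (tS : t ∈ Nor S) (hD : ∀ c ∈ S, c ∈ Cen1 t → ∃ b ∈ S, c = b * (t * b * t⁻¹))
    (u : ∀ x ∈ L, x ∈ Cen1 t → x * x = 1 → x ∈ S) : False := by
  have n := h.nor
  have ti' : t⁻¹ = t := inv_eq_of_mul_eq_one_right tt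
  have key : ∀ j ∈ L, j * j = 1 → j ∈ S ∨ ∃ z ∈ S ⊓ Cen1 t, z ≠ 1 ∧ j ∈ Cen1 z := fun j hj jj => by
    rcases H8.dihedral_cases tt jj with ⟨k, k1, k2, k3, k4⟩ | ⟨k, -, k2⟩
    swap
    · exact (tL (mem_of_eq (n.conj_mem _ (k2 ▸ hj) ((t * j) ^ k * t)⁻¹) (by group))).elim
    have e : ∀ k : ℕ, (t * j) ^ k ∈ L ∨ (t * j) ^ k * t ∈ L := fun k => by
      induction k with
      | zero => exact Or.inl (by simp)
      | succ k ih =>
        rcases ih with e | e
        · exact Or.inr (mem_of_eq (mul_mem e (n.conj_mem j hj t)) (by rw [ti', pow_succ]; group))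
        · exact Or.inl (mem_of_eq (mul_mem e hj) (by rw [pow_succ]; group))
    set z := (t * j) ^ k
    rcases e k with e | e
    · exact Or.inr ⟨z, ⟨u z e (c1.2 k3.symm) k2, c1.2 k3.symm⟩, k1, c1.2 k4⟩
    have c0 : z * t ∈ Cen1 t := mul_mem (c1.2 k3.symm) (c1.2 rfl)
    obtain ⟨b, hb, e1⟩ := hD _ (u _ e c0 (by
      rw [mul_assoc, ← mul_assoc t, k3, mul_assoc, tt, mul_one, k2])) c0
    have bi : b⁻¹ = b := inv_eq_of_mul_eq_one_right (el b hb)
    have e2 : z = b * t * b⁻¹ := by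
      rw [← mul_right_cancel_iff (a := t), e1, bi, ti']; group
    have e3 := u (b⁻¹ * j * b) (mul_mem (mul_mem (inv_mem (as.le hb)) hj) (as.le hb))
      (c1.2 (by
        calc _ = b⁻¹ * (j * z) * b := by rw [e2]; group
          _ = _ := by rw [k4, e2]; group)) (by
        calc _ = b⁻¹ * (j * j) * b := by group
          _ = 1 := by rw [jj]; group)
    exact Or.inl (mem_of_eq (mul_mem (mul_mem hb e3) (inv_mem hb)) (by group))
  let φ : S →* G := MonoidHom.mk' (fun b => b * (t * b * t⁻¹)) fun a b => by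
    have := as.cm b.2 (cmem tS a.2)
    calc _ = a * (b * (t * a * t⁻¹)) * (t * b * t⁻¹) := by simp only [coe_mul]; group
      _ = _ := by rw [this]; group
  have r : φ.range = S ⊓ Cen1 t := le_antisymm (by
    rintro _ ⟨b, rfl⟩
    refine ⟨mul_mem b.2 (cmem tS b.2), c1.2 ?_⟩
    have := as.cm b.2 (cmem tS b.2)
    change b * (t * b * t⁻¹) * t = t * (b * (t * b * t⁻¹))
    rw [this]
    calc _ = t * b * (t⁻¹ * b * t) := by group
      _ = t * b * (t * b * t⁻¹) := by rw [ti']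
      _ = _ := by rw [← this]; group) fun c hc => by
    obtain ⟨b, hb, e⟩ := hD c hc.1 hc.2
    exact ⟨⟨b, hb⟩, e.symm⟩
  have k : φ.ker = (S ⊓ Cen1 t).subgroupOf S := Subgroup.ext fun b => by
    have bi : (b : G)⁻¹ = b := inv_eq_of_mul_eq_one_right (el b b.2)
    change (b : G) * (t * b * t⁻¹) = 1 ↔ (b : G) ∈ S ∧ (b : G) ∈ Cen1 t
    rw [c1s, c1', mul_eq_one_iff_inv_eq, bi, eq_comm]
    exact ⟨fun e => ⟨b.2, e⟩, fun e => e.2⟩
  have cd := φ.ker.card_mul_index
  rw [index_ker, r, k, Nat.card_congr (subgroupOfEquivOfLe inf_le_left).toEquiv] at cd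
  rcases h.known as with e | e | e
  · have e1 : Nat.card (S ⊓ Cen1 t : Subgroup G) = 2 := by
      rw [e] at cd
      exact Nat.mul_self_inj.1 cd
    obtain ⟨z, z1, hz⟩ := (Nat.card_eq_two_iff' (1 : (S ⊓ Cen1 t : Subgroup G))).1 e1
    have := h.le_of_inv (M := Cen1 (z : G)) fun j hj jj => by
      rcases key j hj jj with e2 | ⟨w, hw, w1, e2⟩
      · exact as.c1 z.2.1 e2
      · rwa [← hz ⟨w, hw⟩ fun e => w1 (congrArg Subtype.val e)]
    exact z1 (Subtype.ext (mem_bot.1 (h.cen ▸ cen_iff_le.2 this)))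
  · refine h.qs.not_le_of_isSolvable (isSolvable_of_isPGroup as.two) (h.le_of_inv fun j hj jj => ?_)
    rcases key j hj jj with e2 | ⟨w, hw, w1, e2⟩
    · exact e2
    obtain ⟨T, hT, e3⟩ := exists_isSylowOf_ge (K := L) (H8.isPGroup_sup_zpowers
      (as.two.to_le (zpowers_le.2 hw.1)) (mzp e2) (jj ▸ one_mem _))
      (sup_le (zpowers_le.2 (as.le hw.1)) (zpowers_le.2 hj))
    rw [h.ti e as.syl hT w1 hw.1 (e3 (mem_sup_left (mem_zpowers w)))]
    exact e3 (mem_sup_right (mem_zpowers j))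
  · rw [e] at cd
    generalize Nat.card (S ⊓ Cen1 t : Subgroup G) = m at cd
    have : m ≤ 3 := by nlinarith
    interval_cases m <;> omega

end Sim

end AI
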