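import Cfsg.Agent.AI.LA2

/-! Bad components of abelian type. -/

set_option autoImplicit false
set_option linter.unusedVariables false
set_option linter.unusedSectionVars false

namespace AI

open Cfsg Subgroup FT H4 H5 GW L
open W (CM HasSE TO Om AS)
open M4 (SC)

universe u

variable {G : Type u} [Group G] [Finite G] {H K M R P A Q E : Subgroup G}

theorem pkg_of (hK : PQS 2 K) (hQ : IsSylowOf 2 Q K) (ab : ⁅Q, Q⁆ ≤ CM K) :
    ∃ (X : Type u) (_ : Group X) (_ : Finite X) (f : K →* X), Function.Surjective f ∧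
      f.ker = (K ⊓ CM K).subgroupOf K ∧ W.P0 (im f K) (im f Q) := by
  obtain ⟨X, _, _, f, hf, hk, s⟩ := loc hK le_rfl le_normalizer
  have e := (commutator_le_iff_im hk hQ.le hQ.le).1
    (le_inf ((commutator_le_self Q).trans hQ.le) ab)
  have p := W.Pkg.mk' s.nor s.qs s.cen (S := im f Q) ⟨im_self hf ▸ hQ.im le_rfl,
    isMulCommutative_of_forall fun a ha b hb => GW.cen.1 (e ha) b hb⟩
  exact ⟨X, _, ‹_›, f, hf, hk, (p.known BS.seThm gwThm (W.wStr X _ _ p)).1⟩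

/-- a Sylow subgroup of a bad component of abelian type lies in `A` -/
theorem base (h : SC H A) (hR : IsSylowOf 2 R H) (AR : A ≤ R) (b : Bad H A K)
    (ab : ⁅R ⊓ K, R ⊓ K⁆ ≤ CM K) : AS (R ⊓ K) K ∧ R ⊓ K ≤ A := by
  have hQ := IsSylowOf.inf_of_sn hR b.comp.sn
  obtain ⟨X, _, _, f, hf, hk, -, -, Y, y⟩ := pkg_of b.comp.pqs hQ ab
  have s := sc_im (sc_inf h b.comp.le (nor_comp h b.comp)) hf
  have l : A ⊓ K ≤ R ⊓ K := inf_le_inf_right K AR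
  obtain ⟨a, ha, a1⟩ := exists_ne_one_of_ne_bot (B := im f (A ⊓ K)) fun e =>
    b.bad (((im_eq_bot_iff hk inf_le_right).1 e).trans inf_le_right)
  have n := s.nor (isPGroup_im hQ.isPGroup) le_top (im_mono l)
  have e : im f (R ⊓ K) ≤ im f (A ⊓ K) := fun x hx => by
    by_cases x1 : x = 1
    · exact x1 ▸ one_mem _
    obtain ⟨g, hg, rfl⟩ := y.tr a (im_mono l ha) x hx a1 x1
    exact s.sc g trivial a ha (n hx)
  have dec : ∀ x ∈ R ⊓ K, ∃ a ∈ A ⊓ K, a⁻¹ * x ∈ R ⊓ K ⊓ CM K := fun x hx => by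
    obtain ⟨a, ha, e1⟩ := mem_im.1 (e (mem_im_of_mem hx.2 hx))
    have e2 : f (a⁻¹ * ⟨x, hx.2⟩) = 1 := by rw [map_mul, map_inv, e1, inv_mul_cancel]
    exact ⟨a, ha, mem_inf.2 ⟨mul_mem (inv_mem (l ha)) hx, ((map_eq_one_iff_of_ker hk).1 e2).2⟩⟩
  have c : R ⊓ K ≤ Cen (R ⊓ K ⊓ CM K : Subgroup G) :=
    cen_of_CM hR.isPGroup le_rfl (inf_le_inf_right _ inf_le_left)
  have as : AS (R ⊓ K) K := ⟨hQ, isMulCommutative_of_forall fun x hx z hz => by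
    obtain ⟨a, ha, e1⟩ := dec x hx
    obtain ⟨d, hd, e2⟩ := dec z hz
    have c1 : Commute a d := M4.el_comm h.el ha.1 hd.1
    have c2 : Commute a (d⁻¹ * z) := GW.cen.1 (c (l ha)) _ e2
    have c3 : Commute z (a⁻¹ * x) := GW.cen.1 (c hz) _ e1
    have c4 : Commute a z := by simpa using c1.mul_right c2
    simpa using (c4.symm.mul_right c3).symm.eq⟩
  refine ⟨as, fun x hx => ?_⟩
  obtain ⟨a, ha, e1⟩ := dec x hx
  rw [as.inf_CM b.comp.perfect, mem_bot, inv_mul_eq_one] at e1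
  exact e1 ▸ ha.1

theorem four_of (hK : PQS 2 K) (as : AS Q K) : 4 ≤ Nat.card Q := by
  obtain ⟨X, _, _, f, -, -, -, e, -⟩ := pkg_of hK as.syl
    ((commutator_eq_bot_iff_le_centralizer.2 (as.cen le_rfl)).le.trans bot_le)
  exact e.trans (Nat.le_of_dvd Nat.card_pos (card_im_dvd Q))

theorem tr_of (hK : PQS 2 K) (as : AS Q K) (hE : IsPGroup 2 E) (e1 : E ≤ CM K) (e2 : Q ≤ Cen E)
    {b c : G} (hb : b ∈ Q) (hc : c ∈ Q) (b1 : b ≠ 1) (c1 : c ≠ 1) :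
    ∃ y ∈ K, y ∈ Nor Q ∧ y ∈ Cen E ∧ y * b * y⁻¹ = c := by
  obtain ⟨X, _, _, f, hf, hk, -, -, Y, y⟩ := pkg_of hK as.syl
    ((commutator_eq_bot_iff_le_centralizer.2 (as.cen le_rfl)).le.trans bot_le)
  have inj : ∀ x : K, (x : G) ∈ Q → f x = 1 → (x : G) = 1 := fun x hx e =>
    W.eq1 (as.inf_CM hK.perfect) hx ((map_eq_one_iff_of_ker hk).1 e).2
  obtain ⟨g, hg, e⟩ := y.tr _ (mem_im_of_mem (as.le hb) hb) _ (mem_im_of_mem (as.le hc) hc)
    (fun e => b1 (inj _ hb e)) fun e => c1 (inj _ hc e)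
  obtain ⟨k, hk1, rfl⟩ := mem_im.1 ((im_le_im_iff hk inf_le_left le_rfl inf_le_left).2
    ((W.le_cen_sup hE e1).trans (sup_le_sup_left (le_inf (W.Oo_le K) (W.Oo_le_CM K)) _)) (y.le hg))
  obtain ⟨n, hn, e3⟩ := (as.syl.of_le (le_inf (le_pre_im as.le) (le_inf as.le e2))
    (inf_le_right.trans inf_le_left)).frattini (g := k) (minf (pre_normalizer_le _
      (coe_mem_pre.2 (y.nor hg))) (le_normalizer hk1))
  have m : n⁻¹ * k ∈ K ⊓ Cen E := mul_mem (inv_mem hn.2) hk1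
  refine ⟨_, m.1, e3, m.2, mul_inv_eq_one.1 (inj (⟨_, m.1⟩ * ⟨b, as.le hb⟩ * ⟨_, m.1⟩⁻¹ *
    ⟨c, as.le hc⟩⁻¹) (mul_mem (cmem e3 hb) (inv_mem hc)) ?_)⟩
  have e4 := (as.im f le_rfl).cm (coe_mem_pre (x := ⟨n, hn.2.1⟩).1 hn.1)
    (mem_im_of_mem (as.le hc) hc)
  rw [show (⟨_, m.1⟩ : K) = ⟨n, hn.2.1⟩⁻¹ * k from rfl]
  simp only [map_mul, map_inv]
  calc _ = (f ⟨n, hn.2.1⟩)⁻¹ * (f k * f ⟨b, as.le hb⟩ * (f k)⁻¹) * f ⟨n, hn.2.1⟩ *
        (f ⟨c, as.le hc⟩)⁻¹ := by group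
    _ = 1 := by rw [e, mul_assoc _⁻¹, ← e4]; group

theorem syl_sup_of (hQ : IsSylowOf 2 Q K) (hn : P ≤ Nor K) (two : IsPGroup 2 (Q ⊔ P : Subgroup G)) :
    IsSylowOf 2 (Q ⊔ P) (K ⊔ P) :=
  isSylowOf_of_maximal (sup_le_sup_right hQ.le P) two fun T hT h1 h2 => by
    rw [← inf_eq_right.2 h2, sup_comm, sup_inf_assoc_of_normalizer' hn (le_sup_right.trans h1),
      hQ.eq_of_le hT.to_inf_right (le_inf hQ.le (le_sup_left.trans h1)) inf_le_left, sup_comm]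

theorem dec_of (hR : IsSylowOf 2 R H) (hK : PCompIn 2 H K) (as : AS (R ⊓ K) K) {x : G}
    (hx : x ∈ R) (c : x ∈ Cen (R ⊓ K : Subgroup G)) :
    ∃ b ∈ R ⊓ K, ∃ e ∈ R ⊓ CM K, x = b * e := by
  have n := zpowers_le.2 (hK.mem_normalizer_of_sylow as.syl (le_normalizer (hR.le hx)) (mcnor c))
  have l : R ⊓ K ⊔ zpowers x ≤ R := sup_le inf_le_left (zpowers_le.2 hx)
  have c1 : R ⊓ K ⊔ zpowers x ≤ Cen (R ⊓ K ⊔ zpowers x : Subgroup G) := by
    rw [W.cen_sup, cen_zp]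
    exact sup_le (le_inf (as.cen le_rfl) (cen_iff_le.1 c))
      (zpowers_le.2 ⟨c, GW.c1.2 rfl⟩)
  obtain ⟨s, hs, e, he, e1⟩ := W.AS.dec ⟨syl_sup_of as.syl n (hR.isPGroup.to_le l),
    isMulCommutative_of_forall fun a ha b hb => GW.cen.1 (c1 ha) b hb⟩
    (hK.of_le le_sup_left (sup_le hK.le (zpowers_le.2 (hR.le hx)))) (mem_sup_right (mem_zpowers x))
  exact ⟨s, ⟨l hs.1, hs.2⟩, e, ⟨l he.1, he.2⟩, e1.symm⟩

/-- `C_Q(t) = [Q, t]` -/
theorem fix_eq (as : AS Q K) (el : ∀ x ∈ Q, x * x = 1)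
    (tr : ∀ b ∈ Q, ∀ c ∈ Q, b ≠ 1 → c ≠ 1 → ∃ y ∈ K, y * b * y⁻¹ = c) {t : G} (tK : t ∈ Nor K)
    (tQ : t ∈ Nor Q) (two : IsPGroup 2 (Q ⊔ zpowers t : Subgroup G)) (t2 : t * t ∈ Cen Q)
    (tc : t ∉ Cen Q) {c : G} (hc : c ∈ Q) (ct : c ∈ Cen1 t) : ∃ b ∈ Q, c = b * (t * b * t⁻¹) := by
  have inv : ∀ b ∈ Q, b⁻¹ = b := fun b hb => inv_eq_of_mul_eq_one_right (el b hb)
  let D : Subgroup G :=
    { carrier := {c | ∃ b ∈ Q, c = b * (t * b * t⁻¹)}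
      one_mem' := ⟨1, one_mem _, by simp⟩
      mul_mem' := by
        rintro _ _ ⟨a, ha, rfl⟩ ⟨b, hb, rfl⟩
        refine ⟨a * b, mul_mem ha hb, ?_⟩
        calc _ = a * ((t * a * t⁻¹) * b) * (t * b * t⁻¹) := by group
          _ = _ := by rw [← as.cm hb (cmem tQ ha)]; group
      inv_mem' := by
        rintro _ ⟨a, ha, rfl⟩
        exact ⟨a, ha, inv _ (mul_mem ha (cmem tQ ha))⟩ }
  have DQ : D ≤ Q := by
    rintro _ ⟨a, ha, rfl⟩
    exact mul_mem ha (cmem tQ ha)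
  have Dt : ∀ b ∈ Q, b * (t * b * t⁻¹) ∈ Cen1 t := fun b hb => c1s.1 (c1'.2 (by
    calc _ = t * b * t⁻¹ * (t * t * b * (t * t)⁻¹) := by group
      _ = _ := by rw [GW.cen.1 t2 b hb, mul_inv_cancel_right, as.cm hb (cmem tQ hb)]))
  have e : ⁅Q, Q ⊔ zpowers t⁆ ≤ D := (le_cMod_iff.1 (sup_le (le_cMod_iff.2 ⟨as.nor DQ,
    (commutator_eq_bot_iff_le_centralizer.2 (as.cen le_rfl)).le.trans bot_le⟩)
    (zpowers_le.2 ⟨mcnor (cen_iff_le.2 (by rintro _ ⟨a, ha, rfl⟩; exact Dt a ha)), fun b hb =>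
      ⟨b, hb, by rw [commutatorElement_def, inv b hb]; group⟩⟩))).2
  by_cases c1 : c = 1
  · exact c1 ▸ D.one_mem
  obtain ⟨b, hb, b1⟩ : ∃ b ∈ Q, b * (t * b * t⁻¹) ≠ 1 := by
    by_contra! k
    refine tc (GW.cen.2 fun b hb => ?_)
    rw [← mul_inv_eq_iff_eq_mul, ← inv_eq_of_mul_eq_one_right (k b hb), inv b hb]
  have m : b * (t * b * t⁻¹) ∈ Q := mul_mem hb (cmem tQ hb)
  obtain ⟨y, hy, e1⟩ := tr _ m c hc b1 c1
  have hT := syl_sup_of as.syl (zpowers_le.2 tK) two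
  have k : ∀ c ∈ Q, c ∈ Cen1 t → Q ⊔ zpowers t ≤ Cen1 c := fun c hc ct =>
    sup_le (as.c1 hc) (zpowers_le.2 (c1s.1 ct))
  obtain ⟨w, hw, e2⟩ := (hT.of_le (le_inf hT.le (k c hc ct)) inf_le_left).exists_conj_le
    (Q := conjS y (Q ⊔ zpowers t)) (two.map _) (le_inf ((conjS_mono y hT.le).trans
      (conjS_eq_of_mem (mem_sup_left hy)).le) ((conjS_mono y (k _ m (Dt b hb))).trans
        (by rw [conj_c1, e1])))
  have n1 : w * y ∈ Nor (Q ⊔ zpowers t : Subgroup G) := mnor fun x hx =>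
    mem_of_eq (e2 (conj_mem_conjS (conj_mem_conjS hx))) (by group)
  have n2 : w * y ∈ Nor Q := by
    rw [← as.syl.eq_of_le (R := (Q ⊔ zpowers t) ⊓ K) two.to_inf_left (le_inf le_sup_left as.le)
      inf_le_right]
    exact minf n1 (sup_le le_normalizer (zpowers_le.2 tK) (mul_mem hw.1 (mem_sup_left hy)))
  have e3 := e (cmem (mcom n2 n1) (commutator_mem_commutator hb (mem_sup_right (mem_zpowers t))))
  refine mem_of_eq e3 ?_
  rw [commutatorElement_def, inv b hb, ← c1'.1 hw.2, ← e1]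
  group

/-- a nonabelian 2-subgroup controls the 2-subgroups of a section over its image -/
theorem AbI.le_im (h : AbI H) (hR : IsSylowOf 2 R H) (MH : M ≤ H) {X : Type*} [Group X] [Finite X]
    {f : M →* X} (hf : Function.Surjective f) (h1 : P ≤ R) (h2 : P ≤ M) (na : ¬ P ≤ Cen P)
    {T : Subgroup X} (hT : IsPGroup 2 T) (e : H5.im f P ≤ T) : T ≤ H5.im f R := by
  obtain ⟨T1, t1, t2⟩ := exists_isSylowOf_ge hT (le_top (a := T))
  obtain ⟨T', k1, k2, rfl⟩ := W.lift_syl hf t1 (hR.isPGroup.to_le h1)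
    ((im_le_iff h2).1 (e.trans t2))
  exact t2.trans (im_mono (h.le hR h1 na k1.isPGroup (k1.le.trans MH) k2))

theorem uniq_dec (e : Q ⊓ E = ⊥) {a b c d : G} (ha : a ∈ Q) (hb : b ∈ E) (hc : c ∈ Q) (hd : d ∈ E)
    (h : a * b = c * d) : a = c := by
  have e1 : c⁻¹ * a = d * b⁻¹ := by rw [inv_mul_eq_iff_eq_mul, ← mul_assoc, ← h]; group
  exact (inv_mul_eq_one.1 (W.eq1 e (mul_mem (inv_mem hc) ha)
    (e1 ▸ mul_mem hd (inv_mem hb)))).symm

theorem two_of (h : AbI H) (hR : IsSylowOf 2 R H) (hK : PCompIn 2 H K) (as : AS (R ⊓ K) K)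
    (el : ∀ x ∈ R ⊓ K, x * x = 1) {t : G} (ht : t ∈ R) (tK : t ∈ Nor K)
    (t2 : t * t ∈ Cen (R ⊓ K : Subgroup G)) (tc : t ∉ Cen (R ⊓ K : Subgroup G)) :
    t ∈ Cen (R ⊓ CM K : Subgroup G) := by
  have QE := cen_of_CM hR.isPGroup (le_refl (R ⊓ K)) (le_refl (R ⊓ CM K))
  have i0 := as.inf_CM hK.perfect
  have i1 : R ⊓ K ⊓ (R ⊓ CM K) = ⊥ := eq_bot_iff.2 ((inf_le_inf_left _ inf_le_right).trans i0.le)
  have fx : ∀ t ∈ R, t ∈ Nor K → t * t ∈ Cen (R ⊓ K : Subgroup G) →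
      t ∉ Cen (R ⊓ K : Subgroup G) → ∀ c ∈ R ⊓ K, c ∈ Cen1 t →
        ∃ b ∈ R ⊓ K, c = b * (t * b * t⁻¹) := fun t ht tK t2 tc c hc ct =>
    fix_eq as el (fun b hb c hc b1 c1 => (tr_of hK.pqs as IsPGroup.of_bot bot_le
      (le_cen_symm bot_le) hb hc
      b1 c1).imp fun y hy => ⟨hy.1, hy.2.2.2⟩) tK (minf (le_normalizer ht) tK)
      (hR.isPGroup.to_le (sup_le inf_le_left (zpowers_le.2 ht))) t2 tc hc ct
  have tQ := minf (le_normalizer ht) tK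
  obtain ⟨b0, h0, e0, h1, e⟩ := dec_of hR hK as (mul_mem ht ht) t2
  obtain ⟨b, hb, e1⟩ := fx t ht tK t2 tc b0 h0 (c1s.1 (c1'.2 (uniq_dec i1 (cmem tQ h0)
    (cmem (minf (le_normalizer ht) (W.nCM K tK)) h1) h0 h1 (by rw [conj_mul, ← e]; group))))
  have e2 : b * t * (b * t) = e0 := by
    calc _ = b * (t * b * t⁻¹) * (t * t) := by group
      _ = _ := by rw [← e1, e, ← mul_assoc, el b0 h0, one_mul]
  have sR : b * t ∈ R := mul_mem hb.1 ht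
  have sK : b * t ∈ Nor K := mul_mem (le_normalizer hb.2) tK
  have sc : b * t ∉ Cen (R ⊓ K : Subgroup G) := fun k =>
    tc ((mul_mem_cancel_left (as.cen le_rfl hb)).1 k)
  have s2 : b * t * (b * t) ∈ Cen (R ⊓ K : Subgroup G) := e2 ▸ le_cen_symm QE h1
  refine (mul_mem_cancel_left (QE hb)).1 ?_
  generalize b * t = s at e2 sR sK sc s2
  by_contra ns
  have KM : K ≤ H ⊓ Nor K := le_inf hK.le le_normalizer
  obtain ⟨X, _, _, f, hf, hk, m⟩ := loc hK.pqs KM inf_le_right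
  have sM : s ∈ H ⊓ Nor K := ⟨hR.le sR, sK⟩
  have EM : R ⊓ CM K ≤ H ⊓ Nor K := inf_le_inf hR.le (W.CM_le_nor K)
  have as' := as.im f KM
  have ss : f ⟨s, sM⟩ * f ⟨s, sM⟩ = 1 := by
    rw [← map_mul]
    exact (map_eq_one_iff_of_ker hk).2 ⟨mul_mem sM sM, show s * s ∈ CM K from e2 ▸ h1.2⟩
  have u : ∀ T : Subgroup X, IsPGroup 2 T → f ⟨s, sM⟩ ∈ T → T ⊓ im f K ≤ im f (R ⊓ K) :=
    fun T hT e => (inf_le_inf_right _ (h.le_im hR inf_le_left hf (P := R ⊓ CM K ⊔ zpowers s)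
      (sup_le inf_le_left (zpowers_le.2 sR)) (sup_le EM (zpowers_le.2 sM))
      (fun k => ns (centralizer_anti le_sup_left (k (mem_sup_right (mem_zpowers s))))) hT (by
        rw [im_sup EM (zpowers_le.2 sM), im_zpowers sM,
          (im_eq_bot_iff hk EM).2 (le_inf EM inf_le_right), bot_sup_eq]
        exact zpowers_le.2 e))).trans (as'.syl.eq_of_le (isPGroup_im hR.isPGroup).to_inf_left
          (le_inf (im_mono inf_le_left) (im_mono inf_le_right)) inf_le_right).le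
  have cs : ∀ c : (H ⊓ Nor K : Subgroup G), (c : G) ∈ R ⊓ K → f c ∈ Cen1 (f ⟨s, sM⟩) →
      (c : G) ∈ Cen1 s := fun c hc e => by
    have e3 : f (⟨s, sM⟩ * c * ⟨s, sM⟩⁻¹ * c⁻¹) = 1 := by
      simp only [map_mul, map_inv, c1'.1 (c1s.1 e), mul_inv_cancel]
    exact c1s.1 (c1'.2 (mul_inv_eq_one.1 (W.eq1 i0 (mul_mem (cmem (minf (le_normalizer sR) sK) hc)
      (inv_mem hc)) ((map_eq_one_iff_of_ker hk).1 e3).2)))
  have z2 : IsPGroup 2 (zpowers (f ⟨s, sM⟩)) :=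
    isPGroup_zpowers_of_pow (k := 1) (by rw [pow_one, pow_two, ss])
  refine m.two_core as' ?_ ss (fun k => sc (cen_iff_le.2 fun c hc => ?_))
    (im_le_normalizer (zpowers_le.2 (minf (le_normalizer sR) sK)) (mem_im_of_mem sM (mem_zpowers s)))
    ?_ fun x hx xs xx => u _ (H8.isPGroup_sup_zpowers z2 (mzp xs) (xx ▸ one_mem _))
      (mem_sup_left (mem_zpowers _)) ⟨mem_sup_right (mem_zpowers x), hx⟩
  · rintro _ ⟨a, ha, rfl⟩
    rw [← map_mul, show a * a = 1 from Subtype.ext (el a ha), map_one]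
  · exact cs ⟨c, KM hc.2⟩ hc
      (as'.c1 (u _ z2 (mem_zpowers _) ⟨mem_zpowers _, k⟩) (mem_im_of_mem _ hc))
  · rintro _ ⟨c, hc, rfl⟩ e
    obtain ⟨b, hb, e3⟩ := fx s sR sK s2 sc c hc (cs c hc e)
    refine ⟨f ⟨b, KM hb.2⟩, mem_im_of_mem _ hb, ?_⟩
    rw [← map_inv, ← map_mul, ← map_mul, ← map_mul]
    exact congrArg f (Subtype.ext e3)

theorem swap_of (h : AbI H) (hR : IsSylowOf 2 R H) (hK : PCompIn 2 H K) (as : AS (R ⊓ K) K)
    (el : ∀ x ∈ R ⊓ K, x * x = 1) {t : G} (ht : t ∈ R) (tK : t ∉ Nor K)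
    (t2 : t * t ∈ Cen (R ⊓ K : Subgroup G)) :
    t ∈ Cen (R ⊓ CM K ⊓ CM (conjS t K) : Subgroup G) := by
  have hK' := hK.conjS_of_mem (hR.le ht)
  have ne : K ≠ conjS t K := fun e => tK (mem_normalizer_iff_conjS.2 e.symm)
  have QE := cen_of_CM hR.isPGroup (le_refl (R ⊓ K)) (le_refl (R ⊓ CM K))
  have i1 : R ⊓ K ⊓ (R ⊓ CM K) = ⊥ := eq_bot_iff.2 ((inf_le_inf_left _ inf_le_right).trans
    (as.inf_CM hK.perfect).le)
  have k2 : conjS t (conjS t K) = K := by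
    rw [conjS_conjS]
    exact mem_normalizer_iff_conjS.1 (hK.mem_normalizer_of_sylow as.syl
      (le_normalizer (hR.le (mul_mem ht ht))) (mcnor t2))
  have eQ : conjS t (R ⊓ K) = R ⊓ conjS t K := by rw [conjS_inf, conjS_eq_of_mem ht]
  have eQ' : conjS t (R ⊓ conjS t K) = R ⊓ K := by rw [conjS_inf, conjS_eq_of_mem ht, k2]
  have tE : t ∈ Nor (R ⊓ CM K ⊓ CM (conjS t K) : Subgroup G) := by
    rw [mem_normalizer_iff_conjS, conjS_inf, conjS_inf, conjS_eq_of_mem ht, W.conj_CM, W.conj_CM,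
      k2, inf_right_comm]
  have Q'E : R ⊓ conjS t K ≤ R ⊓ CM K := inf_le_inf_left R (W.le_CM_of_ne hK hK' ne)
  have ab := h.ab_CM hK.pqs hK.le hR.isPGroup.to_inf_left (inf_le_left.trans hR.le) inf_le_right
  obtain ⟨b, hb, e0, h0, e⟩ := dec_of hR hK as (mul_mem ht ht) t2
  obtain ⟨b', hb', e1, h1, rfl⟩ := dec_of hR hK' (eQ ▸ as.conj t) h0.1 (centralizer_anti Q'E (ab h0))
  have h2 : e1 ∈ R ⊓ CM K ⊓ CM (conjS t K) :=
    ⟨(mul_mem_cancel_left (Q'E hb')).1 h0, h1.2⟩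
  have m1 : t * b * t⁻¹ ∈ R ⊓ conjS t K := eQ ▸ conj_mem_conjS hb
  have m2 : t * b' * t⁻¹ ∈ R ⊓ K := eQ' ▸ conj_mem_conjS hb'
  have e2 : t * b' * t⁻¹ = b := uniq_dec i1 m2 (mul_mem (Q'E m1) (cmem tE h2).1) hb h0 (by
    rw [← mul_assoc, GW.cen.1 (QE m2) _ (Q'E m1), ← e]
    calc _ = t * (b * (b' * e1)) * t⁻¹ := by group
      _ = _ := by rw [← e]; group)
  have e3 : t * b * t⁻¹ = b' := by
    calc _ = t⁻¹ * (t * t * (t * b' * t⁻¹)) * t⁻¹ := by rw [← e2]; group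
      _ = _ := by rw [GW.cen.1 t2 _ m2]; group
  have e4 : b * t * (b * t) = e1 := by
    calc _ = b * (t * b * t⁻¹) * (t * t) := by group
      _ = b * (b' * b) * b' * e1 := by rw [e3, e]; group
      _ = b * b * (b' * b') * e1 := by rw [← GW.cen.1 (QE hb) _ (Q'E hb')]; group
      _ = _ := by rw [← e3, W.csq (el b hb), el b hb]; group
  have bE : b ∈ Cen (R ⊓ CM K ⊓ CM (conjS t K) : Subgroup G) :=
    centralizer_anti inf_le_left (QE hb)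
  have sE := mul_mem (mcnor bE) tE
  have sR : b * t ∈ R := mul_mem hb.1 ht
  have sK : conjS (b * t) K = conjS t K := by
    rw [← conjS_conjS]
    exact mem_normalizer_iff_conjS.1 (hK.le_normalizer hK' hb.2)
  refine (mul_mem_cancel_left bE).1 ?_
  generalize b * t = s at e4 sE sR sK
  rw [← sK] at hK' h2 sE ⊢
  by_contra ns
  obtain ⟨X, _, _, f, hf, hk⟩ := exists_hom_ker_eq (lOo H)
  have sH := hR.le sR
  have EH : R ⊓ CM K ⊓ CM (conjS s K) ≤ H := (inf_le_left.trans inf_le_left).trans hR.le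
  have c1 := W.im_cen_comp hk hK EH (inf_le_left.trans inf_le_right)
  have c2 := W.im_cen_comp hk hK' EH inf_le_right
  have c3 := W.im_cen_comp hk hK hK'.le (W.le_CM_of_ne hK hK' (sK ▸ ne))
  rw [commutator_eq_bot_iff_le_centralizer] at c1 c2 c3
  refine hK.pqs.not_le_of_isSolvable (H4.isSolvable_sup (hR.le.trans (lOo H))
    (isSolvable_of_isPGroup hR.isPGroup) (odd_solv (odd_Oo H))) (hK.pqs.gen.ge.trans
      (pGenIn_le_iff.2 fun x hx ⟨k, e5⟩ => ?_))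
  have xK := zpowers_le.2 hx
  have x2 : IsPGroup 2 (im f (zpowers x)) := isPGroup_im (isPGroup_zpowers_of_pow e5)
  have l : im f (conjS s (zpowers x)) ≤ im f (conjS s K) := im_mono (conjS_mono s xK)
  have e6 : im f (conjS s (zpowers x)) = conjS (f ⟨s, sH⟩) (im f (zpowers x)) := im_map_conj _ sH
  have lE : R ⊓ CM K ⊓ CM (conjS s K) ⊔ zpowers s ≤ R :=
    sup_le (inf_le_left.trans inf_le_left) (zpowers_le.2 sR)
  refine (im_le_im_iff hk (W.Oo_le H) (xK.trans hK.le) hR.le).1 (le_trans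
    (le_sup_of_le_left (le_sup_left (b := im f (conjS s (zpowers x))))) (h.le_im hR le_rfl hf lE
    (lE.trans hR.le) (fun k => ns (centralizer_anti le_sup_left (k (mem_sup_right (mem_zpowers s)))))
    (IsPGroup.to_sup_of_normal_left' (IsPGroup.to_sup_of_normal_left' x2 (e6 ▸ x2.map _)
      (cnor (le_cen_symm ((im_mono xK).trans (c3.trans (centralizer_anti l))))))
      (isPGroup_im (hR.isPGroup.to_le lE)) ?_) le_sup_right)) (mem_zpowers x)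
  rw [im_sup EH (zpowers_le.2 sH), im_zpowers sH]
  refine sup_le (nsup (cnor (le_cen_symm ((im_mono xK).trans c1))) (cnor (le_cen_symm (l.trans c2))))
    (zpowers_le.2 (mem_normalizer_iff_conjS.2 ?_))
  rw [conjS_sup, e6, conjS_conjS, sup_comm, ← map_mul, mem_normalizer_iff_conjS.1
    (cnor (le_cen_symm ((im_mono xK).trans c1))
      (mem_im.2 ⟨⟨s, sH⟩ * ⟨s, sH⟩, show s * s ∈ _ from e4 ▸ h2, rfl⟩))]

/-- LC-a without the context -/
theorem ba_of (h : AbI H) (s : SC H A) (hR : IsSylowOf 2 R H) (AR : A ≤ R) (b : Bad H A K)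
    (ab : ⁅R ⊓ K, R ⊓ K⁆ ≤ CM K) : BA R A K := by
  obtain ⟨as, le⟩ := base s hR AR b ab
  have el : ∀ x ∈ R ⊓ K, x * x = 1 := fun x hx => s.el x (le hx)
  exact ⟨le, as.inf_CM b.comp.perfect, four_of b.comp.pqs as, h.ab_CM b.comp.pqs b.comp.le
    hR.isPGroup.to_inf_left (inf_le_left.trans hR.le) inf_le_right,
    fun x hx c => dec_of hR b.comp as hx c, fun x hx y hy x1 y1 => tr_of b.comp.pqs as
      hR.isPGroup.to_inf_left inf_le_right (cen_of_CM hR.isPGroup le_rfl le_rfl) hx hy x1 y1,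
    fun t ht => two_of h hR b.comp as el ht, fun t ht => swap_of h hR b.comp as el ht⟩

theorem lca : LCa.{u} := fun _ _ _ _ _ _ _ c b ab => ba_of c.ai c.sc c.syl c.le b ab

end AI
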