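import Cfsg.Agent.AI.Stmt

/-! Abelian intersections: the Bender section of a group of nonabelian Bender type. -/

set_option autoImplicit false
set_option linter.unusedSectionVars false
set_option linter.unusedVariables false

namespace AI

open Cfsg Subgroup FT H4 GW W
open H5 (IsSylowOf im pre)

universe u

variable {G : Type u} [Group G] [Finite G] {S T H K M N B P Y R : Subgroup G}

theorem sec' (h' : TO H) (hS : IsSylowOf 2 S H) (hc : S ⊓ Opp 2 H ≤ Cen S)
    (hn : ¬ S ≤ Opp 2 H) :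
    ∃ (X : Type u) (_ : Group X) (_ : Finite X) (N : Subgroup G) (f : H →* X) (D : Subgroup X)
      (t : X), Sec S H N f D t := by
  obtain ⟨Y, _, _, φ, hφ, hk⟩ := exists_quo (le_nor_Opp 2 H)
  let f := (QuotientGroup.mk' (oddCore Y)).comp φ
  have hf : Function.Surjective f := (QuotientGroup.mk'_surjective _).comp hφ
  have k : f.ker = (pre φ (oddCore Y)).subgroupOf H := by
    rw [H5.pre_subgroupOf, ← MonoidHom.comap_ker, QuotientGroup.ker_mk']
  have hO : oddCore (Y ⧸ oddCore Y) = ⊥ := pPrimeCore_quotient_pPrimeCore 2 Y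
  have ON := H5.le_pre_of_ker hk (Opp_le 2 H) (oddCore Y)
  have NH := H5.pre_le (f := φ) (oddCore Y)
  have nN : H ≤ Nor (pre φ (oddCore Y)) := H5.le_normalizer_pre le_rfl le_normalizer_of_normal
  have two : ∀ R ≤ pre φ (oddCore Y), IsPGroup 2 R → R ≤ Opp 2 H := fun R h1 h2 =>
    (H5.im_eq_bot_iff hk (h1.trans NH)).1 (eq_bot_iff.2 ((le_inf le_rfl ((H5.im_mono h1).trans
      (H5.im_pre_le _))).trans (two_odd (H5.isPGroup_im h2)
        (odd_iff_cop.mpr (coprime_card_pPrimeCore 2 _))).le))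
  generalize pre φ (oddCore Y) = N at *
  have hT : IsSylowOf 2 (H5.im f S) ⊤ := H5.im_self hf ▸ hS.im le_rfl
  have se : IsStronglyEmbedded (Nor (H5.im f S)) := by
    refine se_crit hT (fun e => hn (two S ((H5.im_eq_bot_iff k hS.le).1 e) hS.isPGroup))
      (fun e => hn (le_Opp hS.le ((fratt hS).trans (sup_le (lnor le_sup_left) fun n hn' =>
        mem_normalizer_of_conjS_le ?_)) hS.isPGroup)) le_rfl ?_
    · have e1 := H5.le_normalizer_pre (f := f) le_rfl (le_top.trans e.ge)
      rw [H5.pre_im k NH hS.le, sup_comm] at e1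
      have c := le_cen_symm hc
      have e2 : conjS n S ≤ (N ⊔ S) ⊓ Cen (S ⊓ Opp 2 H : Subgroup G) := by
        rw [← mem_normalizer_iff_conjS.1 (minf (e1 hn'.1) (mcen hn'.2))]
        exact conjS_mono n (le_inf le_sup_right c)
      rw [H5.sup_inf_of_le_normalizer' (hS.le.trans nN) c] at e2
      rw [conjS_sup, mem_normalizer_iff_conjS.1 (lOo H hn'.1)]
      exact sup_le le_sup_left (e2.trans (sup_le ((kl hS NH nN two).trans
        (sup_le_sup_left inf_le_left _)) le_sup_right))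
    rintro _ ⟨x, hx, rfl⟩ ox g hg
    have h2 := hT.map_conj (g := g) (le_normalizer (mem_top g))
    obtain ⟨T', h3, h4, h5⟩ := lift_syl hf h2 (hS.isPGroup.to_le (zpowers_le.2 hx))
      (zpowers_le.2 (H5.coe_mem_pre.2 (c1'.1 hg ▸ conj_mem_conjS (H5.mem_im_of_mem x.2 hx))))
    rcases h' S T' hS h3 with e | e
    · exact absurd ((H5.map_eq_one_iff_of_ker k).2 (ON (e ⟨hx, h4 (mem_zpowers _)⟩))) (ine ox)
    refine mem_normalizer_of_conjS_le (h5.ge.trans ((H5.im_le_im_iff k NH h3.le hS.le).2 ?_))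
    exact e.trans (sup_le_sup_left ((pPrimeCoreIn_le_Opp 2 H).trans ON) _)
  obtain ⟨Q, D, t, a, c⟩ := BS.seThm _ _ se (BS.rk2_top_iff.mp (BS.rk2_of_se se hO)) hO
  obtain rfl : Q = H5.im f S := (hT.of_le le_normalizer le_top).eq_of_le c.two
    (a.toA1.two_le_Q le_normalizer hT.isPGroup) a.toA1.Q_le
  exact ⟨_, _, inferInstance, N, f, D, t, hf, k, ON, NH, nN, two, a, c⟩

theorem BN.nle (b : BN H R) : ¬ R ≤ Opp 2 H := fun e => b.na ((com_l le_normalizer).trans e)

theorem BN.nab (b : BN H R) : ¬ R ≤ Cen R := fun e =>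
  b.na ((commutator_eq_bot_iff_le_centralizer.2 e).le.trans bot_le)

/-- the Bender section -/
theorem BN.sec (b : BN H R) (hR : IsSylowOf 2 R H) :
    ∃ (X : Type u) (_ : Group X) (_ : Finite X) (N : Subgroup G) (f : H →* X) (D : Subgroup X)
      (t : X), Sec R H N f D t := sec' b.ti hR b.cen b.nle

/-- local balance -/
theorem BN.lb (b : BN H R) (hR : IsSylowOf 2 R H) (hY : Y ≤ H) (ho : Odd (Nat.card Y))
    (n : R ≤ Nor Y) : Y ≤ Oo H := by
  obtain ⟨X, _, _, N, f, D, t, s⟩ := b.sec hR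
  exact lb_of hR s.le s.nor s.two ((H5.im_eq_bot_iff s.ker hY).1 (hyp_cen s.hyp
    (ho.of_dvd_nat (H5.card_im_dvd Y)) (H5.im_le_normalizer n) s.concl.two)) ho n

/-- the Sylow subgroup of the section is not abelian -/
theorem BN.nab_im (b : BN H R) (hR : IsSylowOf 2 R H) {X : Type u} [Group X] [Finite X]
    {f : H →* X} {D : Subgroup X} {t : X} (s : Sec R H N f D t) :
    ¬ IsMulCommutative (im f R) := fun e => b.na ((le_inf (com_l le_normalizer)
  ((H5.commutator_le_iff_im s.ker hR.le hR.le).2 fun x hx => GW.cen.2 fun y hy =>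
    H5.comm_of_isMulCommutative e hx hy)).trans ((s.inf hR).le.trans inf_le_right))

end AI
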