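import Cfsg.Agent.AI.LB1

/-! Abelian intersections: a nonabelian Bender group has no outer automorphism of even order
compatible with the hypothesis. -/

set_option autoImplicit false
set_option linter.unusedSectionVars false
set_option linter.unusedVariables false

namespace AI

open Cfsg Subgroup FT H4 GW W
open H5 (IsSylowOf im pre)
open BS (A1 A3 Q0 Kset Kg Vg)
open scoped commutatorElement

universe u

variable {G : Type u} [Group G] [Finite G] {L H Q D S T : Subgroup G} {t x w : G}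

theorem a1_suz (a : A1 L H Q D t) (h3 : A3 Q) :
    ∃ k, zpowers k = Kg D t ∧ BS.Suz Q (Q0 Q) k := by
  obtain ⟨k, hk⟩ := a.exists_K_gen h3
  exact ⟨k, hk, a.suz h3 hk le_rfl A1.Q0_le_Q (BS.suzuki G L H Q D t a h3).two
    (a.K_le_nor_Q (hk ▸ mem_zpowers k))⟩

theorem a1_sq (a : A1 L H Q D t) (h3 : A3 Q) (na : ¬ Q ≤ Cen Q) {y : G} (hy : y ∈ Q) :
    y * y ∈ Q0 Q := by
  obtain ⟨k, -, sz⟩ := a1_suz a h3
  exact sz.sq_mem (fun e => na fun x hx => GW.cen.2 (e x hx)) hy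

/-- in case (c), `w` acts without fixed points on `Q / Q₀` -/
theorem fixW (a : A1 L H Q D t) (h3 : A3 Q) {s : G} (hs : BS.Dist Q t s)
    (h1 : Nat.card Q = Nat.card (Q0 Q) ^ 3) (o : orderOf (s * t) = 3) (hw : w ∈ D)
    (w0 : w ∈ Cen (Q0 Q)) (w1 : w ∉ Cen Q) : Q ⊓ Cen (zpowers w) ≤ Q0 Q := by
  have hV : zpowers w ≤ Vg D t := zpowers_le.2 (a.W_le_V (a.W_eq ▸ mem_inf.2 ⟨hw, w0⟩))
  have b := a.cen _ hV
  have l0 : Q0 Q ≤ Q ⊓ Cen (zpowers w) := le_inf A1.Q0_le_Q (le_cen_symm (zpowers_le.2 w0))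
  have e0 : Q0 (Q ⊓ Cen (zpowers w)) = Q0 Q := le_antisymm (closure_mono fun y hy => ⟨hy.1.1, hy.2⟩)
    ((closure_le _).2 fun y hy => subset_closure ⟨l0 (A1.mem_Q0_of hy.1 hy.2), hy.2⟩)
  have b3 : A3 (Q ⊓ Cen (zpowers w)) := by
    obtain ⟨u, hu, v, hv, u1, v1, uv, uu, vv⟩ := h3
    exact ⟨u, l0 (A1.mem_Q0_of hu uu), v, l0 (A1.mem_Q0_of hv vv), u1, v1, uv, uu, vv⟩
  rcases (BS.suzuki G _ _ _ _ t b b3).tri s (a.dist_cen hV hs) with ⟨e, -⟩ | ⟨-, -, e, -⟩ | ⟨e, -⟩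
  · exact e.ge.trans e0.le
  · omega
  · rw [e0, ← h1] at e
    exact (w1 (le_cen_symm ((eq_of_le_of_card_ge inf_le_left e.ge).ge.trans inf_le_right)
      (mem_zpowers w))).elim

theorem lemF0 (a : A1 L H Q D t) (h3 : A3 Q) (xx : x * x = 1) (nL : x ∈ Nor L) (nQ : x ∈ Nor Q)
    (cK : ∀ k ∈ Kset D t, x * k * x⁻¹ = k) (cD : ∀ d ∈ D, d⁻¹ * (x * d * x⁻¹) ∈ Q) :
    D ≤ Cen1 x ∧ x * t * x⁻¹ = t := by
  have eH : H = L ⊓ Nor Q := le_antisymm (le_inf a.le a.H_le_nor) (a.nor_le le_rfl a.Q_ne_bot)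
  have nH : x ∈ Nor H := eH ▸ minf nL (le_normalizer nQ)
  obtain ⟨u, hu, d, hd, v, hv, e⟩ := a.canon' (cmem nL a.t_mem) fun m => a.t_nmem
    (by simpa [mul_assoc] using cmem' nH m)
  obtain ⟨k, hk, k1⟩ := a.exists_K_ne_one h3
  have kH := a.D_le hk.1
  have e1 : k * u * k⁻¹ * (k * d * k) * t * (k * v * k⁻¹) =
      k * k * u * (k * k)⁻¹ * (k * k * d) * t * v := by
    calc _ = k * (u * d * (k * t * k) * v) * k⁻¹ := by group
      _ = k * (x * t * x⁻¹) * k⁻¹ := by rw [a.K_t' hk, inv_mul_cancel_right, e]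
      _ = (x * k * x⁻¹) * (x * t * x⁻¹) * (x * k * x⁻¹)⁻¹ := by rw [cK k hk]
      _ = x * (k * t * k⁻¹) * x⁻¹ := by group
      _ = (x * k * x⁻¹) * (x * k * x⁻¹) * (x * t * x⁻¹) := by rw [a.K_conj_t hk]; group
      _ = _ := by rw [cK k hk, e]; group
  obtain ⟨e2, -, e3⟩ := a.canon_uniq' (a.conj_mem_Q kH hu) (mul_mem (mul_mem hk.1 hd) hk.1)
    (a.conj_mem_Q kH hv) (a.conj_mem_Q (mul_mem kH kH) hu) (mul_mem (mul_mem hk.1 hk.1) hd) hv e1
  have f : ∀ y ∈ Q, k * y * k⁻¹ = y → y = 1 := fun y hy e => mem_bot.1 (a.K_fpf hk k1 ▸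
    mem_inf.2 ⟨hy, c1.2 (by rw [← mul_inv_eq_iff_eq_mul.1 e])⟩)
  rw [f v hv e3, f u hu (by
    calc _ = k⁻¹ * (k * k * u * (k * k)⁻¹) * k := by group
      _ = u := by rw [← e2]; group), one_mul, mul_one] at e
  have cD' : D ≤ Cen1 x := fun c hc => by
    have m1 : x * c * x⁻¹ ∈ D := a.mem_D.2 ⟨cmem nH (a.D_le hc), by
      have e4 : t = d⁻¹ * (x * t * x⁻¹) := by rw [e]; group
      have e5 : t = (x * t * x⁻¹) * d := by
        calc t = t⁻¹ := a.t_inv.symm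
          _ = (d⁻¹ * (x * t * x⁻¹))⁻¹ := by rw [← e4]
          _ = x * t⁻¹ * x⁻¹ * d := by group
          _ = _ := by rw [a.t_inv]
      refine H5.mem_of_eq (mul_mem (mul_mem (inv_mem (a.D_le hd))
        (cmem nH (a.D_le (a.conj_mem_D hc)))) (a.D_le hd)) ?_
      nth_rewrite 3 [e4]; nth_rewrite 4 [e5]; group⟩
    have := a.eq_one_of_mem_QD (cD c hc) (mul_mem (inv_mem hc) m1)
    exact c1.2 (by rw [← mul_inv_eq_iff_eq_mul.1 (inv_mul_eq_one.1 this).symm])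
  refine ⟨cD', ?_⟩
  have e6 : d * d = 1 := by
    have e7 : x * (x * t * x⁻¹) * x⁻¹ = t := by
      rw [show x * (x * t * x⁻¹) * x⁻¹ = x * x * t * (x * x)⁻¹ by group, xx]; group
    rw [e, ← conj_mul, e, c1'.1 (c1s.1 (cD' hd)), ← mul_assoc] at e7
    exact mul_eq_right.1 e7
  rw [e, BS.eq_one_of_odd_of_sq (a.odd_D hd) e6, one_mul]

/-- LEMMA F -/
theorem lemF (a : A1 L H Q D t) (h3 : A3 Q) (na : ¬ Q ≤ Cen Q) (xx : x * x = 1) (nL : x ∈ Nor L)
    (nQ : x ∈ Nor Q) (cK : ∀ k ∈ Kset D t, x * k * x⁻¹ = k)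
    (cD : ∀ d ∈ D, d⁻¹ * (x * d * x⁻¹) ∈ Q) (c0 : x ∈ Cen (Q0 Q)) : x ∈ Cen L := by
  obtain ⟨cD', ct⟩ := lemF0 a h3 xx nL nQ cK cD
  refine cen_iff_le.2 (a.le_of_gen' ?_ cD' (c1s.1 (c1'.2 ct)))
  obtain ⟨s, hs⟩ := a.exists_dist
  obtain ⟨k, hk, sz⟩ := a1_suz a h3
  have two := sz.pg
  have l0 : Q0 Q ≤ Q ⊓ Cen1 x := le_inf A1.Q0_le_Q (cen_iff_le.1 c0)
  rcases (BS.suzuki G _ _ _ _ t a h3).tri s hs with ⟨e, -⟩ | ⟨e, -, o, -⟩ | ⟨e, -, o, ⟨w, hw, w0, w1⟩, -⟩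
  · exact (na ((a.Q_le_cen_Q0 h3).trans (by rw [e]))).elim
  · obtain ⟨s1, s2, s3, r, hr, e1⟩ := hs
    have e2 := (a.dist_uniq s1 hr s1 (cmem nQ hr) e1 (by
      calc _ = x * t * x⁻¹ * (x * s * x⁻¹) * (x * t * x⁻¹) := by
            rw [ct, GW.cen.1 c0 s (A1.mem_Q0_of s1 s3), mul_inv_cancel_right]
        _ = x * (t * s * t) * x⁻¹ := by group
        _ = (x * r * x⁻¹)⁻¹ * (x * t * x⁻¹) * (x * r * x⁻¹) := by rw [e1]; group
        _ = _ := by rw [ct])).2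
    have r0 : r ∉ Q0 Q := fun m => by
      have rr := a.Q0_sq h3 m
      rw [inv_eq_of_mul_eq_one_right rr] at e1
      have e3 : t * (r * s) * t = s * r := by
        calc _ = t * r * t * (t * s * t) := by rw [mul_assoc (t * r), ← mul_assoc t (t * s), a.tt]; group
          _ = t * (r * t * r) * t * r := by rw [e1]; group
          _ = _ := by rw [← e1, ← mul_assoc, ← mul_assoc, a.t_sq, one_mul, a.tt']
      have e4 := a.eq_one_of_conj_mem (mul_mem hr s1) (e3 ▸ a.Q_le (mul_mem s1 hr))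
      obtain rfl : r = s := by rw [eq_inv_of_mul_eq_one_left e4, inv_eq_of_mul_eq_one_right s3]
      have e5 : (r * t) ^ 3 = 1 := by
        calc _ = r * t * r * (t * r * t) := by simp only [pow_succ, pow_zero, one_mul, mul_assoc]
          _ = t * r * t * (t * r * t) := by rw [e1]
          _ = 1 := by rw [mul_assoc (t * r), ← mul_assoc t (t * r), a.tt, mul_assoc t r, ← mul_assoc r,
            rr, one_mul, a.t_sq]
      have := orderOf_dvd_of_pow_eq_one e5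
      rw [o] at this
      omega
    have nk : k ∈ Nor (Q ⊓ Cen1 x : Subgroup G) :=
      minf sz.nor (le_normalizer (cD' (A1.Kg_le (hk ▸ mem_zpowers k))))
    obtain ⟨j, hj⟩ := sz.exists_card_eq l0 inf_le_left sz.norZ nk
    have p : 0 < Nat.card (Q0 Q) := Nat.card_pos
    refine (eq_of_le_of_card_ge inf_le_left ?_).ge.trans inf_le_right
    rcases j with _ | j
    · exact (r0 ((eq_of_le_of_card_ge l0 (by rw [hj, pow_zero, mul_one])).ge
        ⟨hr, c1s.1 (c1'.2 e2.symm)⟩)).elim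
    · rw [hj, e, pow_two, pow_succ]
      exact Nat.mul_le_mul_left _ (Nat.le_mul_of_pos_left _ (Nat.pow_pos p))
  have fw := fixW a h3 hs e o hw w0 w1
  have xi := inv_eq_of_mul_eq_one_right xx
  have nx : zpowers x ≤ Nor (Q0 Q) := zpowers_le.2 (mcnor c0)
  have nQ0 := a.Q_le.trans a.H_le_nor_Q0
  have mU : ∀ y ∈ Q, ⁅x, y⁆ ∈ Q0 Q → y ∈ Q ⊓ cMod (zpowers x) (Q0 Q) := fun y hy m =>
    ⟨hy, nQ0 hy, fun c hc => by
      rcases GW.mem_zp2 xx hc with rfl | rfl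
      · simp
      · exact m⟩
  have key : Q ⊓ cMod (zpowers x) (Q0 Q) ≤ Cen1 x := by
    have nw : zpowers w ≤ Nor (Q ⊓ cMod (zpowers x) (Q0 Q) : Subgroup G) := zpowers_le.2
      (minf (a.H_le_nor (a.D_le hw)) (normalizer_le_normalizer_cMod
        ⟨nzp le_rfl (cD' hw), mcnor w0⟩))
    have od : Odd (Nat.card (zpowers w)) := odd_of_le (zpowers_le.2 hw) a.odd
    rw [← H5.commutator_sup_centralizer nw (cop2 two.to_inf_left od).symm (Or.inl (odd_solv od))]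
    refine sup_le (commutator_le.2 fun y hy v hv => c1s.1 (c1'.2 ?_))
      (((inf_le_inf_right _ inf_le_left).trans fw).trans (l0.trans inf_le_right))
    have m := hy.2.2 x (mem_zpowers x)
    have e1 := c1'.1 (c1s.1 (zpowers_le.2 (cD' hw) hv))
    have e2 := GW.cen.1 (zpowers_le.2 w0 hv) _ (cmem' (nQ0 hy.1) m)
    calc _ = y * (y⁻¹ * ⁅x, y⁆ * y) * (x * v * x⁻¹) * (y⁻¹ * ⁅x, y⁆ * y)⁻¹ * y⁻¹ * (x * v * x⁻¹)⁻¹ := by
          simp only [commutatorElement_def]; group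
      _ = _ := by rw [e1, mul_assoc y, ← e2, commutatorElement_def y v]; group
  intro y hy
  have u1 : ⁅x, y⁆ ∈ Q := mul_mem (cmem nQ hy) (inv_mem hy)
  have u2 : x * ⁅x, y⁆ * x⁻¹ = ⁅x, y⁆⁻¹ := by
    rw [commutatorElement_inv, commutatorElement_def, commutatorElement_def, ← mul_assoc, ← mul_assoc,
      ← mul_assoc, xx, one_mul, xi]
  have u3 := key (mU _ u1 (by
    rw [commutatorElement_def x ⁅x, y⁆, u2]
    exact a1_sq a h3 na (inv_mem u1)))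
  refine key (mU y hy (A1.mem_Q0_of u1 ?_))
  rw [c1'.1 (c1s.1 u3)] at u2
  nth_rewrite 2 [u2]
  exact mul_inv_cancel _

/-- the Sylow subgroup of a normal nonabelian Bender subgroup is Sylow in the whole group -/
theorem syl_top (ai : AbI (⊤ : Subgroup G)) (a : A1 L H Q D t) (h3 : A3 Q) (na : ¬ Q ≤ Cen Q)
    (nL : L.Normal) (cL : Cen L = ⊥) : IsSylowOf 2 Q ⊤ := by
  have two := (BS.suzuki G L H Q D t a h3).two
  obtain ⟨R, hR, QR⟩ := H5.exists_isSylowOf_ge two (le_top (a := Q))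
  have eQ : R ⊓ L = Q := (a1_syl a two).eq_of_le hR.isPGroup.to_inf_left
    (le_inf QR a.Q_le_L) inf_le_right
  have nL' : ∀ g : G, g ∈ Nor L := fun g => (normalizer_eq_top L).ge (mem_top g)
  have RQ : R ≤ Nor Q := eQ ▸ ninf le_normalizer fun g _ => nL' g
  have HR : H ≤ Nor R := (le_inf le_top a.H_le_nor).trans (ai.nor hR QR na)
  have KR : Kg D t ≤ Nor R := (A1.Kg_le.trans a.D_le).trans HR
  have od : Odd (Nat.card (Kg D t)) := odd_of_le A1.Kg_le a.odd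
  have c0 : Q0 Q ≤ Cen R := by
    obtain ⟨z, hz, z1, zz, zc⟩ := H7.exists_fixed_order_p (a.Q0_two h3) hR.isPGroup
      (RQ.trans (nOm Q)) a.Q0_ne_bot
    exact (a.Q0_le_of h3 (Z := Q ⊓ Cen R) inf_le_left (ninf a.K_le_nor_Q (ncen KR))
      (BS.even_of_inv ⟨A1.Q0_le_Q hz, GW.cen.2 fun g hg => (zc g (mem_sup_right hg)).symm⟩ z1
        (by rw [← sq, zz]))).trans inf_le_right
  have e : R ⊓ Cen (Kg D t) = ⊥ := by
    by_contra e
    obtain ⟨x, hx, xx, x1, -⟩ := H5.Dich.exists_central hR.isPGroup.to_inf_left e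
    refine x1 (mem_bot.1 (cL ▸ lemF a h3 na xx (nL' x) (RQ hx.1) (fun k hk => ?_) (fun d hd => ?_)
      (le_cen_symm c0 hx.1)))
    · rw [GW.cen.1 hx.2 k (A1.mem_Kg_of hk), mul_inv_cancel_right]
    · exact eQ.le (mem_inf.2 ⟨H5.mem_of_eq (mul_mem (cmem' (HR (a.D_le hd)) hx.1) (inv_mem hx.1))
        (by group), mul_mem (inv_mem (a.D_le_L hd)) (cmem (nL' x) (a.D_le_L hd))⟩)
  have e1 := H5.commutator_sup_centralizer KR (cop2 hR.isPGroup od).symm (Or.inl (odd_solv od))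
  rw [e, sup_bot_eq] at e1
  have e2 : R ≤ Q := e1.ge.trans ((le_inf (com_l KR) ((commutator_mono le_rfl
    (A1.Kg_le.trans a.D_le_L)).trans (com_r fun g _ => nL' g))).trans eQ.le)
  exact le_antisymm QR e2 ▸ hR

theorem a1_ti (a : A1 L H Q D t) (nL : L.Normal) (hQ : IsSylowOf 2 Q ⊤) (hS : IsSylowOf 2 S ⊤)
    (hT : IsSylowOf 2 T ⊤) (x1 : x ≠ 1) (h1 : x ∈ S) (h2 : x ∈ T) : S = T := by
  have k : ∀ S, IsSylowOf 2 S ⊤ → ∃ g ∈ L, conjS g Q = S := fun S hS => by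
    obtain ⟨g, -, e⟩ := hQ.exists_conj hS
    exact (hQ.of_le a.Q_le_L le_top).exists_conj (hS.of_le (e ▸ (conjS_mono g a.Q_le_L).trans
      (mem_normalizer_iff_conjS.1 ((normalizer_eq_top L).ge (mem_top g))).le) le_top)
  obtain ⟨g, hg, rfl⟩ := k S hS
  obtain ⟨g', hg', rfl⟩ := k T hT
  have e := a.H_le_nor (a.mem_H_of_conj (mem_conjS.1 h1) (fun e => x1 (by
      calc x = g * (g⁻¹ * x * g) * g⁻¹ := by group
        _ = 1 := by rw [e]; group))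
    (mul_mem (inv_mem hg') hg) (H5.mem_of_eq (a.Q_le (mem_conjS.1 h2)) (by group)))
  rw [← mul_inv_cancel_left g' g, ← conjS_conjS, mem_normalizer_iff_conjS.1 e]

end AI
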