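import Cfsg.Agent.AI.LB2

/-! Abelian intersections: components of nonabelian Bender type. -/

set_option autoImplicit false
set_option linter.unusedSectionVars false
set_option linter.unusedVariables false

namespace AI

open Cfsg Subgroup FT H4 GW W
open H5 (IsSylowOf im pre)
open M4 (SC)

universe u

variable {G : Type u} [Group G] [Finite G] {L H K Q D R S T A N Z : Subgroup G}

theorem nle_CM (hK : PQS 2 K) : ¬ K ≤ CM K := fun e =>
  hK.not_le_of_isSolvable (odd_solv (odd_Oo K)) (hK.perfect.ge.trans (com_CM e))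

/-- the quotient in which `K` becomes a simple normal subgroup with trivial centralizer -/
theorem exists_loc (hK : PQS 2 K) (hKH : K ≤ H) (hn : H ≤ Nor K) :
    ∃ (X : Type u) (_ : Group X) (_ : Finite X) (f : H →* X), Function.Surjective f ∧
      f.ker = (H ⊓ CM K).subgroupOf H ∧ (im f K).Normal ∧ QS (im f K) ∧ Cen (im f K) = ⊥ := by
  obtain ⟨X, _, _, f, hf, hk⟩ := H5.exists_hom_ker_eq (L := H) (M := H ⊓ CM K)
    (ninf le_normalizer (hn.trans (nCM K)))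
  have key : ∀ Z ≤ H, ⁅K, Z⁆ ≤ H ⊓ CM K → Z ≤ CM K := fun Z hZ e =>
    le_CM (hZ.trans hn) ((hK.commutator_eq_or (hZ.trans hn)).resolve_left fun e1 =>
      nle_CM hK (e1.ge.trans (e.trans inf_le_right)))
  refine ⟨X, _, ‹_›, f, hf, hk, normal_of_top_le_normalizer (H5.im_self hf ▸ H5.im_le_normalizer hn),
    ⟨by rw [← H5.im_commutator hKH hKH, hK.perfect], fun e => nle_CM hK
      (((H5.im_eq_bot_iff hk hKH).1 e).trans inf_le_right), fun N h1 h2 => ?_⟩,
    eq_bot_iff.2 fun y hy => ?_⟩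
  · have e : im f (K ⊓ pre f N) = N := by rw [H5.im_inf_pre, inf_eq_right.2 h1]
    refine (hK.normal (K ⊓ pre f N) inf_le_left (ninf le_normalizer
      (H5.le_normalizer_pre hKH h2))).imp (fun e1 => by rw [← e, e1]) fun e1 => ?_
    rw [← e]
    exact (H5.commutator_le_iff_im hk (inf_le_left.trans hKH) hKH).1
      (e1.trans (le_inf ((Oo_le K).trans hKH) (Oo_le_CM K)))
  · obtain ⟨x, rfl⟩ := hf y
    have e1 := (H5.commutator_le_iff_im hk hKH (zpowers_le.2 x.2)).2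
      (by rw [H5.im_zpowers x.2]; exact le_cen_symm (zpowers_le.2 hy))
    exact (H5.map_eq_one_iff_of_ker hk).2 ⟨x.2, key _ (zpowers_le.2 x.2) e1 (mem_zpowers _)⟩

theorem solv_le_CM (hK : PQS 2 K) (hZ : Group.IsSolvable Z) (h1 : Z ≤ Nor K) (h2 : K ≤ Nor Z) :
    Z ≤ CM K := le_CM h1 ((hK.commutator_eq_or h1).resolve_left fun e =>
  hK.not_le_of_isSolvable hZ (e.ge.trans (com_r h2)))

theorem Opp_solv (H : Subgroup G) : Group.IsSolvable (Opp 2 H) := by
  obtain ⟨S, hS⟩ := H5.exists_isSylowOf 2 H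
  rw [← sup_inf_eq_Opp hS, sup_comm]
  exact H4.isSolvable_sup ((inf_le_left.trans hS.le).trans (lOo H))
    (H5.isSolvable_of_isPGroup hS.isPGroup.to_inf_left) (odd_solv (odd_Oo H))

theorem Opp_le_CM (hK : PQS 2 K) (hKH : K ≤ H) (hn : H ≤ Nor K) : Opp 2 H ≤ CM K :=
  solv_le_CM hK (Opp_solv H) ((Opp_le 2 H).trans hn) (hKH.trans (le_nor_Opp 2 H))

/-- the inductive hypothesis applied to a simple normal subgroup -/
theorem IH.a1 {n : ℕ} (ih : IH.{u} n) (hn : Nat.card L < n) (ai : AbI L) (q : QS L)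
    (c : L ⊓ Cen L = ⊥) (hS : IsSylowOf 2 S L) (sc : SC L A) (a0 : A ≠ ⊥) (na : ¬ S ≤ Cen S) :
    ∃ (M Q D : Subgroup G) (t : G), BS.A1 L M Q D t ∧ BS.A3 Q := by
  have := QS.simple' q c
  have hf : Function.Surjective (MonoidHom.id L) := Function.surjective_id
  have hk : (MonoidHom.id L).ker = (⊥ : Subgroup G).subgroupOf L := by simp
  obtain ⟨M, se⟩ := (ih L (im (MonoidHom.id L) S) _ hn q.not_isMulCommutative (ai.im hf)
    (H5.im_self hf ▸ hS.im le_rfl) (sc_im sc hf)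
    fun e => a0 (eq_bot_iff.2 ((H5.im_eq_bot_iff hk sc.le).1 e))).resolve_left fun e =>
      na (commutator_eq_bot_iff_le_centralizer.1
        (eq_bot_iff.2 ((H5.commutator_le_iff_im hk hS.le hS.le).2 e)))
  have hO := oddCore_simple q.not_isMulCommutative
  obtain ⟨Q, D, t, a, -⟩ := BS.seThm _ _ se (BS.rk2_top_iff.mp (BS.rk2_of_se se hO)) hO
  have h1 := a1_map a.toA1 L.subtype L.subtype_injective
  rw [range_subtype] at h1
  obtain ⟨u, hu, v, hv, u1, v1, uv, uu, vv⟩ := a.a3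
  exact ⟨_, _, _, _, h1, u, mem_map_of_mem _ hu, v, mem_map_of_mem _ hv, by simpa using u1,
    by simpa using v1, by simpa using uv, congrArg Subtype.val uu, congrArg Subtype.val vv⟩

theorem cen_any (hR : IsSylowOf 2 R H) (hS : IsSylowOf 2 S H) (hc : R ⊓ Opp 2 H ≤ Cen R) :
    S ⊓ Opp 2 H ≤ Cen S := by
  obtain ⟨k, hk, rfl⟩ := hR.exists_conj hS
  have := conjS_mono k hc
  rwa [conjS_inf, conj_cen, mem_normalizer_iff_conjS.1 (le_nor_Opp 2 H hk)] at this

theorem to_of (hR : IsSylowOf 2 R H) (hc : R ⊓ Opp 2 H ≤ Cen R) (NH : N ≤ H) (nN : H ≤ Nor N)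
    (ON : Oo H ≤ N) (two : ∀ P ≤ N, IsPGroup 2 P → P ≤ Opp 2 H)
    (ti : ∀ S T, IsSylowOf 2 S H → IsSylowOf 2 T H → S ⊓ T ≤ N ∨ T ≤ S ⊔ N) : TO H := by
  intro S T hS hT
  refine (ti S T hS hT).imp (fun e => two _ e hS.isPGroup.to_inf_left) fun e => ?_
  obtain ⟨k, hk, e1⟩ := (sylow_inf_Opp hT).exists_conj (sylow_inf_Opp hS)
  obtain ⟨o, ho, b, hb, rfl⟩ := (H5.mem_sup_left_iff ((inf_le_left.trans hT.le).trans (lOo H))).1
    ((sup_inf_eq_Opp hT).ge hk)
  change conjS _ _ = _ at e1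
  rw [← conjS_conjS, conjS_eq_of_mem hb] at e1
  have c := le_cen_symm (cen_any hR hS hc)
  have e2 : conjS o T ≤ (N ⊔ S) ⊓ Cen (S ⊓ Opp 2 H : Subgroup G) := by
    refine le_inf ?_ ?_
    · rw [← conjS_eq_of_mem (mem_sup_left (ON ho) : o ∈ N ⊔ S), sup_comm]
      exact conjS_mono o e
    · rw [← e1, ← conj_cen]
      exact conjS_mono o (le_cen_symm (cen_any hR hT hc))
  rw [H5.sup_inf_of_le_normalizer' (hS.le.trans nN) c] at e2
  have e3 : conjS o T ≤ S ⊔ Oo H := e2.trans (sup_le ((kl hS NH nN two).trans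
    (sup_le le_sup_right (inf_le_left.trans le_sup_left))) le_sup_left)
  rwa [← conjS_eq_of_mem (mem_sup_right ho : o ∈ S ⊔ Oo H), conjS_le_conjS_iff] at e3

theorem lcb : LCb.{u} := by
  intro G _ _ H R A K c b na
  have hK := b.comp
  have hR := c.syl
  have QK : IsSylowOf 2 (R ⊓ K) K := IsSylowOf.inf_of_sn hR hK.sn
  have nQ : ¬ R ⊓ K ≤ Cen (R ⊓ K : Subgroup G) := fun e =>
    na ((commutator_eq_bot_iff_le_centralizer.2 e).le.trans bot_le)
  have un : ∀ J, PCompIn 2 H J → J = K := fun J hJ => by_contra fun e =>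
    nQ (c.ai.ab_CM hJ.pqs hJ.le QK.isPGroup (QK.le.trans hK.le) (QK.le.trans (le_CM_of_ne hJ hK e)))
  have nK : H ≤ Nor K := fun g hg => mem_normalizer_iff_conjS.2 (un _ (hK.conjS_of_mem hg))
  obtain ⟨X, _, _, f, hf, hk, nL, q, cL⟩ := exists_loc hK.pqs hK.le nK
  have nC : H ≤ Nor (H ⊓ CM K : Subgroup G) := ninf le_normalizer (nK.trans (nCM K))
  have ai := c.ai.im hf
  have nL' : ∀ Y : Subgroup X, Y ≤ Nor (im f K) := fun Y => le_normalizer_of_normal
  have nb : ¬ im f (R ⊓ K) ≤ Cen (im f (R ⊓ K)) := fun e => na (((H5.commutator_le_iff_im hk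
    (QK.le.trans hK.le) (QK.le.trans hK.le)).2 e).trans inf_le_right)
  obtain ⟨M, Q, D, t, a, h3⟩ := c.ih.a1 (Nat.lt_succ_of_le ((Nat.le_of_dvd Nat.card_pos
    (H5.card_im_dvd K)).trans (card_le_of_le hK.le))) (ai.mono le_top) q (by rw [cL, inf_bot_eq])
    (QK.im hK.le) (sc_inf (sc_im c.sc hf) le_top (nL' _)) (fun e => b.bad (((H5.im_eq_bot_iff hk
      (inf_le_right.trans hK.le)).1 (eq_bot_iff.2 (e ▸ H5.im_inf_le A K))).trans inf_le_right)) nb
  have hQ := syl_top ai a h3 (na_any (QK.im hK.le) (a1_syl a (BS.suzuki X _ _ _ _ t a h3).two) nb)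
    nL cL
  have sy : ∀ S, IsSylowOf 2 S H → IsSylowOf 2 (im f S) ⊤ := fun S hS =>
    H5.im_self hf ▸ hS.im le_rfl
  have e1 : im f R = im f (R ⊓ K) := by
    obtain ⟨g, -, e⟩ := hQ.exists_conj (sy R hR)
    exact (QK.im hK.le).eq_of_le (sy R hR).isPGroup (H5.im_mono inf_le_left)
      (e ▸ (conjS_mono g a.Q_le_L).trans (mem_normalizer_iff_conjS.1 (nL' ⊤ (mem_top g))).le)
  have hE : IsSylowOf 2 (R ⊓ (H ⊓ CM K)) (H ⊓ CM K) :=
    hR.inf_of_le_normalizer inf_le_left (hR.le.trans nC)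
  have ab := c.ai.ab_CM hK.pqs hK.le hE.isPGroup (hE.le.trans inf_le_left)
    (hE.le.trans inf_le_right)
  have cE : R ⊓ (H ⊓ CM K) ≤ Cen R := le_cen_symm fun r hr => by
    obtain ⟨s, hs, e2⟩ := H5.mem_im.1 (e1 ▸ H5.mem_im_of_mem (hR.le hr) hr)
    have e3 : f (s⁻¹ * ⟨r, hR.le hr⟩) = 1 := by rw [map_mul, map_inv, e2, inv_mul_cancel]
    have e4 : R ⊓ K ≤ Cen (R ⊓ (H ⊓ CM K) : Subgroup G) :=
      commutator_eq_bot_iff_le_centralizer.1 (eq_bot_iff.2 ((le_inf ((commutator_mono inf_le_left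
        inf_le_left).trans (com_l le_normalizer)) ((commutator_mono inf_le_right le_rfl).trans
          (com_CM (hE.le.trans inf_le_right)))).trans (two_odd hR.isPGroup (odd_Oo K)).le))
    exact H5.mem_of_eq (mul_mem (e4 hs) (ab (mem_inf.2 ⟨mul_mem (inv_mem hs.1) hr,
      (H5.map_eq_one_iff_of_ker hk).1 e3⟩))) (by simp)
  have OC : Opp 2 H ≤ H ⊓ CM K := le_inf (Opp_le 2 H) (Opp_le_CM hK.pqs hK.le nK)
  have hc : R ⊓ Opp 2 H ≤ Cen R := (inf_le_inf_left R OC).trans cE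
  have EO : R ⊓ (H ⊓ CM K) ≤ Opp 2 H := by
    have as : AS (R ⊓ (H ⊓ CM K)) (H ⊓ CM K) :=
      ⟨hE, H5.isMulCommutative_of_forall fun x hx y hy => GW.cen.1 (ab hx) y hy⟩
    have sn : SN H (H ⊓ CM K) := SN.of_normal inf_le_left nC
    have e2 := as.fact
    rw [show pLayerIn 2 (H ⊓ CM K) = ⊥ from eq_bot_iff.2 (by
      rw [pLayerIn_eq_sSup]
      exact sSup_le fun J hJ => (nle_CM hK.pqs ((un J (hJ.trans sn)).ge.trans
        (hJ.le.trans inf_le_right))).elim), sup_bot_eq] at e2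
    refine le_Opp (inf_le_left.trans hR.le) ?_ hE.isPGroup
    refine (hE.sup_normalizer inf_le_left nC).ge.trans ?_
    have e3 : H ⊓ Nor (R ⊓ (H ⊓ CM K) : Subgroup G) ≤ Nor (Oo H ⊔ R ⊓ (H ⊓ CM K) : Subgroup G) :=
      nsup (inf_le_left.trans (lOo H)) inf_le_right
    exact sup_le (e2.trans (sup_le (lnor (sn.pPrimeCoreIn_le.trans le_sup_left))
      ((inf_le_inf_right _ inf_le_left).trans e3))) e3
  refine ⟨to_of hR hc inf_le_left nC ((pPrimeCoreIn_le_Opp 2 H).trans OC) (fun P h1 h2 => ?_)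
    fun S T hS hT => or_iff_not_imp_left.2 fun e => ?_, hc, fun e => na
      ((commutator_mono inf_le_left inf_le_left).trans (e.trans (OC.trans inf_le_right)))⟩
  · obtain ⟨k, hk, e⟩ := hE.exists_conj_le h2 h1
    have := e.trans EO
    rwa [← mem_normalizer_iff_conjS.1 (le_nor_Opp 2 H hk.1), conjS_le_conjS_iff] at this
  · obtain ⟨x, hx, x1⟩ := SetLike.not_le_iff_exists.1 e
    exact (H5.im_le_im_iff hk inf_le_left hT.le hS.le).1 (a1_ti a nL hQ (sy S hS) (sy T hT)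
      (mt (H5.map_eq_one_iff_of_ker hk).1 x1) (H5.mem_im_of_mem (hS.le hx.1) hx.1)
      (H5.mem_im_of_mem (hS.le hx.1) hx.2)).ge

end AI
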