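import Cfsg.Agent.AI.LB3
import Cfsg.Agent.AI.LA3

/-! Abelian intersections: `L1`, `BN2` and the case where all involutions are central. -/

set_option autoImplicit false
set_option linter.unusedSectionVars false
set_option linter.unusedVariables false

namespace AI

open Cfsg Subgroup FT H4 GW W
open H5 (IsSylowOf im pre)
open M4 (SC)

universe u

variable {G : Type u} [Group G] [Finite G] {L H K Q R S T A N Z : Subgroup G}

theorem sc_nor (h : SC H A) (hR : IsPGroup 2 R) (RH : R ≤ H) (AR : A ≤ R) : H ⊓ Nor R ≤ Nor A :=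
  fun g hg => mnor fun a ha => h.sc g hg.1 a ha (h.nor hR RH AR (cmem hg.2 (AR ha)))

/-- the image of `A` in the Bender section -/
theorem sec_imA {X : Type u} [Group X] [Finite X] {f : H →* X} {D : Subgroup X} {t : X}
    (s : Sec R H N f D t) (h : SC H A) (AR : A ≤ R) (e : ¬ A ≤ Opp 2 H) :
    im f A = BS.Q0 (im f R) := by
  have a := s.hyp.toA1
  have h' := sc_im h s.surj
  have l := H5.im_mono (f := f) AR
  refine le_antisymm (fun x hx => BS.A1.mem_Q0_of (l hx) (h'.el x hx))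
    (a.Q0_le_of s.hyp.a3 l ((le_inf le_top a.K_le_nor_Q).trans (sc_nor h' s.concl.two le_top l)) ?_)
  obtain ⟨x, hx, x1⟩ := ex_ne fun e1 : im f A = ⊥ =>
    e (s.two A ((H5.im_eq_bot_iff s.ker h.le).1 e1) (M4.el_two h.el))
  exact BS.even_of_inv hx x1 (h'.el x hx)

theorem l1 : L1.{u} := by
  intro G _ _ H R A c hA na e
  obtain ⟨K, b⟩ := exBad G H R A c e
  have bn : BN H R := lcb G H R A K c b fun ab => na fun x hx => GW.cen.2 fun y hy => by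
    have p := lca G H R A K c b ab
    have cB := p.le.trans hA
    obtain ⟨u, hu, v, hv, rfl⟩ := p.dec x hx (le_cen_symm cB hx)
    obtain ⟨u', hu', v', hv', rfl⟩ := p.dec y hy (le_cen_symm cB hy)
    rw [mul_assoc, ← mul_assoc v, ← GW.cen.1 (cB hu') v hv.1, mul_assoc u', GW.cen.1 (p.ab hv) v' hv',
      ← mul_assoc u', GW.cen.1 (cB hu) _ (mul_mem (mul_mem hu'.1 hv'.1) hv.1), mul_assoc,
      ← GW.cen.1 (cB hu) v hv.1]
  refine ⟨bn, fun x hx xx => ?_⟩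
  obtain ⟨X, _, _, N, f, D, t, s⟩ := bn.sec c.syl
  obtain ⟨a, ha, e1⟩ := (sec_imA s c.sc c.le e).ge (BS.A1.mem_Q0_of
    (H5.mem_im_of_mem (c.syl.le hx) hx) (by
      rw [← map_mul, show (⟨x, c.syl.le hx⟩ * ⟨x, c.syl.le hx⟩ : H) = 1 from Subtype.ext xx, map_one]))
  exact H5.mem_of_eq (mul_mem (hA ha) (bn.cen ((s.one c.syl (x := a⁻¹ * ⟨x, c.syl.le hx⟩)
    (mul_mem (inv_mem (c.le ha)) hx)).1 (by rw [map_mul, map_inv, e1, inv_mul_cancel])))) (by simp)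

theorem bn2 : BN2.{u} := by
  intro G _ _ H R A c bn e ab
  have hR := c.syl
  obtain ⟨X, _, _, N, f, D, t, s⟩ := bn.sec hR
  have a := s.hyp.toA1
  have h3 := s.hyp.a3
  have eA := sec_imA s c.sc c.le e
  have nb : ¬ im f R ≤ Cen (im f R) := fun e1 => bn.nab_im hR s
    (H5.isMulCommutative_of_forall fun x hx y hy => GW.cen.1 (e1 hx) y hy)
  have lf : ∀ k ∈ BS.Kg D t, ∃ y : H, (y : G) ∈ Nor R ∧ (y : G) ∈ Nor A ∧ f y = k := fun k hk => by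
    obtain ⟨y, hy, e1⟩ := s.lift hR bn.cen (a.Kg_le_Fg hk) (a.K_le_nor_Q hk)
    exact ⟨y, hy.1, sc_nor c.sc hR.isPGroup hR.le c.le ⟨y.2, hy.1⟩, e1⟩
  have DH : R ⊓ Cen A ≤ H := inf_le_left.trans hR.le
  have ND : R ⊓ N ≤ R ⊓ Cen A := le_inf inf_le_left ((s.inf hR).le.trans
    (bn.cen.trans (centralizer_anti c.le)))
  have l0 : BS.Q0 (im f R) ≤ im f (R ⊓ Cen A) := eA ▸ H5.im_mono (le_inf c.le fun x hx =>
    GW.cen.2 fun y hy => M4.el_comm c.sc.el hx hy)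
  have mD : ∀ v : H, (v : G) ∈ R → f v ∈ im f (R ⊓ Cen A) → (v : G) ∈ Cen A := fun v hv m => by
    obtain ⟨d, hd, e1⟩ := m
    exact H5.mem_of_eq (mul_mem hd.2 (ND (mem_inf.2 ⟨R.mul_mem (R.inv_mem hd.1) hv,
      (H5.map_eq_one_iff_of_ker s.ker (x := d⁻¹ * v)).1
        (by rw [map_mul, map_inv, e1, inv_mul_cancel])⟩)).2) (by simp)
  have nD : ¬ R ≤ Cen A := fun e1 => bn.nab (by rwa [inf_eq_left.2 e1] at ab)
  refine ⟨(le_inf ((commutator_mono c.le le_rfl).trans (com_l le_normalizer))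
    ((H5.commutator_le_iff_im s.ker c.sc.le hR.le).2
      (eA ▸ le_cen_symm (a.Q_le_cen_Q0 h3)))).trans ((s.inf hR).le.trans inf_le_right), ?_,
    fun x hx x1 => ?_⟩
  · obtain ⟨k, hk, sz⟩ := a1_suz a h3
    obtain ⟨y, y1, y2, rfl⟩ := lf k (hk ▸ mem_zpowers k)
    obtain ⟨j, hj⟩ := sz.exists_card_eq (H5.im_mono (inf_le_left : R ⊓ Cen A ≤ R)) le_rfl
      (H5.im_le_normalizer le_rfl (H5.mem_im_of_mem y.2 (minf y1 (mcen y2)))) sz.nor
    have e1 := H5.card_eq_card_im_mul s.ker c.sc.le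
    have e2 := H5.card_eq_card_im_mul s.ker hR.le
    have e3 := H5.card_eq_card_im_mul s.ker DH
    have e4 := H5.card_inf_mul_relIndex (Opp 2 H) A
    have e5 := H5.card_inf_mul_relIndex (Cen A) R
    rw [show A ⊓ N = Opp 2 H ⊓ A from le_antisymm (le_inf (((inf_le_inf_right N c.le).trans
      (s.inf hR).le).trans inf_le_right) inf_le_left) (le_inf inf_le_right
        (inf_le_left.trans s.opp)), ← e4, mul_comm, eA] at e1
    rw [show R ⊓ Cen A ⊓ N = R ⊓ N from le_antisymm (inf_le_inf_right N inf_le_left)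
      (le_inf ND inf_le_right)] at e3
    rw [inf_comm, e2, hj, e3, mul_right_comm] at e5
    rw [Nat.eq_of_mul_eq_mul_right Nat.card_pos e1,
      Nat.eq_of_mul_eq_mul_right Nat.card_pos e5 |> Nat.eq_of_mul_eq_mul_left Nat.card_pos]
    rcases j with _ | j
    · refine (nD fun v hv => mD ⟨v, hR.le hv⟩ hv ((eq_of_le_of_card_ge (H5.im_mono inf_le_left)
        (by rw [hj, pow_zero, mul_one])).ge (H5.mem_im_of_mem _ hv))).elim
    · rw [pow_succ]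
      exact Nat.le_mul_of_pos_left _ (Nat.pow_pos Nat.card_pos)
  · obtain ⟨v, hv, v1⟩ := SetLike.not_le_iff_exists.1 nD
    have mv := H5.mem_im_of_mem (f := f) (hR.le hv) hv
    have m2 := a1_sq a h3 nb mv
    have mx : f ⟨x, c.sc.le hx⟩ ∈ BS.Q0 (im f R) := eA ▸ H5.mem_im_of_mem _ hx
    obtain ⟨k, hk, e1⟩ := a.exists_K_conj (BS.A1.Q0_le_Q m2)
      (fun e1 => v1 (mD _ hv (l0 (BS.A1.mem_Q0_of mv e1)))) (a.Q0_sq h3 m2) (BS.A1.Q0_le_Q mx)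
      (fun e1 => x1 ((s.one hR (c.le hx)).1 e1).2) (a.Q0_sq h3 mx)
    obtain ⟨y, y1, y2, rfl⟩ := lf k (BS.A1.mem_Kg_of hk)
    have m := cmem y1 hv
    refine ⟨_, m, fun e2 => v1 (by simpa [mul_assoc] using cmem' (mcen y2) e2),
      ((s.one hR (x := y * ⟨v, hR.le hv⟩ * y⁻¹ * (y * ⟨v, hR.le hv⟩ * y⁻¹) * ⟨x, c.sc.le hx⟩)
        (mul_mem (mul_mem m m) (c.le hx))).1 ?_).2⟩
    simp only [map_mul, map_inv]
    rw [conj_mul, e1, a.Q0_sq h3 mx]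

theorem GC.sc (c : GC S) : SC ⊤ (Om S) := by
  refine ⟨le_top, fun a ha => c.sq ha, fun g _ a ha e => ?_⟩
  obtain ⟨n, hn, e1⟩ := (c.syl.of_le (le_normalizer.trans (nOm S)) le_top).exists_conj_le
    (isPGroup_zpowers_of_pow (k := 1) (by rw [pow_one, pow_two]; exact csq (c.sq ha)))
    (zpowers_le.2 e)
  exact H5.mem_of_eq (cmem' hn (c.mem.2 ⟨e1 (conj_mem_conjS (mem_zpowers _)), csq (csq (c.sq ha))⟩))
    (by group)

theorem glThm : GLThm.{u} := by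
  intro G _ _ S A₀ g na inv
  have c : GC S := ⟨g.syl, inv, na⟩
  have := g.simple
  have hO := g.core
  have h0 : pCoreIn 2 (⊤ : Subgroup G) = ⊥ := by_contra fun e => g.nor_ne
    (H5.isSolvable_of_isPGroup (isPGroup_pCoreIn 2 ⊤)) e
    (top_le_iff.1 (le_normalizer.trans (nOp 2 _)))
  have gen : ∀ N : Subgroup G, N.Normal → S ≤ N → N = ⊤ := fun N hN e =>
    hN.eq_bot_or_eq_top.resolve_left fun e1 => na ((e.trans e1.le).trans bot_le)
  have hS := c.syl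
  have fx := c.fix hO h0
  have S0 : S ≠ ⊥ := fun e => c.na (e.le.trans bot_le)
  have A2 := hS.isPGroup.to_le (Om_le S)
  have mA : ∀ t ∈ S, orderOf t = 2 → t ∈ Om S := fun t ht ot => c.mem.2 ⟨ht, ii ot⟩
  obtain ⟨z, hz, zz, z1, -⟩ := H5.Dich.exists_central hS.isPGroup S0
  have zA := c.mem.2 ⟨hz, zz⟩
  obtain ⟨n, hn, n1⟩ : ∃ n ∈ Nor S, n * z * n⁻¹ ≠ z := by
    by_contra! e
    exact z1 (fx z zA e)
  have h4 : 2 ^ 2 ≤ Nat.card (Om S) := Hz.four_le_card zA (cmem (nOm S hn) zA) ⟨z1, zz⟩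
    ⟨fun e => z1 (by simpa using e), csq zz⟩ n1.symm (c.cm zA (cmem hn hz))
  rcases h4.eq_or_lt with e4 | h8
  · have nc : n ∉ Cen (Om S) := fun e => n1 (by rw [GW.cen.1 e z zA, mul_inv_cancel_right])
    rcases Ly.ab_or_u34 hS e4.symm (fun x => c.mem) (fun z hz x hx => (c.cm hz hx).symm) hn nc
      with e | e
    · exact (c.na fun x hx => GW.cen.2 fun y hy => H5.comm_of_isMulCommutative e hx hy).elim
    have := e.simple hS hn nc hO gen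
    exact ⟨_, (e.base hS hn nc).se⟩
  replace h8 := pow_lt A2 _ h8
  have g' : Gl S (Om S) := ⟨g.simple, g.nc, g.ai, hS, GC.sc c, Om_le S, ne_bot_of zA z1, g.ih⟩
  have bn : ∀ a ∈ Om S, a ≠ 1 → ¬ Om S ≤ Opp 2 (Cen1 a) → BN (Cen1 a) S := fun a ha a1 e =>
    (l1 G _ _ _ (g'.ctx (g.c1_ne a1) (c.sylc ha) (Om_le S)) c.cen c.na e).1
  have tk : ∀ a ∈ Om S, a ≠ 1 → ¬ Om S ≤ Opp 2 (Cen1 a) → TK S (S ⊓ Opp 2 (Cen1 a)) :=
    fun a ha a1 e => by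
    obtain ⟨X, _, _, N, f, D, t, s⟩ := (bn a ha a1 e).sec (c.sylc ha)
    exact s.tk (c.sylc ha) (bn a ha a1 e).cen c.inv c.na e
  have f4 : ∀ a ∈ Om S, a ≠ 1 →
      2 ^ 2 ≤ Nat.card (Om S ⊓ (S ⊓ Opp 2 (Cen1 a)) : Subgroup G) := fun a ha a1 => by
    by_cases e : Om S ≤ Opp 2 (Cen1 a)
    · rwa [inf_eq_left.2 (le_inf (Om_le S) e)]
    exact pow_lt A2.to_inf_left 1 (lt_of_le_of_ne ((one_lt_card_iff_ne_bot _).2
      (ne_bot_of (c.mB ha) a1)) fun e1 => c.no1 fx (tk a ha a1 e) e1.symm)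
  have sg := H5.SS.core_sig c.elem (fun a _ _ => odd_solv (odd_Oo (Cen1 a))) fun a ha a1 b hb b1 =>
    (em (Om S ≤ Opp 2 (Cen1 b))).elim (fun e => M4.bal g'.sc ha hb
      (con_of (g'.sc.mono (M4.el_c1 g'.sc.el hb) le_top) e)) fun e =>
    (bn b hb b1 e).lb (c.sylc hb) inf_le_right (odd_of_le inf_le_left (odd_Oo (Cen1 a)))
      (ninf ((c.le_c1 ha).trans (lOo _)) (nc1 (c.le_c1 hb)))
  have cp := H5.SS.ssft_two c.elem h8 sg
  have ncl : ∀ E : Subgroup G, Nor E ≤ Nor (H5.Dich.cl E) := fun E g hg =>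
    mem_normalizer_iff_conjS.2 (by rw [H5.Dich.conjS_cl, mem_normalizer_iff_conjS.1 hg])
  by_cases hW : Nor (H5.Dich.cl (Om S)) = ⊤
  swap
  · refine ⟨_, se_crit hS S0 hW ((nOm S).trans (ncl _)) fun t ht ot => (fratt (c.sylc (mA t ht ot))).trans
      (sup_le (lnor (H5.SS.le_closure' (θ := H5.Dich.th) (mA t ht ot) (ine ot))) ?_)⟩
    rw [H5.Dich.cl, ← cp.closure_eq c.elem sg inf_le_left (f4 t (mA t ht ot) (ine ot))]
    exact inf_le_right.trans ((c.nE inf_le_left).trans (ncl _))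
  have U0 : ∀ a ∈ Om S, a ≠ 1 → Oo (Cen1 a) = ⊥ := fun a ha a1 => eq_bot_iff.2
    ((H5.SS.le_closure' (θ := H5.Dich.th) ha a1).trans ((GW.le_Oo le_top hW.ge
      (Nat.not_even_iff_odd.1 fun e => H5.fam_not_dvd (cp.closure_mem sg) e.two_dvd)).trans
        ((pPrimeCoreIn_top 2).trans hO).le))
  have op : ∀ a ∈ Om S, a ≠ 1 → ∀ T, IsSylowOf 2 T (Cen1 a) → Opp 2 (Cen1 a) ≤ T :=
    fun a ha a1 T hT => hT.le_of_le_normalizer ((Opp_eq_pCoreIn (U0 a ha a1)).symm ▸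
      isPGroup_pCoreIn 2 _) (Opp_le 2 _) (hT.le.trans (le_nor_Opp 2 _))
  have nr : ∀ a ∈ Om S, a ≠ 1 → Cen1 a ≤ Nor (Om S ⊓ (S ⊓ Opp 2 (Cen1 a)) : Subgroup G) :=
    fun a ha a1 => le_trans (by rw [inf_eq_right.2 (op a ha a1 S (c.sylc ha))]; exact le_nor_Opp 2 _)
      (c.nE inf_le_left)
  have nA : ∀ a ∈ Om S, a ≠ 1 → Om S ≤ Opp 2 (Cen1 a) → Cen1 a ≤ Nor (Om S) := fun a ha a1 e => by
    simpa only [inf_eq_left.2 (le_inf (Om_le S) e)] using nr a ha a1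
  have f1 : ∀ e ∈ Om S, e ≠ 1 → ¬ Om S ≤ Opp 2 (Cen1 e) → ∀ T, IsSylowOf 2 T (Cen1 e) → T ≠ S →
      S ⊓ T = S ⊓ Opp 2 (Cen1 e) := fun e he e1 b T hT ne => by
    refine le_antisymm (le_inf inf_le_left (((bn e he e1 b).ti S T (c.sylc he) hT).resolve_right
      fun e2 => ne ?_)) (inf_le_inf_left _ (op e he e1 T hT))
    rw [U0 e he e1, sup_bot_eq] at e2
    exact (hT.eq_of_le hS.isPGroup e2 (c.le_c1 he)).symm
  have f2 : ∀ a ∈ Om S, a ≠ 1 → ¬ Om S ≤ Opp 2 (Cen1 a) → ∀ e ∈ Om S ⊓ (S ⊓ Opp 2 (Cen1 a)), e ≠ 1 →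
      S ⊓ Opp 2 (Cen1 a) = S ⊓ Opp 2 (Cen1 e) := fun a ha a1 b e he e1 => by
    have l : S ≤ Cen1 a ⊓ Cen (S ⊓ Opp 2 (Cen1 a) : Subgroup G) :=
      le_inf (c.le_c1 ha) (le_cen_symm (bn a ha a1 b).cen)
    have nl : Cen1 a ≤ Nor (Cen1 a ⊓ Cen (S ⊓ Opp 2 (Cen1 a) : Subgroup G) : Subgroup G) := by
      rw [inf_eq_right.2 (op a ha a1 S (c.sylc ha))]
      exact ninf le_normalizer (ncen (le_nor_Opp 2 _))
    obtain ⟨n, hn, n1⟩ : ∃ n ∈ Cen1 a ⊓ Cen (S ⊓ Opp 2 (Cen1 a) : Subgroup G), n ∉ Nor S :=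
      SetLike.not_le_iff_exists.1 fun e2 => b ((Om_le S).trans ((le_pCoreIn (c.le_c1 ha)
        (((hS.of_le l le_top).sup_normalizer inf_le_left nl).ge.trans (sup_le e2 inf_le_right))
          hS.isPGroup).trans (pCoreIn_le_Opp 2 _)))
    have ne := mt mem_normalizer_iff_conjS.2 n1
    have e2 := f1 a ha a1 b _ ((c.sylc ha).map_conj (le_normalizer hn.1)) ne
    have hT := (c.sylc he.1).map_conj (le_normalizer (c1.2 (GW.cen.1 hn.2 e he.2)))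
    exact e2.symm.trans (f1 e he.1 e1 (fun e3 => b ((le_inf (Om_le S)
      (e3.trans (op e he.1 e1 _ hT))).trans (e2.le.trans inf_le_right))) _ hT ne)
  let P : Subgroup G → Prop := fun B => TK S B ∧ 4 ≤ Nat.card (Om S ⊓ B : Subgroup G) ∧
    ∃ a ∈ Om S, a ≠ 1 ∧ ¬ Om S ≤ Opp 2 (Cen1 a) ∧ B = S ⊓ Opp 2 (Cen1 a)
  have p1 : ∀ a ∈ Om S, a ≠ 1 → ¬ Om S ≤ Opp 2 (Cen1 a) → P (S ⊓ Opp 2 (Cen1 a)) :=
    fun a ha a1 e => ⟨tk a ha a1 e, f4 a ha a1, a, ha, a1, e, rfl⟩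
  have p2 : ∀ g ∈ Nor S, ∀ B, P B → P (conjS g B) := by
    rintro g hg _ ⟨h1, h2, a, ha, a1, h4, rfl⟩
    have e := mem_normalizer_iff_conjS.1 hg
    have e' := mem_normalizer_iff_conjS.1 (nOm S hg)
    refine ⟨h1.conj hg, by rwa [← e', ← conjS_inf, card_conjS], _, cmem (nOm S hg) ha,
      by simpa using a1, ?_, by rw [conjS_inf, e, conjS_Opp, conj_c1]⟩
    rwa [← e', ← conj_c1, ← conjS_Opp, conjS_le_conjS_iff]
  have un := fun B B' => c.no2 (B := B) (B' := B') (fun _ p => p.1) p2 (by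
    rintro _ _ ⟨-, -, a, ha, a1, h1, rfl⟩ ⟨-, -, a', ha', a1', h1', rfl⟩ e
    obtain ⟨b, hb, b1⟩ := ex_ne e
    rw [f2 a ha a1 h1 b hb.1 b1, f2 a' ha' a1' h1' b hb.2 b1]) fun _ p => p.2.1
  by_cases e : ∃ B, P B
  swap
  · exact ⟨_, se_crit hS S0 (two_ne_top h0 A2 (ne_bot_of zA z1)) (nOm S) fun t ht ot =>
      nA t (mA t ht ot) (ine ot) (by_contra fun e1 => e ⟨_, p1 t (mA t ht ot) (ine ot) e1⟩)⟩
  obtain ⟨B, p⟩ := e
  have n1 : Nor S ≤ Nor (Om S ⊓ B : Subgroup G) := fun g hg => mem_normalizer_iff_conjS.2 (by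
    rw [conjS_inf, mem_normalizer_iff_conjS.1 (nOm S hg), un _ _ (p2 g hg B p) p])
  refine ⟨_, se_crit hS S0 (two_ne_top h0 A2.to_inf_left
    (H5.ne_bot_of_card_ge (p := 2) (k := 1) p.2.1)) n1 fun t ht ot => ?_⟩
  by_cases e1 : Om S ≤ Opp 2 (Cen1 t)
  · refine (nA t (mA t ht ot) (ine ot) e1).trans fun g hg => ?_
    obtain ⟨k, hk, e2⟩ := (hS.of_le (le_cen_symm c.cen) le_top).frattini (mcen hg)
    exact H5.mem_of_eq (mul_mem (cnor (centralizer_anti inf_le_left) hk) (n1 e2)) (by simp)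
  · rw [un _ _ p (p1 t (mA t ht ot) (ine ot) e1)]
    exact nr t (mA t ht ot) (ine ot)

end AI
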