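import Cfsg.Agent.AI.LB4

/-! Abelian intersections: the assembly. -/

set_option autoImplicit false
set_option linter.unusedSectionVars false
set_option linter.unusedVariables false

namespace AI

open Cfsg Subgroup FT H4 GW W
open H5 (IsSylowOf im pre)
open M4 (SC)

universe u

variable {G : Type u} [Group G] [Finite G] {H S A B : Subgroup G}

theorem sc_sub (h : SC H A) (BA : B ≤ A) (hn : H ⊓ Nor A ≤ Nor B) : SC H B := by
  refine ⟨BA.trans h.le, fun a ha => h.el a (BA ha), fun g hg a ha e => ?_⟩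
  obtain ⟨w, hw, e1⟩ := sc_mem h (K := H ⊓ Nor B)
    (le_inf h.le ((le_inf h.le le_normalizer).trans hn)) inf_le_left hg (BA ha)
    ⟨H.mul_mem (H.mul_mem hg (h.le (BA ha))) (H.inv_mem hg), e⟩
  have e2 : w * (g * a * g⁻¹) * w⁻¹ = (w * g) * a * (w * g)⁻¹ := by group
  obtain ⟨n, n1, n2, e3⟩ := h.fuse (BA ha) (mul_mem hw.1 hg) (e2 ▸ e1)
  exact H5.mem_of_eq (cmem' hw.2 (e2 ▸ e3 ▸ cmem (hn ⟨n1, n2⟩) ha)) (by group)

theorem Gl.moves (g : Gl S A) {z : G} (hz : z ∈ A) (z1 : z ≠ 1) : ¬ Nor A ≤ Cen1 z := fun e => by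
  obtain ⟨T, hT, AT⟩ := H5.exists_isSylowOf_ge (M4.el_two g.sc.el) (M4.el_c1 g.sc.el hz)
  refine g.c1_ne z1 (top_le_iff.1 fun x _ => c1.2 (H3.commute_of_isolated g.core
    (o2 (g.sc.el z hz) z1) (H3.isolated_of_weaklyClosed (M4.pe2 (g.sc.el z hz)) hT fun y hy => ?_) x))
  obtain ⟨n, -, hn, e2⟩ := g.sc.fuse hz (mem_top y)
    (g.sc.sc y trivial z hz (g.sc.nor hT.isPGroup le_top AT hy))
  rw [← e2, c1'.1 (e hn)]

theorem Gl.four (g : Gl S A) : 4 ≤ Nat.card A := by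
  obtain ⟨z, hz, z1⟩ := ex_ne g.ne
  obtain ⟨n, hn, n1⟩ := SetLike.not_le_iff_exists.1 (g.moves hz z1)
  have zz := g.sc.el z hz
  exact Hz.four_le_card hz (cmem hn hz) ⟨z1, zz⟩ ⟨fun e => z1 (by simpa using e), csq zz⟩
    (fun e => n1 (c1'.2 e.symm)) (M4.el_comm g.sc.el hz (cmem hn hz))

theorem Gl.idx_two (g : Gl S A) (h4 : Nat.card A = 4) (nc : ¬ A ≤ Cen S) :
    (Cen A).relIndex S = 2 := by
  obtain ⟨z, hz, z1, -, zc⟩ := H7.exists_fixed_order_p (M4.el_two g.sc.el) g.syl.isPGroup g.nS g.ne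
  obtain ⟨a, ha, a1⟩ := SetLike.not_le_iff_exists.1 nc
  have zS : S ≤ Cen1 z := fun x hx => c1.2 (zc x (mem_sup_right hx))
  have f : F4 z a := ⟨o2 (g.sc.el z hz) z1, o2 (g.sc.el a ha) fun e => a1 (e ▸ one_mem _),
    M4.el_comm g.sc.el hz ha, fun e => a1 (e ▸ cen_iff_le.2 zS)⟩
  obtain rfl : V4 z a = A := eq_of_le_of_card_ge (V_le hz ha) (by rw [f.card_V, h4])
  obtain ⟨s, hs, s1⟩ := SetLike.not_le_iff_exists.1 fun e => a1 (cen_iff_le.2 e)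
  have m : ∀ b ∈ S, b ∈ Cen (V4 z a) ↔ b * a * b⁻¹ = a := fun b hb => by
    rw [cen_V, mem_inf, c1' (x := a)]; exact and_iff_right (zS hb)
  have e1 := (f.fix_or (g.nS hs) (zS hs)).resolve_left (mt c1'.2 s1)
  have za : z * a ≠ a := fun e => z1 (mul_eq_right.1 e)
  refine relIndex_eq_two_iff.2 ⟨s, hs, fun b hb => ?_⟩
  have e2 : b * s * a * (b * s)⁻¹ = z * (b * a * b⁻¹) := by
    rw [show b * s * a * (b * s)⁻¹ = b * (s * a * s⁻¹) * b⁻¹ by group, e1, ← conj_mul, c1'.1 (zS hb)]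
  rw [m b hb, m _ (mul_mem hb hs), e2]
  rcases f.fix_or (g.nS hb) (zS hb) with e | e
  · rw [e]; exact Or.inr ⟨rfl, za⟩
  · rw [e, ← mul_assoc, ii f.ht, one_mul]; exact Or.inl ⟨rfl, za⟩

theorem Gl.main (f4 : FourThm.{u}) (tw : TwoThm.{u}) (ix : Idx.{u}) (g : Gl S A)
    (na : ¬ S ≤ Cen S) : HasSE G := by
  induction hn : Nat.card A using Nat.strong_induction_on generalizing A with
  | _ n ih =>
  by_cases hm : ∃ B ≤ A, Nor A ≤ Nor B ∧ B ≠ ⊥ ∧ B ≠ A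
  · obtain ⟨B, h1, h2, h3, h4⟩ := hm
    exact ih _ (hn ▸ H5.card_lt_of_lt (lt_of_le_of_ne h1 h4)) ⟨g.simple, g.nc, g.ai, g.syl,
      sc_sub g.sc h1 (inf_le_right.trans h2), h1.trans g.le, h3, g.ih⟩ rfl
  have h8 : Nat.card A ≠ 4 → 8 ≤ Nat.card A := fun e =>
    pow_lt (M4.el_two g.sc.el) 2 (lt_of_le_of_ne g.four e.symm)
  by_cases hc : A ≤ Cen S
  · by_cases hg : ∀ a ∈ A, a ≠ 1 → Good A a
    · by_cases e : Nat.card A = 4
      · exact (f4 G S A g hc e hg).elim (glThm G S A g na) id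
      · exact g.good (h8 e) hg
    push Not at hg
    obtain ⟨a, ha, a1, b⟩ := hg
    exact glThm G S A g na (l1 G _ S A (g.ctx (g.c1_ne a1)
      (g.syl.of_le (cen_iff_le.1 (hc ha)) le_top) g.le) hc na b).2
  · refine g.good (h8 fun e => ix G S A g (g.idx_two e hc)) (tw G S A g (fun B h1 h2 => ?_) hc)
    by_contra! e
    exact hm ⟨B, h1, h2, e⟩

theorem ihAll (f4 : FourThm.{u}) (tw : TwoThm.{u}) (ix : Idx.{u}) (n : ℕ) : IH.{u} n := by
  induction n with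
  | zero => exact fun X _ _ _ S A l => absurd l (Nat.not_lt_zero _)
  | succ n ih =>
  intro X _ _ hs S A l nc ai hS sc a0
  obtain ⟨T, hT, AT⟩ := H5.exists_isSylowOf_ge (M4.el_two sc.el) (le_top (a := A))
  exact or_iff_not_imp_left.2 fun na => Gl.main f4 tw ix
    ⟨hs, nc, ai, hT, sc, AT, a0, ih.mono (Nat.le_of_lt_succ l)⟩ (na_any hS hT na)

theorem class2_of_se [IsSimpleGroup G] (nc : ¬ IsMulCommutative G) (se : HasSE G)
    (hS : IsSylowOf 2 S ⊤) : ⁅S, S⁆ ≤ Cen S := by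
  obtain ⟨M, se⟩ := se
  have hO := oddCore_simple nc
  obtain ⟨Q, D, t, a, c⟩ := BS.seThm _ _ se (BS.rk2_top_iff.mp (BS.rk2_of_se se hO)) hO
  obtain ⟨k, -, rfl⟩ := (a1_syl a.toA1 c.two).exists_conj hS
  change ⁅conjS k Q, conjS k Q⁆ ≤ Cen (conjS k Q)
  rw [← conjS_commutator, ← conj_cen]
  refine conjS_mono k ?_
  by_cases ab : Q ≤ Cen Q
  · exact (commutator_eq_bot_iff_le_centralizer.2 ab).le.trans bot_le
  obtain ⟨j, -, sz⟩ := a1_suz a.toA1 a.a3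
  exact commutator_le.2 fun x hx y hy => le_cen_symm (a.toA1.Q_le_cen_Q0 a.a3)
    (sz.comm_mem (fun e => ab fun x hx => GW.cen.2 (e x hx)) hx hy)

theorem final (f4 : FourThm.{u}) (tw : TwoThm.{u}) (ix : Idx.{u})
    (fus : ∀ (G : Type u) [Group G] [Finite G] (S : Subgroup G), AbI (⊤ : Subgroup G) →
      IsSylowOf 2 S ⊤ → ⁅(⊤ : Subgroup G), (⊤ : Subgroup G)⁆ = ⊤ →
      (∃ m : ℕ, 2 ≤ m ∧ Nonempty (S ≃* DihedralGroup m)) ∨ ⁅S, S⁆ ≤ Cen S ∨
        ∃ A : Subgroup G, A ≠ ⊥ ∧ A ≤ S ∧ SC ⊤ A)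
    [IsSimpleGroup G] (hG : ¬ IsMulCommutative G)
    (hA : ∀ S T : Sylow 2 G, S ≠ T → IsMulCommutative ↥((S : Subgroup G) ⊓ (T : Subgroup G)))
    (S : Sylow 2 G) :
    (∃ m : ℕ, 2 ≤ m ∧ Nonempty (↥(S : Subgroup G) ≃* DihedralGroup m)) ∨
      commutator ↥(S : Subgroup G) ≤ Subgroup.center ↥(S : Subgroup G) := by
  have ai : AbI (⊤ : Subgroup G) := fun S T hS hT ne => by
    obtain ⟨S, rfl⟩ := hS.exists_sylow_top
    obtain ⟨T, rfl⟩ := hT.exists_sylow_top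
    exact fun x hx => GW.cen.2 fun y hy =>
      H5.comm_of_isMulCommutative (hA S T fun e => ne (e ▸ rfl)) hx hy
  have hS := H5.isSylowOf_top S
  refine (fus G S ai hS (simple_perfect hG)).imp_right fun e => ?_
  have e1 : ⁅(S : Subgroup G), (S : Subgroup G)⁆ ≤ Cen (S : Subgroup G) := by
    refine e.elim id fun ⟨A, a0, _, sc⟩ => ?_
    exact (ihAll f4 tw ix _ G S A (Nat.lt_succ_self _) hG ai hS sc a0).elim
      (fun ab => (commutator_eq_bot_iff_le_centralizer.2 ab).le.trans bot_le)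
      fun se => class2_of_se hG se hS
  exact commutator_le.2 fun x _ y _ => mem_center_iff.2 fun z => Subtype.ext
    (GW.cen.1 (e1 (commutator_mem_commutator x.2 y.2)) z z.2).symm

end AI
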