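import Cfsg.Agent.M4.GS
import Cfsg.Agent.W.CI3
import Cfsg.Agent.W.Main
import Cfsg.Agent.H8.Sq6

/-! Groups whose distinct Sylow 2-subgroups meet in abelian subgroups: definitions, the
statements of the parts of the proof, and basic facts. -/

set_option autoImplicit false
set_option linter.unusedVariables false
set_option linter.unusedSectionVars false

namespace AI

open Cfsg Subgroup FT H4 H5 GW L
open W (CM HasSE TO Om)
open M4 (SC)

universe u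

section defs

variable {G : Type*} [Group G]

/-- abelian intersections -/
def AbI (H : Subgroup G) : Prop :=
  ∀ S T, IsSylowOf 2 S H → IsSylowOf 2 T H → S ≠ T → S ⊓ T ≤ Cen (S ⊓ T : Subgroup G)

/-- the inductive statement for simple groups of order less than `n` -/
def IH (n : ℕ) : Prop :=
  ∀ (X : Type u) [Group X] [Finite X] [IsSimpleGroup X] (S A : Subgroup X), Nat.card X < n →
    ¬ IsMulCommutative X → AbI (⊤ : Subgroup X) → IsSylowOf 2 S ⊤ → SC ⊤ A → A ≠ ⊥ →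
      S ≤ Cen S ∨ HasSE X

/-- `x` is good for `A` -/
abbrev Good (A : Subgroup G) (x : G) : Prop := A ≤ Opp 2 (Cen1 x)

end defs

section ctx

variable {G : Type u} [Group G]

/-- the local context -/
structure Ctx (H R A : Subgroup G) : Prop where
  ai : AbI H
  syl : IsSylowOf 2 R H
  sc : SC H A
  le : A ≤ R
  ih : IH.{u} (Nat.card H + 1)

/-- the global context -/
structure Gl (S A : Subgroup G) : Prop where
  simple : IsSimpleGroup G
  nc : ¬ IsMulCommutative G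
  ai : AbI (⊤ : Subgroup G)
  syl : IsSylowOf 2 S ⊤
  sc : SC ⊤ A
  le : A ≤ S
  ne : A ≠ ⊥
  ih : IH.{u} (Nat.card G)

/-- a bad component -/
structure Bad (H A K : Subgroup G) : Prop where
  comp : PCompIn 2 H K
  bad : ¬ A ⊓ K ≤ CM K

/-- a bad component of abelian type: `B = R ⊓ K`, `E = R ⊓ CM K` -/
structure BA (R A K : Subgroup G) : Prop where
  le : R ⊓ K ≤ A
  inf : R ⊓ K ⊓ CM K = ⊥
  four : 4 ≤ Nat.card (R ⊓ K : Subgroup G)
  ab : R ⊓ CM K ≤ Cen (R ⊓ CM K : Subgroup G)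
  dec : ∀ x ∈ R, x ∈ Cen (R ⊓ K : Subgroup G) → ∃ b ∈ R ⊓ K, ∃ e ∈ R ⊓ CM K, x = b * e
  tr : ∀ b ∈ R ⊓ K, ∀ c ∈ R ⊓ K, b ≠ 1 → c ≠ 1 → ∃ y ∈ K, y ∈ Nor (R ⊓ K : Subgroup G) ∧
    y ∈ Cen (R ⊓ CM K : Subgroup G) ∧ y * b * y⁻¹ = c
  two : ∀ t ∈ R, t ∈ Nor K → t * t ∈ Cen (R ⊓ K : Subgroup G) → t ∉ Cen (R ⊓ K : Subgroup G) →
    t ∈ Cen (R ⊓ CM K : Subgroup G)
  swap : ∀ t ∈ R, t ∉ Nor K → t * t ∈ Cen (R ⊓ K : Subgroup G) →
    t ∈ Cen (R ⊓ CM K ⊓ CM (conjS t K) : Subgroup G)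

/-- the nonabelian Bender type -/
structure BN (H R : Subgroup G) : Prop where
  ti : TO H
  cen : R ⊓ Opp 2 H ≤ Cen R
  na : ¬ ⁅R, R⁆ ≤ Opp 2 H

end ctx

/-- LC0: a bad component exists -/
def ExBad : Prop := ∀ (G : Type u) [Group G] [Finite G] (H R A : Subgroup G), Ctx H R A →
  ¬ A ≤ Opp 2 H → ∃ K, Bad H A K

/-- LC-a -/
def LCa : Prop := ∀ (G : Type u) [Group G] [Finite G] (H R A K : Subgroup G), Ctx H R A →
  Bad H A K → ⁅R ⊓ K, R ⊓ K⁆ ≤ CM K → BA R A K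

/-- LC-b -/
def LCb : Prop := ∀ (G : Type u) [Group G] [Finite G] (H R A K : Subgroup G), Ctx H R A →
  Bad H A K → ¬ ⁅R ⊓ K, R ⊓ K⁆ ≤ CM K → BN H R

/-- pump-up -/
def Pump : Prop := ∀ (G : Type u) [Group G] [Finite G] (H R A J : Subgroup G) (a : G),
  Ctx H R A → a ∈ A → Bad (H ⊓ Cen1 a) A J → ∃ K, Bad H A K ∧ J ≤ K

/-- L1: `A` central in a nonabelian Sylow subgroup -/
def L1 : Prop := ∀ (G : Type u) [Group G] [Finite G] (H R A : Subgroup G), Ctx H R A →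
  A ≤ Cen R → ¬ R ≤ Cen R → ¬ A ≤ Opp 2 H → BN H R ∧ ∀ x ∈ R, x * x = 1 → x ∈ Cen R

/-- the nonabelian Bender type forces `A` to be central when it is an offender-free module:
the facts used to exclude BN in TWO (`E = R ⊓ Opp 2 H`) -/
def BN2 : Prop := ∀ (G : Type u) [Group G] [Finite G] (H R A : Subgroup G), Ctx H R A →
  BN H R → ¬ A ≤ Opp 2 H → R ⊓ Cen A ≤ Cen (R ⊓ Cen A : Subgroup G) →
    ⁅A, R⁆ ≤ Opp 2 H ∧ (Opp 2 H).relIndex A ≤ (Cen A).relIndex R ∧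
      ∀ a ∈ A, a ∉ Opp 2 H → ∃ v ∈ R, v ∉ Cen A ∧ v * v * a ∈ Opp 2 H

/-- GL: all involutions of `S` are central -/
def GLThm : Prop := ∀ (G : Type u) [Group G] [Finite G] (S A : Subgroup G), Gl S A →
  ¬ S ≤ Cen S → (∀ x ∈ S, x * x = 1 → x ∈ Cen S) → HasSE G

/-- FOUR -/
def FourThm : Prop := ∀ (G : Type u) [Group G] [Finite G] (S A : Subgroup G), Gl S A →
  A ≤ Cen S → Nat.card A = 4 → (∀ a ∈ A, a ≠ 1 → Good A a) →
    (∀ x ∈ S, x * x = 1 → x ∈ Cen S) ∨ HasSE G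

/-- TWO -/
def TwoThm : Prop := ∀ (G : Type u) [Group G] [Finite G] (S A : Subgroup G), Gl S A →
  (∀ B ≤ A, Nor A ≤ Nor B → B = ⊥ ∨ B = A) → ¬ A ≤ Cen S → ∀ a ∈ A, a ≠ 1 → Good A a

/-- the failure of factorization lemma -/
def FFThm : Prop := ∀ (G : Type u) [Group G] [Finite G] (L V T U : Subgroup G), AbI L →
  V ≤ Cen V → IsPGroup 2 V → V ≤ L → L ≤ Nor V → IsSylowOf 2 T L →
  ¬ L ≤ Nor (T ⊔ L ⊓ Cen V : Subgroup G) → U ≤ T → ⁅V, U⁆ ≤ Cen U → ¬ U ≤ Cen V →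
  (Cen U).relIndex V ≤ (Cen V).relIndex U → ∀ x ∈ U, x ∉ Cen V → V ⊓ Cen1 x ≤ Cen U

/-- `C_S(A)` does not have index 2 -/
def Idx : Prop := ∀ (G : Type u) [Group G] [Finite G] (S A : Subgroup G), Gl S A →
  (Cen A).relIndex S ≠ 2

section basic

variable {G : Type*} [Group G] [Finite G] {H K S T P A : Subgroup G}

namespace AbI

variable (h : AbI H)
include h

/-- (U): a nonabelian 2-subgroup lies in a unique Sylow subgroup -/
theorem uniq (hS : IsSylowOf 2 S H) (hT : IsSylowOf 2 T H) (h1 : P ≤ S) (h2 : P ≤ T)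
    (na : ¬ P ≤ Cen P) : S = T := by
  by_contra e
  exact na ((le_inf h1 h2).trans ((h S T hS hT e).trans (centralizer_anti (le_inf h1 h2))))

theorem le (hS : IsSylowOf 2 S H) (h1 : P ≤ S) (na : ¬ P ≤ Cen P) (hK : IsPGroup 2 K)
    (KH : K ≤ H) (h2 : P ≤ K) : K ≤ S := by
  obtain ⟨T, hT, e⟩ := exists_isSylowOf_ge hK KH
  exact h.uniq hS hT h1 (h2.trans e) na ▸ e

theorem nor (hS : IsSylowOf 2 S H) (h1 : P ≤ S) (na : ¬ P ≤ Cen P) : H ⊓ Nor P ≤ Nor S :=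
  fun g hg => mem_normalizer_iff_conjS.2 (h.uniq (hS.map_conj (le_normalizer hg.1)) hS
    (mem_normalizer_iff_conjS.1 hg.2 ▸ conjS_mono g h1) h1 na)

theorem mono (hK : K ≤ H) : AbI K := fun S T hS hT e => by
  by_contra na
  obtain ⟨S', hS', e1⟩ := exists_isSylowOf_ge hS.isPGroup (hS.le.trans hK)
  have e2 := h.le hS' (inf_le_left.trans e1) na hT.isPGroup (hT.le.trans hK) inf_le_right
  have two := hS'.isPGroup.to_le (sup_le e1 e2)
  exact e ((hS.eq_of_le two le_sup_left (sup_le hS.le hT.le)).symm.trans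
    (hT.eq_of_le two le_sup_right (sup_le hS.le hT.le)))

theorem im {X : Type*} [Group X] [Finite X] {f : H →* X} (hf : Function.Surjective f) :
    AbI (⊤ : Subgroup X) := fun S T hS hT e => by
  obtain ⟨S', h1, -, rfl⟩ := W.lift_syl hf hS (P := ⊥) IsPGroup.of_bot bot_le
  obtain ⟨T', h2, h3, rfl⟩ := W.lift_syl hf hT (P := S' ⊓ pre f T) h1.isPGroup.to_inf_left
    inf_le_right
  have ne : S' ≠ T' := fun e1 => e (e1 ▸ rfl)
  have e1 : H5.im f S' ⊓ H5.im f T' ≤ H5.im f (S' ⊓ T') := by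
    rintro _ ⟨⟨x, hx, rfl⟩, hy⟩
    exact mem_im_of_mem x.2 ⟨hx, h3 ⟨hx, coe_mem_pre.2 hy⟩⟩
  intro x hx
  refine GW.cen.2 fun y hy => ?_
  obtain ⟨a, ha, rfl⟩ := e1 hx
  obtain ⟨b, hb, rfl⟩ := e1 hy
  rw [← map_mul, ← map_mul]
  exact congrArg f (Subtype.ext (GW.cen.1 (h S' T' h1 h2 ne ha) b hb))

/-- no nonabelian 2-subgroup centralizes a 2-component modulo its core -/
theorem ab_CM (hK : PQS 2 K) (KH : K ≤ H) (hP : IsPGroup 2 P) (PH : P ≤ H) (c : P ≤ CM K) :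
    P ≤ Cen P := by
  by_contra na
  obtain ⟨S, hS, e⟩ := exists_isSylowOf_ge hP PH
  have e1 : K ⊓ Cen P ≤ Nor S := (inf_le_inf KH (cnor le_rfl)).trans (h.nor hS e na)
  have e3 : IsSylowOf 2 (S ⊓ (K ⊓ Cen P)) (K ⊓ Cen P) :=
    isSylowOf_of_maximal inf_le_right hS.isPGroup.to_inf_left fun R hR _ h2 => le_inf
      (hS.le_of_le_normalizer' hR (h2.trans (inf_le_left.trans KH)) (h2.trans e1)) h2
  have e4 := W.solv_of_syl e3 inf_le_right (ninf e1 le_normalizer) le_rfl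
    (isSolvable_of_isPGroup e3.isPGroup)
  exact hK.not_le_of_isSolvable (H4.isSolvable_sup (inf_le_left.trans (lOo K)) e4
    (odd_solv (odd_Oo K))) (W.le_cen_sup hP c)

end AbI

theorem sc_mem (h : SC H A) (h1 : A ≤ K) (h2 : K ≤ H) {g a : G} (hg : g ∈ H) (ha : a ∈ A)
    (e : g * a * g⁻¹ ∈ K) : ∃ w ∈ K, w * (g * a * g⁻¹) * w⁻¹ ∈ A := by
  obtain ⟨R, hR, AR⟩ := exists_isSylowOf_ge (M4.el_two h.el) h1
  obtain ⟨w, hw, e1⟩ := hR.exists_conj_le (Q := zpowers (g * a * g⁻¹))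
    (isPGroup_zpowers_of_pow (k := 1) (by rw [pow_one, pow_two]; exact W.csq (h.el a ha)))
    (zpowers_le.2 e)
  have e2 := e1 (conj_mem_conjS (mem_zpowers _))
  refine ⟨w, hw, ?_⟩
  have e3 : w * (g * a * g⁻¹) * w⁻¹ = (w * g) * a * (w * g)⁻¹ := by group
  rw [e3] at e2 ⊢
  exact h.sc _ (mul_mem (h2 hw) hg) a ha (h.nor hR.isPGroup (hR.le.trans h2) AR e2)

theorem sc_inf (h : SC H A) (KH : K ≤ H) (hn : A ≤ Nor K) : SC K (A ⊓ K) := by
  refine ⟨inf_le_right, fun a ha => h.el a ha.1, fun g hg a ha e => ?_⟩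
  have xK : g * a * g⁻¹ ∈ K := mul_mem (mul_mem hg ha.2) (inv_mem hg)
  obtain ⟨w, hw, e1⟩ := sc_mem h (K := H ⊓ (Nor K ⊓ Nor (A ⊓ K : Subgroup G)))
    (le_inf h.le (le_inf hn (ninf le_normalizer hn))) inf_le_left (KH hg) ha.1
    ⟨KH xK, le_normalizer xK, e⟩
  exact mem_of_eq (cmem (inv_mem hw.2.2) (mem_inf.2 ⟨e1, cmem hw.2.1 xK⟩)) (by group)

theorem sc_im (h : SC H A) {X : Type*} [Group X] [Finite X] {f : H →* X}
    (hf : Function.Surjective f) : SC ⊤ (im f A) := by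
  refine ⟨le_top, ?_, fun g _ a ha e => ?_⟩
  · rintro _ ⟨a, ha, rfl⟩
    rw [← map_mul, show a * a = 1 from Subtype.ext (h.el a ha), map_one]
  obtain ⟨g, rfl⟩ := hf g
  obtain ⟨a, ha, rfl⟩ := ha
  obtain ⟨w, hw, e1⟩ := sc_mem h (K := pre f (Nor (im f A)))
    ((le_pre_im h.le).trans (pre_mono le_normalizer)) (pre_le _) g.2 ha
    (coe_mem_pre (x := g * a * g⁻¹).2 (by simpa using e))
  have e2 : f (⟨w, pre_le _ hw⟩ * (g * a * g⁻¹) * ⟨w, pre_le _ hw⟩⁻¹) ∈ im f A :=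
    mem_im_of_mem _ e1
  exact mem_of_eq (cmem (inv_mem (coe_mem_pre (x := ⟨w, pre_le _ hw⟩).1 hw)) e2)
    (by simp [mul_assoc])

end basic

section gl

variable {G : Type u} [Group G] [Finite G] {H K S R P A : Subgroup G}

theorem IH.mono {m n : ℕ} (h : IH.{u} n) (e : m ≤ n) : IH.{u} m :=
  fun X _ _ _ S A l => h X S A (l.trans_le e)

theorem Ctx.mono (c : Ctx H R A) (KH : K ≤ H) (hP : IsSylowOf 2 P K) (AP : A ≤ P) : Ctx K P A :=
  ⟨c.ai.mono KH, hP, c.sc.mono (AP.trans hP.le) KH, AP,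
    c.ih.mono (Nat.succ_le_succ (card_le_of_le KH))⟩

theorem Gl.ctx (c : Gl S A) (hH : H ≠ ⊤) (hR : IsSylowOf 2 R H) (AR : A ≤ R) : Ctx H R A :=
  ⟨c.ai.mono le_top, hR, c.sc.mono (AR.trans hR.le) le_top, AR, c.ih.mono (by
    rw [← card_top (G := G)]; exact card_lt_of_lt (lt_top_iff_ne_top.2 hH))⟩

theorem Gl.core (c : Gl S A) : oddCore G = ⊥ := by
  have := c.simple
  exact W.oddCore_simple c.nc

theorem Gl.nor_ne (c : Gl S A) (hP : Group.IsSolvable P) (h0 : P ≠ ⊥) : Nor P ≠ ⊤ := by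
  have := c.simple
  refine W.nor_ne_top h0 fun e => ?_
  have e1 : Group.IsSolvable (⊤ : Subgroup G) := e ▸ hP
  exact c.nc ⟨⟨(IsSimpleGroup.comm_iff_isSolvable.2
    (Group.isSolvable_of_surjective (f := (⊤ : Subgroup G).subtype) fun x => ⟨⟨x, trivial⟩, rfl⟩))⟩⟩

theorem Gl.c1_ne (c : Gl S A) {x : G} (h : x ≠ 1) : Cen1 x ≠ ⊤ := fun e =>
  c.nor_ne (P := zpowers x) inferInstance (zpowers_ne_bot.2 h) (top_le_iff.1 (nzp e.ge))

theorem Gl.nS (c : Gl S A) : S ≤ Nor A := c.sc.nor c.syl.isPGroup le_top c.le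

theorem Gl.nnS (c : Gl S A) : Nor S ≤ Nor A := fun g hg => mnor fun a ha =>
  c.sc.sc g trivial a ha (c.nS (cmem hg (c.le ha)))

theorem Gl.se (c : Gl S A) {M : Subgroup G} (hM : M ≠ ⊤) (h1 : Nor A ≤ M)
    (h2 : ∀ a ∈ A, a ≠ 1 → Cen1 a ≤ M) : HasSE G := by
  have := c.simple
  obtain ⟨T, rfl⟩ := c.syl.exists_sylow_top
  have e : omegaOne 2 A = A := le_antisymm ((closure_le _).2 fun x hx => hx.1)
    fun x hx => subset_closure ⟨hx, by rw [sq, c.sc.el x hx]⟩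
  have e1 := (H8.Sq.s3289 T A c.ne ⟨c.le, fun x hx g hg => c.sc.sc g trivial x hx (c.nS hg)⟩ M hM
    h2 (e.symm ▸ h1)).2.1
  rw [(normalClosure_normal (s := (A : Set G))).eq_bot_or_eq_top.resolve_left
    fun e2 => c.ne (eq_bot_iff.2 (e2 ▸ le_normalClosure)), inf_top_eq] at e1
  refine ⟨M, W.se_crit c.syl (fun e2 => c.ne (eq_bot_iff.2 (e2 ▸ c.le))) hM (c.nnS.trans h1)
    fun t ht ot => h2 t ?_ (ine ot)⟩
  rcases e1 with e1 | e1 <;> rw [e1]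
  · exact ht
  · exact subset_closure ⟨ht, by rw [sq, ii ot]⟩

theorem con_of (h : SC H A) (e : A ≤ Opp 2 H) : M4.Con H A := by
  obtain ⟨R, hR, AR⟩ := exists_isSylowOf_ge (M4.el_two h.el) h.le
  exact (W.fratt hR).trans (sup_le_sup_left (fun g hg => ⟨hg.1, mnor fun a ha => h.sc g hg.1 a ha
    (h.nor hR.isPGroup hR.le AR (cmem hg.2 (mem_inf.2 ⟨AR ha, e ha⟩)).1)⟩) _)

theorem ncl (A : Subgroup G) : Nor A ≤ Nor (Dich.cl A) := fun g hg => by
  rw [mem_normalizer_iff_conjS, Dich.conjS_cl, mem_normalizer_iff_conjS.1 hg]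

/-- the end of the signalizer functor argument -/
theorem Gl.se_of_odd (c : Gl S A) (oW : Odd (Nat.card (Dich.cl A)))
    (hg : ∀ a ∈ A, a ≠ 1 → Good A a) : HasSE G := by
  refine c.se (M := Dich.cl A ⊔ Nor A) (fun e => ?_) le_sup_right fun a ha a1 =>
    (con_of (c.sc.mono (M4.el_c1 c.sc.el ha) le_top) (hg a ha a1)).trans
      (sup_le_sup (SS.le_closure' (θ := Dich.th) ha a1) inf_le_right)
  rw [BS.eq_bot_of_odd c.core (e.ge.trans (sup_le le_normalizer (ncl A))) oW, bot_sup_eq] at e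
  exact c.nor_ne (isSolvable_of_isPGroup (M4.el_two c.sc.el)) c.ne e

/-- GOOD -/
theorem Gl.good (c : Gl S A) (h8 : 8 ≤ Nat.card A) (hg : ∀ a ∈ A, a ≠ 1 → Good A a) :
    HasSE G := by
  have hθ := SS.core_sig (M4.el_ea c.sc.el) (fun a _ _ => odd_solv (odd_Oo _))
    fun a ha _ b hb b1 => M4.bal c.sc ha hb
      (con_of (c.sc.mono (M4.el_c1 c.sc.el hb) le_top) (hg b hb b1))
  have hc := SS.ssft_two (M4.el_ea c.sc.el) (by omega) hθ
  exact c.se_of_odd (Nat.odd_iff.2 (Nat.two_dvd_ne_zero.1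
    (mem_fam_iff.1 (hc.closure_mem hθ)).2.1)) hg

end gl

end AI
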