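import Cfsg.Agent.AI.LA3

/-! TWO, the combinatorial part: a group acting irreducibly on an elementary abelian 2-group with
an invariant family of decompositions. -/

set_option autoImplicit false
set_option linter.unusedVariables false
set_option linter.unusedSectionVars false

namespace AI

open Cfsg Subgroup FT H4 H5 GW L

variable {G : Type*} [Group G] [Finite G] {A B E F D T : Subgroup G}
  {Pr : Subgroup G → Subgroup G → Prop} {a s t z : G}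

/-- an involution modulo `C(A)` -/
structure InvM (A : Subgroup G) (t : G) : Prop where
  nor : t ∈ Nor A
  two : PElt 2 t
  sq : t * t ∈ Cen A
  ne : t ∉ Cen A

/-- centralized by a Sylow subgroup of `N(A)` -/
def Cent (A : Subgroup G) (z : G) : Prop := ∃ T, IsSylowOf 2 T (Nor A) ∧ T ≤ Cen1 z

/-- centralized by an involution of `N(A)/C(A)` -/
def Sing (A : Subgroup G) (z : G) : Prop := ∃ t, InvM A t ∧ z ∈ Cen1 t

theorem Cent.conj (h : Cent A z) {y : G} (hy : y ∈ Nor A) : Cent A (y * z * y⁻¹) := by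
  obtain ⟨T, hT, e⟩ := h
  exact ⟨_, hT.map_conj (le_normalizer hy), conj_c1 y z ▸ conjS_mono y e⟩

theorem InvM.conj (h : InvM A t) {y : G} (hy : y ∈ Nor A) : InvM A (y * t * y⁻¹) :=
  ⟨mul_mem (mul_mem hy h.nor) (inv_mem hy), h.two.conj y,
    mem_of_eq (cmem (mcen hy) h.sq) (by group),
    fun e => h.ne (mem_of_eq (cmem' (mcen hy) e) (by group))⟩

theorem Sing.conj (h : Sing A z) {y : G} (hy : y ∈ Nor A) : Sing A (y * z * y⁻¹) := by
  obtain ⟨t, ht, e⟩ := h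
  exact ⟨_, ht.conj hy, conj_c1 y t ▸ conj_mem_conjS e⟩

theorem mul_le_of (h1 : B ≤ A) (h2 : E ≤ A) (e : B ⊓ E = ⊥) :
    Nat.card B * Nat.card E ≤ Nat.card A := by
  have := H6.card_mul_card_le B E
  rw [e, card_bot, one_mul] at this
  exact this.trans (card_le_of_le (sup_le h1 h2))

theorem proj (hn : E ≤ Nor D) (hF : F ≤ D ⊔ E) (hn' : F ≤ Nor D) (e : F ⊓ D = ⊥)
    (c : Nat.card E ≤ Nat.card F) (ha : a ∈ E) : ∃ d ∈ D, d * a ∈ F := by
  have e1 : D ⊔ F = D ⊔ E := Subgroup.eq_of_le_of_card_ge (sup_le le_sup_left hF) (by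
    rw [card_sup_of_disjoint hn' (inf_comm F D ▸ e)]
    exact (Nat.le_of_dvd (Nat.mul_pos Nat.card_pos Nat.card_pos) (card_sup_dvd hn)).trans
      (Nat.mul_le_mul_left _ c))
  obtain ⟨d, hd, f, hf, e2⟩ := (mem_sup_left_iff hn').1 (e1.ge (mem_sup_right ha))
  exact ⟨d⁻¹, inv_mem hd, by rwa [← e2, inv_mul_cancel_left]⟩

/-- the abstract setting -/
structure Ab (A : Subgroup G) (Pr : Subgroup G → Subgroup G → Prop) : Prop where
  el : ∀ a ∈ A, a * a = 1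
  irr : ∀ B ≤ A, Nor A ≤ Nor B → B = ⊥ ∨ B = A
  zc : ∀ T, IsSylowOf 2 T (Nor A) → ∀ t ∈ T, t * t ∈ Cen A → ∀ s ∈ T, s * t * s⁻¹ * t⁻¹ ∈ Cen A
  big : ∀ T, IsSylowOf 2 T (Nor A) → ∀ t ∈ T, ∃ s ∈ T, s ∉ Cen A ∧ t⁻¹ * s ∉ Cen A
  sup : ∀ {B E}, Pr B E → B ⊔ E = A
  inf : ∀ {B E}, Pr B E → B ⊓ E = ⊥
  b0 : ∀ {B E}, Pr B E → B ≠ ⊥
  e0 : ∀ {B E}, Pr B E → E ≠ ⊥
  conj : ∀ {B E m}, Pr B E → m ∈ Nor A → Pr (conjS m B) (conjS m E)
  meet : ∀ {B E B' E'}, Pr B E → Pr B' E' → E ⊓ E' ≠ ⊥ → (B = B' ∧ E = E') ∨ (B' ≤ E ∧ B ≤ E')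
  tr : ∀ {B E}, Pr B E → ∀ b ∈ B, ∀ c ∈ B, b ≠ 1 → c ≠ 1 →
    ∃ y ∈ Nor A, y ∈ Cen E ∧ y * b * y⁻¹ = c
  two : ∀ {B E t}, Pr B E → InvM A t → E ⊓ Cen1 t ≠ ⊥ → t ∈ Cen (E ⊓ conjS t E : Subgroup G)
  N : ∀ {B E T}, Pr B E → IsSylowOf 2 T (Nor A) → ¬ T ≤ Nor E

namespace Ab

variable (h : Ab A Pr)
include h

theorem lB (p : Pr B E) : B ≤ A := h.sup p ▸ le_sup_left

theorem lE (p : Pr B E) : E ≤ A := h.sup p ▸ le_sup_right

theorem cm {x y : G} (hx : x ∈ A) (hy : y ∈ A) : x * y = y * x := M4.el_comm h.el hx hy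

theorem nr (h1 : B ≤ A) (h2 : E ≤ A) : B ≤ Nor E :=
  cnor fun x hx => cen.2 fun y hy => h.cm (h1 hx) (h2 hy)

theorem dec (p : Pr B E) (hz : z ∈ A) : ∃ x ∈ B, ∃ a ∈ E, x * a = z :=
  (mem_sup_left_iff (h.nr (h.lE p) (h.lB p))).1 (h.sup p ▸ hz)

theorem card (p : Pr B E) : Nat.card A = Nat.card B * Nat.card E := by
  rw [← card_sup_of_disjoint (h.nr (h.lE p) (h.lB p)) (h.inf p), h.sup p]

theorem nBE (p : Pr B E) : ¬ B ≤ E := fun e => h.b0 p (inf_eq_left.2 e ▸ h.inf p)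

theorem nAB (p : Pr B E) : ¬ A ≤ B := fun e =>
  h.e0 p (inf_eq_right.2 ((h.lE p).trans e) ▸ h.inf p)

theorem gen {Q : G → Prop} (hQ : ∀ z, Q z → ∀ y ∈ Nor A, Q (y * z * y⁻¹)) (hz : z ∈ A) (z1 : z ≠ 1)
    (q : Q z) (e : ∀ z ∈ A, z ≠ 1 → Q z → z ∈ D) : A ≤ D := by
  rcases h.irr (closure {z | z ∈ A ∧ z ≠ 1 ∧ Q z}) ((closure_le _).2 fun x hx => hx.1)
    (fun y hy => mem_normalizer_iff_conjS.2 (Subgroup.eq_of_le_of_card_ge (by
      rw [conjS, map_le_iff_le_comap, closure_le]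
      exact fun x hx => subset_closure ⟨cmem hy hx.1, fun e => hx.2.1 (W.cj1.1 e),
        hQ x hx.2.2 y hy⟩) (card_conjS _ _).ge)) with e1 | e1
  · exact (z1 (mem_bot.1 (e1 ▸ subset_closure ⟨hz, z1, q⟩))).elim
  · exact e1.ge.trans ((closure_le _).2 fun x hx => e x hx.1 hx.2.1 hx.2.2)

theorem mv (p : Pr B E) (hF : F ≤ A) (e1 : F ⊓ B = ⊥) (e2 : F ⊓ E = ⊥)
    (c : Nat.card E ≤ Nat.card F) (hz : z ∈ A) :
    z ∈ B ∨ z ∈ E ∨ ∃ y ∈ Nor A, y * z * y⁻¹ ∈ F := by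
  obtain ⟨x, hx, a, ha, rfl⟩ := h.dec p hz
  by_cases a1 : a = 1
  · exact Or.inl (by rwa [a1, mul_one])
  by_cases x1 : x = 1
  · exact Or.inr (Or.inl (by rwa [x1, one_mul]))
  obtain ⟨d, hd, e⟩ := proj (h.nr (h.lE p) (h.lB p)) (h.sup p ▸ hF) (h.nr hF (h.lB p)) e1 c ha
  obtain ⟨y, hy, e3, e4⟩ := h.tr p x hx d hd x1 fun d1 =>
    a1 (W.eq1 e2 (by rwa [d1, one_mul] at e) ha)
  exact Or.inr (Or.inr ⟨y, hy, by rwa [← conj_mul, e4, cen.1 e3 a ha, mul_inv_cancel_right]⟩)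

theorem mt (p : Pr B E) {u v : G} (hu : u ∈ Nor A) (hv : v ∈ Nor A) (e : u⁻¹ * v ∉ Nor E)
    (h1 : a ∈ conjS u E) (h2 : a ∈ conjS v E) (a1 : a ≠ 1) : conjS v B ≤ conjS u E := by
  rcases h.meet (h.conj p hu) (h.conj p hv) (fun k => a1 (W.eq1 k h1 h2)) with k | k
  · exact (e (by rw [mem_normalizer_iff_conjS, ← conjS_conjS, ← k.2, conjS_inv_conjS])).elim
  · exact k.1

theorem mt1 (p : Pr B E) {v : G} (hv : v ∈ Nor A) (e : v ∉ Nor E)
    (h1 : a ∈ E) (h2 : a ∈ conjS v E) (a1 : a ≠ 1) : conjS v B ≤ E := by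
  simpa using h.mt p (one_mem _) hv (by simpa using e) (by simpa using h1) h2 a1

theorem fixE (e : T ≤ Cen1 a) (ha : a ∈ E) (hs : s ∈ T) : a ∈ conjS s E :=
  c1'.1 (e hs) ▸ conj_mem_conjS ha

theorem nC (hT : IsSylowOf 2 T (Nor A)) (ht : t ∈ T) (i : InvM A t) :
    T ≤ Nor (A ⊓ Cen1 t : Subgroup G) := fun s hs => mnor fun x hx => ⟨cmem (hT.le hs) hx.1, by
  have e := cen.1 (h.zc T hT t ht i.sq s⁻¹ (inv_mem hs)) x hx.1
  refine c1.2 ?_
  calc _ = s * (x * (s⁻¹ * t * s⁻¹⁻¹ * t⁻¹)) * t * s⁻¹ := by group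
    _ = t * s * (t⁻¹ * (x * t)) * s⁻¹ := by rw [← e]; group
    _ = _ := by rw [c1.1 hx.2]; group⟩

theorem nD (hT : IsSylowOf 2 T (Nor A)) (ht : t ∈ T) (i : InvM A t) :
    T ≤ Nor (SF.nrm h.el i.nor).range := fun s hs => mnor (by
  rintro _ ⟨a, rfl⟩
  refine ⟨⟨_, cmem (hT.le hs) a.2⟩, ?_⟩
  have e := cen.1 (h.zc T hT t ht i.sq s hs) _ (cmem i.nor (cmem (hT.le hs) a.2))
  change s * a * s⁻¹ * (t * (s * a * s⁻¹) * t⁻¹) = s * (a * (t * a * t⁻¹)) * s⁻¹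
  rw [eq_mul_inv_of_mul_eq e.symm]
  group)

theorem exT (i : InvM A t) : ∃ T, IsSylowOf 2 T (Nor A) ∧ t ∈ T := by
  obtain ⟨T, hT, e⟩ := exists_isSylowOf_ge i.two.isPGroup_zpowers (zpowers_le.2 i.nor)
  exact ⟨T, hT, e (mem_zpowers t)⟩

theorem DC (i : InvM A t) : (SF.nrm h.el i.nor).range ≤ A ⊓ Cen1 t :=
  SF.nrm_le h.el i.nor (cen.1 i.sq)

theorem cenD (i : InvM A t) : ∃ z ∈ (SF.nrm h.el i.nor).range, z ≠ 1 ∧ Cent A z := by
  obtain ⟨T, hT, ht⟩ := h.exT i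
  obtain ⟨z, hz, z1, -, e⟩ := H7.exists_fixed_order_p ((M4.el_two h.el).to_le
    ((h.DC i).trans inf_le_left)) hT.isPGroup (h.nD hT ht i) fun e => i.ne (cen_iff_le.2 (by
      have := SF.card_nrm h.el i.nor
      rw [e, card_bot, one_mul] at this
      exact (Subgroup.eq_of_le_of_card_ge inf_le_left this.le).ge.trans inf_le_right))
  exact ⟨z, hz, z1, T, hT, fun g hg => c1.2 (e g (mem_sup_right hg))⟩

theorem nocen1 (p : Pr B E) (c : Nat.card E < Nat.card B) (ha : a ∈ E) (a1 : a ≠ 1) :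
    ¬ Cent A a := fun ⟨T, hT, e⟩ => by
  obtain ⟨u, hu, un⟩ := SetLike.not_le_iff_exists.1 (h.N p hT)
  have := card_le_of_le (h.mt1 p (hT.le hu) un ha (h.fixE e ha hu) a1)
  rw [card_conjS] at this
  omega

/-- case (α)(i) -/
theorem one (p : Pr B E) (i : InvM A t) (hn : t ∈ Nor E) (e : E ⊓ Cen1 t ≠ ⊥) : False := by
  have EC : E ≤ A ⊓ Cen1 t := le_inf (h.lE p) (cen_iff_le.1 (by
    simpa [mem_normalizer_iff_conjS.1 hn] using h.two p i e))
  have tB : t ∈ Nor B := by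
    rcases h.meet p (h.conj p i.nor) (by simpa [mem_normalizer_iff_conjS.1 hn] using h.e0 p)
      with k | k
    · exact mem_normalizer_iff_conjS.2 k.1.symm
    · exact (h.nBE p (mem_normalizer_iff_conjS.1 hn ▸ k.2)).elim
  have DB : (SF.nrm h.el i.nor).range ≤ B := by
    rintro _ ⟨a, rfl⟩
    obtain ⟨x, hx, b, hb, e1⟩ := h.dec p a.2
    change (a : G) * (t * a * t⁻¹) ∈ B
    rw [← e1, ← conj_mul, c1'.1 (c1s.1 (EC hb).2), h.cm (h.lB p (cmem tB hx)) (h.lE p hb)]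
    exact mem_of_eq (mul_mem hx (cmem tB hx)) (by
      rw [mul_assoc x b, ← mul_assoc b, h.el b (h.lE p hb), one_mul])
  obtain ⟨T, hT, ht⟩ := h.exT i
  obtain ⟨z, hz, z1, zc⟩ := h.cenD i
  obtain ⟨s, hs, sn⟩ := SetLike.not_le_iff_exists.1 (h.N p hT)
  have sC := mem_normalizer_iff_conjS.1 (h.nC hT ht i hs)
  have p' := h.conj p (hT.le hs)
  have e1 : conjS s E ⊓ E = ⊥ := eq_bot_iff.2 fun v hv => by_contra fun v1 => by
    have := (h.mt1 p (hT.le hs) sn hv.2 hv.1 v1).trans EC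
    rw [← sC, conjS_le_conjS_iff] at this
    exact i.ne (cen_iff_le.2 ((h.sup p).ge.trans ((sup_le this EC).trans inf_le_right)))
  have c : Nat.card E < Nat.card B := by
    have k1 := mul_le_of (sC ▸ conjS_mono s EC) EC e1
    have k2 := card_lt_of_lt (lt_of_le_of_ne (inf_le_left : A ⊓ Cen1 t ≤ A)
      fun k => i.ne (cen_iff_le.2 (k.ge.trans inf_le_right)))
    rw [card_conjS] at k1
    rw [h.card p] at k2
    exact Nat.lt_of_mul_lt_mul_right (k1.trans_lt k2)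
  have n1 := fun a => h.nocen1 (a := a) p' (by rwa [card_conjS, card_conjS])
  have e2 : conjS s E ⊓ B = ⊥ := eq_bot_iff.2 fun v hv => by_contra fun v1 => by
    obtain ⟨y, hy, -, e3⟩ := h.tr p z (DB hz) v hv.2 z1 v1
    exact n1 v hv.1 v1 (e3 ▸ zc.conj hy)
  refine h.nAB p (h.gen (fun z q y hy => q.conj hy) (h.lB p (DB hz)) z1 zc fun w hw w1 q => ?_)
  rcases h.mv p (h.lE p') e2 e1 (card_conjS s E).ge hw with k | k | ⟨y, hy, k⟩
  · exact k
  · exact (h.nocen1 p c k w1 q).elim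
  · exact (n1 _ k (fun k => w1 (W.cj1.1 k)) (q.conj hy)).elim

theorem odd (p : Pr B E) (hT : IsSylowOf 2 T (Nor A)) (hs : s ∈ T) (e : s ∉ Cen A) :
    s ∉ Nor E := fun hn => by
  obtain ⟨g, hg, g1, g2⟩ := SF.exists_sq_mem (hT.isPGroup.to_le (zpowers_le.2 hs))
    fun k => e (k (mem_zpowers s))
  have gT := zpowers_le.2 hs hg
  have gE := zpowers_le.2 hn hg
  obtain ⟨z, hz, z1, -, k⟩ := H7.exists_fixed_order_p ((M4.el_two h.el).to_le (h.lE p))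
    (hT.isPGroup.to_le (zpowers_le.2 gT)) (zpowers_le.2 gE) (h.e0 p)
  exact h.one p ⟨hT.le gT, PElt_of_mem hT.isPGroup gT, g2, g1⟩ gE fun k' =>
    z1 (W.eq1 k' hz (c1.2 (k g (mem_sup_right (mem_zpowers g))).symm))

theorem nocen2 (p : Pr B E) (c : Nat.card E ≤ Nat.card B * Nat.card B) (ha : a ∈ E) (a1 : a ≠ 1) :
    ¬ Cent A a := fun ⟨T, hT, e⟩ => by
  obtain ⟨u, hu, u1, -⟩ := h.big T hT 1 (one_mem _)
  obtain ⟨v, hv, v1, w1⟩ := h.big T hT u hu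
  have k1 := h.mt1 p (hT.le hu) (h.odd p hT hu u1) ha (h.fixE e ha hu) a1
  have k2 := h.mt1 p (hT.le hv) (h.odd p hT hv v1) ha (h.fixE e ha hv) a1
  have k3 := h.mt p (hT.le hu) (hT.le hv) (h.odd p hT (mul_mem (inv_mem hu) hv) w1)
    (h.fixE e ha hu) (h.fixE e ha hv) a1
  have k4 := card_lt_of_lt (lt_of_le_of_ne (le_inf k3 k2) fun k => a1 (W.eq1
    (h.inf (h.conj p (hT.le hv))) (k.ge ⟨h.fixE e ha hu, ha⟩) (h.fixE e ha hv)))
  have k5 := mul_le_of k1 (inf_le_right (a := conjS u E)) (eq_bot_iff.2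
    ((inf_le_inf_left _ inf_le_left).trans (h.inf (h.conj p (hT.le hu))).le))
  rw [card_conjS] at k4 k5
  have := Nat.mul_lt_mul_of_pos_left k4 (Nat.card_pos (α := B))
  omega

/-- case (α) -/
theorem nosing (p : Pr B E) {b : G} (hb : b ∈ E) (b1 : b ≠ 1) : ¬ Sing A b := fun ⟨t, i, bt⟩ => by
  obtain ⟨T, hT, ht⟩ := h.exT i
  have p' := h.conj p i.nor
  have bE : b ∈ conjS t E := h.fixE (T := Cen1 b) le_rfl hb (c1s.1 bt)
  obtain ⟨l1, l2⟩ := (h.meet p p' fun k => b1 (W.eq1 k hb bE)).resolve_left fun k =>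
    h.odd p hT ht i.ne (mem_normalizer_iff_conjS.2 k.2.symm)
  have FC : E ⊓ conjS t E ≤ A ⊓ Cen1 t := le_inf (inf_le_left.trans (h.lE p))
    (cen_iff_le.1 (h.two p i fun k => b1 (W.eq1 k hb bt)))
  have tt : ∀ x ∈ A, t * (t * x * t⁻¹) * t⁻¹ = x := fun x hx => by
    calc _ = t * t * x * (t * t)⁻¹ := by group
      _ = _ := by rw [cen.1 i.sq x hx, mul_inv_cancel_right]
  have dec : ∀ z ∈ A, ∃ x ∈ B, ∃ y ∈ B, ∃ a ∈ E ⊓ conjS t E, x * (t * y * t⁻¹ * a) = z :=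
    fun z hz => by
      obtain ⟨x, hx, e, he, rfl⟩ := h.dec p hz
      obtain ⟨y, hy, a, ha, rfl⟩ := h.dec p' (h.lE p he)
      exact ⟨x, hx, _, mem_conjS.1 hy, a, ⟨(mul_mem_cancel_left (l1 hy)).1 he, ha⟩, by group⟩
  have m : ∀ y ∈ B, t * y * t⁻¹ ∈ E := fun y hy => l1 (conj_mem_conjS hy)
  set D := (SF.nrm h.el i.nor).range with hD
  have mD : ∀ w ∈ B, w * (t * w * t⁻¹) ∈ D := fun w hw => ⟨⟨w, h.lB p hw⟩, rfl⟩
  have D1 : ∀ d ∈ D, ∃ w ∈ B, w * (t * w * t⁻¹) = d := by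
    rintro _ ⟨z, rfl⟩
    obtain ⟨x, hx, y, hy, a, ha, e⟩ := dec z z.2
    refine ⟨x * y, mul_mem hx hy, ?_⟩
    change _ = (z : G) * (t * z * t⁻¹)
    have c1 : Commute (t * x * t⁻¹) y := h.cm (h.lE p (m x hx)) (h.lB p hy)
    have c2 : Commute (t * y * t⁻¹) y := h.cm (h.lE p (m y hy)) (h.lB p hy)
    have c3 : Commute (t * y * t⁻¹) (t * x * t⁻¹) := h.cm (h.lE p (m y hy)) (h.lE p (m x hx))
    have c4 : Commute a (t * x * t⁻¹ * y) := h.cm (FC ha).1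
      (mul_mem (h.lE p (m x hx)) (h.lB p hy))
    rw [← e, ← conj_mul, ← conj_mul, ← conj_mul, tt y (h.lB p hy), c1'.1 (c1s.1 (FC ha).2)]
    generalize t * x * t⁻¹ = x' at *
    generalize t * y * t⁻¹ = y' at *
    calc _ = x * (y * x') * y' := by group
      _ = x * y' * (x' * y) * (a * a) := by
        rw [h.el a (FC ha).1, ← c1.eq, mul_one, mul_assoc x, mul_assoc x, (c3.mul_right c2).eq]
      _ = x * y' * (x' * y * a) * a := by group
      _ = _ := by rw [← c4.eq]; group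
  have DE : D ⊓ E = ⊥ := eq_bot_iff.2 fun d hd => by
    obtain ⟨w, hw, rfl⟩ := D1 d hd.1
    rw [W.eq1 (h.inf p) hw ((mul_mem_cancel_right (m w hw)).1 hd.2)]
    simp
  have DA := (h.DC i).trans inf_le_left
  have CD : A ⊓ Cen1 t ≤ D ⊔ E ⊓ conjS t E := fun z hz => by
    obtain ⟨x, hx, y, hy, a, ha, rfl⟩ := dec z hz.1
    have e := c1'.1 (c1s.1 hz.2)
    rw [← conj_mul, ← conj_mul, tt y (h.lB p hy), c1'.1 (c1s.1 (FC ha).2), ← mul_assoc,
      h.cm (h.lE p (m x hx)) (h.lB p hy), mul_assoc] at e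
    rw [uniq_dec (h.inf p) hy (mul_mem (m x hx) ha.1) hx (mul_mem (m y hy) ha.1) e, ← mul_assoc]
    exact mul_mem_sup (mD x hx) ha
  obtain ⟨s, hs, s1, s2⟩ := h.big T hT t ht
  have sC := mem_normalizer_iff_conjS.1 (h.nC hT ht i hs)
  have sD : conjS s D = D := mem_normalizer_iff_conjS.1 (h.nD hT ht i hs)
  have e1 : conjS s (E ⊓ conjS t E) ⊓ (E ⊓ conjS t E) = ⊥ := eq_bot_iff.2 fun v hv =>
    by_contra fun v1 => by
      have hv' := conjS_mono s inf_le_left hv.1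
      have := (le_inf (h.mt1 p (hT.le hs) (h.odd p hT hs s1) hv.2.1 hv' v1) (h.mt p i.nor
        (hT.le hs) (h.odd p hT (mul_mem (inv_mem ht) hs) s2) hv.2.2 hv' v1)).trans FC
      rw [← sC, conjS_le_conjS_iff] at this
      exact h.nBE p fun x hx => c1'.1 (c1s.1 (this hx).2) ▸ m x hx
  have FA := inf_le_left.trans (h.lE p) (a := E ⊓ conjS t E)
  have c : Nat.card E ≤ Nat.card B * Nat.card B := by
    have k1 := mul_le_of (sC ▸ conjS_mono s FC) FC e1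
    have k2 := (card_le_of_le CD).trans (Nat.le_of_dvd (Nat.mul_pos Nat.card_pos Nat.card_pos)
      (card_sup_dvd (h.nr FA DA)))
    have k3 := mul_le_of DA (h.lE p) DE
    have k4 : E ≤ conjS t B ⊔ E ⊓ conjS t E := fun e he => by
      obtain ⟨y, hy, a, ha, rfl⟩ := h.dec p' (h.lE p he)
      exact mul_mem_sup hy ⟨(mul_mem_cancel_left (l1 hy)).1 he, ha⟩
    have k5 := (card_le_of_le k4).trans (Nat.le_of_dvd (Nat.mul_pos Nat.card_pos Nat.card_pos)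
      (card_sup_dvd (h.nr FA (h.lB p'))))
    rw [card_conjS] at k1 k5
    rw [h.card p] at k3
    exact k5.trans (Nat.mul_le_mul_left _ ((Nat.le_of_mul_le_mul_right (k1.trans k2)
      Nat.card_pos).trans (Nat.le_of_mul_le_mul_right k3 Nat.card_pos)))
  have nc : ∀ m ∈ Nor A, ∀ a ∈ conjS m E, a ≠ 1 → ¬ Cent A a := fun m hm a =>
    h.nocen2 (h.conj p hm) (by rwa [card_conjS, card_conjS])
  have e2 : conjS s (E ⊓ conjS t E) ⊓ D = ⊥ := by
    rw [← sD, ← conjS_inf, eq_bot_iff.2 ((inf_le_inf_right D inf_le_left).trans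
      (inf_comm D E ▸ DE).le), conjS, Subgroup.map_bot]
  obtain ⟨z, hz, z1, zc⟩ := h.cenD i
  have e3 := h.gen (D := B ⊔ conjS t B) (fun z q y hy => q.conj hy) (DA hz) z1 zc
    fun w hw w1 q => by
      obtain ⟨x, hx, y, hy, a, ha, rfl⟩ := dec w hw
      by_cases a1 : a = 1
      · rw [a1, mul_one]; exact mul_mem_sup hx (conj_mem_conjS hy)
      exfalso
      obtain ⟨d, hd, k⟩ := proj (h.nr FA DA) ((sC ▸ conjS_mono s FC).trans CD)
        (h.nr ((sC ▸ conjS_mono s FC).trans inf_le_left) DA) e2 (card_conjS s _).ge ha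
      obtain ⟨u, hu, rfl⟩ := D1 d hd
      have u1 : u ≠ 1 := fun k' => a1 (W.eq1 e1 (by simpa [k'] using k) ha)
      obtain ⟨g, hg, g1, g2⟩ := h.tr p x hx u hu (fun k' => h.nocen2 p c
        (by rw [k', one_mul]; exact mul_mem (m y hy) ha.1) w1 q) u1
      obtain ⟨g', hg', g3, g4⟩ := h.tr p' _ (conj_mem_conjS hy) _ (conj_mem_conjS hu)
        (fun k' => nc t i.nor _ (by rw [k', one_mul]; exact mul_mem (l2 hx) ha.2) w1 q)
        fun k' => u1 (W.cj1.1 k')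
      have q' := (q.conj hg).conj hg'
      have w' : g' * (g * (x * (t * y * t⁻¹ * a)) * g⁻¹) * g'⁻¹ ≠ 1 := fun k' =>
        w1 (W.cj1.1 (W.cj1.1 k'))
      rw [← conj_mul (b := g), g2, cen.1 g1 _ (mul_mem (m y hy) ha.1), mul_inv_cancel_right,
        ← conj_mul, ← conj_mul, g4, cen.1 g3 _ (l2 hu), cen.1 g3 _ ha.2, mul_inv_cancel_right,
        mul_inv_cancel_right, ← mul_assoc] at q' w'
      exact nc s (hT.le hs) _ (conjS_mono s inf_le_left k) w' q'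
  obtain ⟨x, hx, y, hy, rfl⟩ := (mem_sup_left_iff (h.nr (h.lB p') (h.lB p))).1 (e3 (h.lE p hb))
  rw [W.eq1 (h.inf p) hx ((mul_mem_cancel_right (l1 hy)).1 hb), one_mul] at b1 bE
  exact b1 (W.eq1 (h.inf p') hy bE)

/-- case (β) -/
theorem no (p : Pr B E) : False := by
  obtain ⟨T, hT⟩ := exists_isSylowOf (q := 2) (Nor A)
  obtain ⟨u, hu, u1, -⟩ := h.big T hT 1 (one_mem _)
  obtain ⟨v, hv, v1, w1⟩ := h.big T hT u hu
  obtain ⟨t, ht, t1, t2⟩ := SF.exists_sq_mem hT.isPGroup fun k => u1 (k hu)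
  have i : InvM A t := ⟨hT.le ht, PElt_of_mem hT.isPGroup ht, t2, t1⟩
  have CE : A ⊓ Cen1 t ⊓ E = ⊥ := eq_bot_iff.2 fun x hx => by_contra fun x1 =>
    h.nosing p hx.2 x1 ⟨t, i, hx.1.2⟩
  have k1 := SF.card_le_sq h.el i.nor (cen.1 i.sq)
  have k2 := mul_le_of inf_le_left (h.lE p) CE
  rw [h.card p] at k1 k2
  have k3 := Nat.le_of_mul_le_mul_right k2 Nat.card_pos
  have k4 : Nat.card E ≤ Nat.card (A ⊓ Cen1 t : Subgroup G) :=
    Nat.le_of_mul_le_mul_left (k1.trans (by rw [sq]; exact Nat.mul_le_mul_right _ k3)) Nat.card_pos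
  have key : ∀ s ∈ T, s ∉ Cen A → conjS s E = B := fun s hs s1 => by
    have p' := h.conj p (hT.le hs)
    by_cases e1 : E ⊓ conjS s E = ⊥
    swap
    · rcases h.meet p p' e1 with k | k
      · exact (h.odd p hT hs s1 (mem_normalizer_iff_conjS.2 k.2.symm)).elim
      · exact (Subgroup.eq_of_le_of_card_ge k.2 (by rw [card_conjS]; omega)).symm
    rw [inf_comm] at e1
    by_cases e2 : conjS s E ⊓ B = ⊥
    · obtain ⟨z, hz, z1, -⟩ := h.cenD i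
      refine (h.nAB p (h.gen (Q := Sing A) (fun z q y hy => Sing.conj q hy) (h.DC i hz).1 z1 ⟨t, i, (h.DC i hz).2⟩
        fun w hw w1 q => ?_)).elim
      rcases h.mv p (h.lE p') e2 e1 (card_conjS s E).ge hw with k | k | ⟨y, hy, k⟩
      · exact k
      · exact (h.nosing p k w1 q).elim
      · exact (h.nosing p' k (fun k => w1 (W.cj1.1 k)) (q.conj hy)).elim
    obtain ⟨z, hz, z1⟩ := exists_ne_one_of_ne_bot e2
    have CB : A ⊓ Cen1 t ⊓ B = ⊥ := eq_bot_iff.2 fun x hx => by_contra fun x1 => by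
      obtain ⟨y, hy, -, e3⟩ := h.tr p x hx.2 z hz.2 x1 z1
      exact h.nosing p' hz.1 z1 (e3 ▸ Sing.conj ⟨t, i, hx.1.2⟩ hy)
    have k5 := mul_le_of inf_le_left (h.lB p) CB
    rw [h.card p, mul_comm] at k5
    have k6 := Nat.le_of_mul_le_mul_left k5 Nat.card_pos
    rcases H2.le_or_le_of_subset_union (E := conjS s E) (A := B) (B := E) (fun w hw => by
      rcases h.mv p inf_le_left CB CE k4 (h.lE p' hw) with k | k | ⟨y, hy, k⟩
      · exact Or.inl k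
      · exact Or.inr k
      by_cases w1 : w = 1
      · exact Or.inl (w1 ▸ one_mem _)
      exact (h.nosing p' hw w1 (by
        simpa [mul_assoc] using Sing.conj ⟨t, i, k.2⟩ (inv_mem hy))).elim) with k | k
    · refine Subgroup.eq_of_le_of_card_ge k ?_
      rw [card_conjS]
      exact Nat.le_of_mul_le_mul_right (k1.trans (by rw [sq]; exact Nat.mul_le_mul k6 k6))
        Nat.card_pos
    · exact (h.e0 p' (inf_eq_left.2 k ▸ e1)).elim
  refine h.odd p hT (mul_mem (inv_mem hu) hv) w1 ?_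
  rw [mem_normalizer_iff_conjS, ← conjS_conjS, key v hv v1, ← key u hu u1, conjS_inv_conjS]

end Ab

end AI
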