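import Cfsg.Agent.AI.TW2A

/-! TWO: the irreducible noncentral case. -/

set_option autoImplicit false
set_option linter.unusedVariables false
set_option linter.unusedSectionVars false

namespace AI

open Cfsg Subgroup FT H4 H5 GW L
open W (CM HasSE TO Om AS)
open M4 (SC)

universe u

section tools

variable {G : Type*} [Group G] [Finite G] {A B E K P R S T Y : Subgroup G} {a b c s t v : G}

theorem burn (hP : IsSylowOf 2 P Y) (h1 : P ≤ Cen1 b) (h2 : P ≤ Cen1 c) {y : G} (hy : y ∈ Y)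
    (e : y * b * y⁻¹ = c) : ∃ w ∈ Y, w ∈ Nor P ∧ w * b * w⁻¹ = c := by
  obtain ⟨w, hw, e2⟩ := (hP.of_le (le_inf hP.le h2) inf_le_left).exists_conj_le
    (Q := conjS y P) (hP.isPGroup.map _) (le_inf ((conjS_mono y hP.le).trans
      (conjS_eq_of_mem hy).le) ((conjS_mono y h1).trans (by rw [conj_c1, e])))
  exact ⟨w * y, mul_mem hw.1 hy, mnor fun x hx =>
    mem_of_eq (e2 (conj_mem_conjS (conj_mem_conjS hx))) (by group), by
      rw [← c1'.1 hw.2, ← e]; group⟩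

/-- involutions of a nonnormal TI Sylow subgroup are central in it -/
theorem ti_cen (ti : ∀ T, IsSylowOf 2 T (⊤ : Subgroup G) → ∀ x ∈ T, x ≠ 1 → ∀ U : Subgroup G,
    IsPGroup 2 U → x ∈ U → U ≤ T) (hT : IsSylowOf 2 T ⊤) {g : G} (hg : g ∉ Nor T) (ht : t ∈ T) (tt : t * t = 1) :
    T ≤ Cen1 t := by
  by_cases t1 : t = 1
  · exact fun x _ => c1.2 (by simp [t1])
  have hT' : IsSylowOf 2 (conjS g T) ⊤ := hT.map_conj (le_normalizer (mem_top g))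
  obtain ⟨z, hz, z1, zz, zc⟩ := H7.exists_fixed_order_p hT'.isPGroup hT'.isPGroup le_normalizer
    fun e => t1 (W.cj1.1 (mem_bot.1 (e ▸ conj_mem_conjS ht)))
  rw [sq] at zz
  rcases H8.dihedral_cases tt zz with ⟨k, k1, k2, k3, k4⟩ | ⟨k, -, k2⟩
  · have m : ∀ T, IsSylowOf 2 T ⊤ → ∀ x ∈ T, x ≠ 1 → x * (t * z) ^ k = (t * z) ^ k * x →
        (t * z) ^ k ∈ T := fun T hT x hx x1 e => ti T hT x hx x1 _ (H8.isPGroup_sup_zpowers
      (hT.isPGroup.to_le (zpowers_le.2 hx)) (mzp (c1.2 e.symm)) (k2 ▸ one_mem _))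
      (mem_sup_left (mem_zpowers x)) (mem_sup_right (mem_zpowers _))
    exact (hg (mnor fun x hx => ti T hT _ (m T hT t ht t1 k3) k1 _ hT'.isPGroup
      (m _ hT' z hz z1 k4) (conj_mem_conjS hx))).elim
  · set w := (t * z) ^ k * t
    have hU : IsSylowOf 2 (conjS w⁻¹ (conjS g T)) ⊤ := hT'.map_conj (le_normalizer (mem_top _))
    have e : w⁻¹ * z * w⁻¹⁻¹ = t := by rw [← k2]; group
    refine (ti _ hU t (e ▸ conj_mem_conjS hz) t1 T hT.isPGroup ht).trans ?_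
    rw [← e, ← conj_c1]
    exact conjS_mono _ fun x hx => c1.2 (zc x (mem_sup_left hx))

theorem sq_cen (el : ∀ x ∈ B, x * x = 1) (hs : s ∈ Nor B) (h4 : s * s * (s * s) ∈ Cen B)
    (h : ∀ c ∈ B, c ∈ Cen1 (s * s) → c ∈ Cen1 s) : s * s ∈ Cen B := cen.2 fun b hb => by
  have n2 := mul_mem hs hs
  have e0 : ∀ x, s * s * x * (s * s)⁻¹ = s * (s * x * s⁻¹) * s⁻¹ := fun x => by group
  have e1 := c1'.1 (c1s.1 (h _ (mul_mem hb (cmem n2 hb))
    (SF.nrm_le el n2 (cen.1 h4) ⟨⟨b, hb⟩, rfl⟩).2))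
  have m1 := cmem hs hb
  have m2 := cmem hs m1
  have m3 := cmem hs m2
  have e2 : s * (s * b * s⁻¹) * s⁻¹ * (s * (s * (s * b * s⁻¹) * s⁻¹) * s⁻¹) = b * (s * b * s⁻¹) →
      s * b * s⁻¹ * (s * (s * b * s⁻¹) * s⁻¹) = b * (s * b * s⁻¹) := fun e => by
    rw [conj_mul]
    exact c1'.1 (c1s.1 (h _ (mul_mem hb m1) (c1s.1 (c1'.2 (Eq.trans (by group) e)))))
  rw [e0, ← conj_mul] at e1
  rw [← mul_inv_eq_iff_eq_mul, e0]
  generalize s * (s * (s * b * s⁻¹) * s⁻¹) * s⁻¹ = b3 at *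
  generalize s * (s * b * s⁻¹) * s⁻¹ = b2 at *
  generalize s * b * s⁻¹ = b1 at *
  have e3 := e2 (by
    calc _ = b2 * (b1 * b1) * b3 := by rw [el b1 m1, mul_one]
      _ = b2 * b1 * (b * b2) := by rw [← e1]; group
      _ = b2 * (b2 * (b * b1)) := by
        rw [mul_assoc, M4.el_comm el m1 (mul_mem hb m2), M4.el_comm el hb m2, mul_assoc]
      _ = _ := by rw [← mul_assoc, el b2 m2, one_mul])
  rw [M4.el_comm el hb m1] at e3
  exact mul_left_cancel e3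

theorem sq_all {C : Subgroup G} (hT : IsPGroup 2 T)
    (h : ∀ s ∈ T, s * s * (s * s) ∈ C → s * s ∈ C) (hs : s ∈ T) : s * s ∈ C := by
  obtain ⟨k, hk⟩ := exists_pow_pow_of_mem hT hs
  have : ∀ k, ∀ s ∈ T, s ^ 2 ^ k ∈ C → s * s ∈ C := fun k => by
    induction k with
    | zero => exact fun s _ e => mul_mem (by simpa using e) (by simpa using e)
    | succ k ih =>
      exact fun s hs e => h s hs (ih _ (mul_mem hs hs) (by rwa [← sq, ← pow_mul, ← pow_succ']))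
  exact this k s hs (hk ▸ one_mem _)

end tools

variable {G : Type u} [Group G] [Finite G] {A B E H K P R S T : Subgroup G} {a b s t v : G}

theorem Bad.nle (b : Bad H A K) : ¬ A ≤ Opp 2 H := fun e => b.bad (W.le_CM_of_com b.comp
  (lnor inf_le_right) ((commutator_mono le_rfl (inf_le_left.trans e)).trans
    (b.comp.commutator_le_of_isSolvable (SN.of_normal (Opp_le 2 H) (le_nor_Opp 2 H))
      (GW.solv_of_npc (npc_Opp H)))))

theorem Bad.conj (b : Bad (Cen1 v) A K) {m : G} (hm : m ∈ Nor A) :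
    Bad (Cen1 (m * v * m⁻¹)) A (conjS m K) := ⟨conj_c1 m v ▸ b.comp.conjS m, fun e => b.bad (by
  rwa [← W.conj_CM, ← mem_normalizer_iff_conjS.1 hm, ← conjS_inf, conjS_le_conjS_iff] at e)⟩

theorem BA.eq (b : BA R A K) (AR : A ≤ R) : R ⊓ K = A ⊓ K :=
  le_antisymm (le_inf b.le inf_le_right) (inf_le_inf_right K AR)

theorem BA.cenA (b : BA R A K) (s : SC H A) (hR : IsPGroup 2 R) (AR : A ≤ R) {x : G} (hx : x ∈ R)
    (c : x ∈ Cen (R ⊓ K : Subgroup G)) : x ∈ Cen A := by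
  obtain ⟨y, hy, e, he, rfl⟩ := b.dec x hx c
  refine mul_mem (cen.2 fun a ha => M4.el_comm s.el (b.le hy) ha) (cen.2 fun a ha => ?_)
  obtain ⟨y', hy', e', he', rfl⟩ := b.dec a (AR ha)
    (cen.2 fun z hz => M4.el_comm s.el ha (b.le hz))
  exact (Commute.mul_right (cen.1 (cen_of_CM hR le_rfl le_rfl hy') e he).symm
    (cen.1 (b.ab he) e' he')).eq

/-- the setting of TWO -/
structure TwC (S A : Subgroup G) : Prop extends Gl S A where
  irr : ∀ B ≤ A, Nor A ≤ Nor B → B = ⊥ ∨ B = A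
  na : ¬ A ≤ Cen S

namespace TwC

variable (c : TwC S A)
include c

theorem two : IsPGroup 2 A := M4.el_two c.sc.el

theorem sylN : IsSylowOf 2 S (Nor A) := c.syl.of_le c.nS le_top

theorem tw (hT : IsSylowOf 2 T (Nor A)) : TwC T A := by
  obtain ⟨m, hm, rfl⟩ := c.sylN.exists_conj hT
  have e := mem_normalizer_iff_conjS.1 hm
  exact ⟨⟨c.simple, c.nc, c.ai, c.syl.map_conj (le_normalizer (mem_top m)), c.sc,
    e.ge.trans (conjS_mono m c.le), c.ne, c.ih⟩, c.irr, fun k => c.na (by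
      rw [← conjS_le_conjS_iff m, e, conjS_centralizer]
      exact k)⟩

theorem nn : ¬ Nor A ≤ Nor (A ⊓ Cen S : Subgroup G) := fun e => by
  rcases c.irr _ inf_le_left e with k | k
  · obtain ⟨z, hz, z1, -, k'⟩ := H7.exists_fixed_order_p c.two c.syl.isPGroup c.nS c.ne
    exact z1 (W.eq1 k hz (cen.2 fun g hg => (k' g (mem_sup_right hg)).symm))
  · exact c.na (k.ge.trans inf_le_right)

theorem nsup' {g : G} (hg : g ∈ Nor A) (e : g ∈ Nor (S ⊔ Cen A : Subgroup G)) :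
    g ∈ Nor (A ⊓ Cen S : Subgroup G) := by
  rw [show A ⊓ Cen S = A ⊓ Cen (S ⊔ Cen A : Subgroup G) by
    rw [W.cen_sup, inf_comm (Cen S), ← inf_assoc, inf_eq_left.2 (le_cen_symm (le_refl (Cen A)))]]
  exact minf hg (mcen e)

theorem abD : S ⊓ Cen A ≤ Cen (S ⊓ Cen A : Subgroup G) := by
  by_contra na
  refine c.nn fun g hg => ?_
  obtain ⟨n, hn, e⟩ := (c.sylN.inf_of_le_normalizer (cnor le_rfl) (ncen c.nS)).frattini (mcen hg)
  have e1 := c.ai.nor c.syl inf_le_left na ⟨trivial, e⟩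
  exact mem_of_eq (mul_mem (mcnor (centralizer_anti inf_le_left hn))
    (minf (c.nnS e1) (mcen e1))) (by group)

theorem ba (hb : LCb.{u}) (h2 : BN2.{u}) (hf : FFThm.{u}) (ha : a ∈ A) (a1 : a ≠ 1)
    (hR : IsSylowOf 2 R (Cen1 a)) (AR : A ≤ R) (b : Bad (Cen1 a) A K) : BA R A K := by
  have x := c.ctx (c.c1_ne a1) hR AR
  refine lca G _ R A K x b (by_contra fun ab => ?_)
  have n := hb G _ R A K x b ab
  obtain ⟨T, hT, RT⟩ := exists_isSylowOf_ge hR.isPGroup (c.sc.nor hR.isPGroup le_top AR)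
  have c' := c.tw hT
  obtain ⟨e1, e2, e3⟩ := h2 G _ R A x n b.nle ((inf_le_inf_right _ RT).trans
    (c'.abD.trans (centralizer_anti (inf_le_inf_right _ RT))))
  have l : A ⊓ Opp 2 (Cen1 a) ≤ Cen R := (inf_le_inf_right _ AR).trans n.cen
  obtain ⟨a0, h0, n0⟩ := SetLike.not_le_iff_exists.1 b.nle
  obtain ⟨v0, hv, vA, -⟩ := e3 a0 h0 n0
  have k := hf G (Nor A) A T R (c.ai.mono le_top)
    (fun x hx => cen.2 fun y hy => M4.el_comm c.sc.el hx hy) c.two le_normalizer le_rfl hT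
    (fun e => c'.nn fun g hg => c'.nsup' hg (inf_eq_right.2 (cnor (le_refl (Cen A))) ▸ e hg)) RT
    ((le_inf (W.com_l (c.sc.nor hR.isPGroup le_top AR)) e1).trans l) (fun e => vA (e hv))
    (le_trans ((relIndex_le_of_le_left l FiniteIndex.index_ne_zero).trans
      (inf_relIndex_left A _).le) e2)
  refine vA (le_cen_symm (fun z hz => ?_) hv)
  by_cases z0 : z ∈ Opp 2 (Cen1 a)
  · exact l ⟨hz, z0⟩
  obtain ⟨v, hv, vA, e⟩ := e3 z hz z0
  have := cen.1 (n.cen ⟨mul_mem (mul_mem hv hv) (AR hz), e⟩) v hv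
  exact k v hv vA ⟨hz, c1.2 (mul_left_cancel (a := v * v) (by rw [← mul_assoc, this]; group))⟩

section quot

variable {X : Type*} [Group X] [Finite X] {f : Nor A →* X} (hf : Function.Surjective f)
  (hk : f.ker = (Cen A).subgroupOf (Nor A))
include hf hk

theorem ti {x : X} (hx : x ∈ im f S) (x1 : x ≠ 1) {U : Subgroup X} (hU : IsPGroup 2 U)
    (e : x ∈ U) : U ≤ im f S := by
  obtain ⟨y, hy, rfl⟩ := mem_im.1 hx
  refine c.ai.le_im c.syl le_top hf (P := A ⊔ zpowers (y : G)) (sup_le c.le (zpowers_le.2 hy))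
    (sup_le le_normalizer (zpowers_le.2 y.2)) (fun k => x1 ((map_eq_one_iff_of_ker hk).2
      (centralizer_anti le_sup_left (k (mem_sup_right (mem_zpowers _)))))) hU ?_
  rw [im_sup le_normalizer (zpowers_le.2 y.2), im_zpowers y.2, (im_eq_bot_iff hk le_normalizer).2
    fun x hx => cen.2 fun y hy => M4.el_comm c.sc.el hx hy, bot_sup_eq]
  exact zpowers_le.2 e

theorem nim {g : Nor A} (e : f g ∈ Nor (im f S)) : (g : G) ∈ Nor (A ⊓ Cen S : Subgroup G) :=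
  c.nsup' g.2 (pre_im hk (cnor le_rfl) c.nS ▸ pre_normalizer_le _ (coe_mem_pre.2 e))

end quot

theorem zc (ht : t ∈ S) (t2 : t * t ∈ Cen A) (hs : s ∈ S) : s * t * s⁻¹ * t⁻¹ ∈ Cen A := by
  obtain ⟨X, _, _, f, hf, hk⟩ := exists_hom_ker_eq (L := Nor A) (M := Cen A) (ncen le_rfl)
  obtain ⟨g, hg, gn⟩ := SetLike.not_le_iff_exists.1 c.nn
  have e := ti_cen (T := im f S) (t := f ⟨t, c.nS ht⟩) (g := f ⟨g, hg⟩) (fun T hT x hx x1 U hU e => by
    obtain ⟨T', h1, -, rfl⟩ := W.lift_syl hf hT (P := ⊥) IsPGroup.of_bot bot_le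
    exact (c.tw h1).ti hf hk hx x1 hU e) (im_self hf ▸ c.sylN.im le_rfl)
    (fun e => gn (c.nim hf hk e)) (mem_im_of_mem _ ht)
    (by rw [← map_mul]; exact (map_eq_one_iff_of_ker hk).2 t2) (mem_im_of_mem (c.nS hs) hs)
  refine (map_eq_one_iff_of_ker hk (x := ⟨s, c.nS hs⟩ * ⟨t, c.nS ht⟩ * ⟨s, c.nS hs⟩⁻¹ *
    ⟨t, c.nS ht⟩⁻¹)).1 ?_
  simp only [map_mul, map_inv, c1'.1 e, mul_inv_cancel]

theorem big (hi : Idx.{u}) (ht : t ∈ S) : ∃ s ∈ S, s ∉ Cen A ∧ t⁻¹ * s ∉ Cen A := by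
  by_cases e : t ∈ Cen A
  · obtain ⟨s, hs, s1⟩ := SetLike.not_le_iff_exists.1 fun k => c.na (le_cen_symm k)
    exact ⟨s, hs, s1, fun k => s1 ((mul_mem_cancel_left (inv_mem e)).1 k)⟩
  by_contra! k
  exact hi G S A c.toGl (relIndex_eq_two_iff_exists_notMem_and'.2 ⟨t⁻¹, inv_mem ht,
    by simpa using e, fun b hb => or_iff_not_imp_right.2 (k b hb)⟩)

/-- no Sylow subgroup normalizes a component of abelian type -/
theorem lemN (hi : Idx.{u}) (hK : PCompIn 2 H K) (hS : IsSylowOf 2 S H) (b : BA S A K)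
    (hn : S ≤ Nor K) : False := by
  have hQ := IsSylowOf.inf_of_sn hS hK.sn
  have el : ∀ x ∈ S ⊓ K, x * x = 1 := fun x hx => c.sc.el x (b.le hx)
  have f1 := fun x hx => b.cenA c.sc c.syl.isPGroup c.le (x := x) hx
  have nQ : S ≤ Nor (S ⊓ K : Subgroup G) := ninf le_normalizer hn
  obtain ⟨c0, h0, c1', -, k0⟩ := H7.exists_fixed_order_p hQ.isPGroup c.syl.isPGroup nQ fun e => by
    have := b.four
    rw [e, card_bot] at this
    omega
  have l0 : S ≤ Cen1 c0 := fun g hg => c1.2 (k0 g (mem_sup_right hg))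
  have n1 : ∀ u ∈ S, u ∉ Cen A → ∀ x ∈ S ⊓ K, x ∈ Cen1 u → S ≤ Cen1 x := fun u hu u1 x hx xu => by
    by_cases x1 : x = 1
    · exact fun g _ => c1.2 (by simp [x1])
    obtain ⟨y, hy, -, -, e⟩ := b.tr c0 h0 x hx c1' x1
    have l : S ⊓ K ⊔ zpowers u ≤ S := sup_le inf_le_left (zpowers_le.2 hu)
    obtain ⟨w, -, hw, e1⟩ := burn (syl_sup_of hQ (zpowers_le.2 (hn hu)) (c.syl.isPGroup.to_le l))
      (l.trans l0) (sup_le (M4.el_c1 el hx) (zpowers_le.2 (c1s.1 xu))) (mem_sup_left hy) e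
    have e2 := c.ai.nor c.syl l (fun k => u1 (f1 u hu
      (centralizer_anti le_sup_left (k (mem_sup_right (mem_zpowers u)))))) ⟨trivial, hw⟩
    rw [← e1, ← conj_c1, ← mem_normalizer_iff_conjS.1 e2]
    exact conjS_mono w l0
  have sq : ∀ s ∈ S, s * s ∈ Cen A := fun s hs => sq_all c.syl.isPGroup (fun s hs e =>
    by_contra fun k => k (f1 _ (mul_mem hs hs) (sq_cen el (nQ hs) (centralizer_anti b.le e)
      fun x hx e => c1s.1 (n1 _ (mul_mem hs hs) k x hx e hs)))) hs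
  obtain ⟨X, _, _, f, hf, hk⟩ := exists_hom_ker_eq (L := Nor A) (M := Cen A) (ncen le_rfl)
  obtain ⟨u, hu, u1, -⟩ := c.big hi (one_mem S)
  obtain ⟨v, hv, v1, w1⟩ := c.big hi hu
  have ss : ∀ x ∈ im f S, x * x = 1 := by
    rintro _ ⟨x, hx, rfl⟩
    rw [← map_mul]
    exact (map_eq_one_iff_of_ker hk).2 (sq x hx)
  have mu := mem_im_of_mem (f := f) (c.nS hu) hu
  have mv := mem_im_of_mem (f := f) (c.nS hv) hv
  have F : F4 (f ⟨u, c.nS hu⟩) (f ⟨v, c.nS hv⟩) :=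
    ⟨W.o2 (ss _ mu) fun e => u1 ((map_eq_one_iff_of_ker hk).1 e),
      W.o2 (ss _ mv) fun e => v1 ((map_eq_one_iff_of_ker hk).1 e), M4.el_comm ss mu mv,
      fun e => w1 ((map_eq_one_iff_of_ker hk (x := ⟨u, c.nS hu⟩⁻¹ * ⟨v, c.nS hv⟩)).1
        (by rw [map_mul, map_inv, e, inv_mul_cancel]))⟩
  have nY : im f S ≤ Nor (im f (K ⊓ Nor A)) := im_le_normalizer (ninf hn (lnor c.nS))
  have k : ∀ x ∈ im f S, x ≠ 1 → im f (K ⊓ Nor A) ⊓ Cen1 x ≤ Nor (im f S) := fun x hx x1 y hy =>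
    mnor fun z hz => c.ti hf hk hx x1 ((isPGroup_im c.syl.isPGroup).map _)
      (GW.c1'.1 hy.2 ▸ conj_mem_conjS hx) (conj_mem_conjS hz)
  have e := F.gen (nY mu) (nY mv) (W.odd_of_syl ((hQ.of_le (le_inf inf_le_right
    (inf_le_left.trans c.nS)) inf_le_left).im inf_le_right) ((im_eq_bot_iff hk
      (inf_le_left.trans c.nS)).2 fun x hx => cen.2 fun y hy => M4.el_comm c.sc.el (b.le hx) hy))
    (k _ mu (ine F.ht)) (k _ mv (ine F.ha)) (k _ (mul_mem mu mv) (ine F.hta))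
  refine u1 (f1 u hu (cen.2 fun x hx => ?_))
  by_cases x1 : x = 1
  · simp [x1]
  obtain ⟨y, hy, y1, y2, rfl⟩ := b.tr c0 h0 x hx c1' x1
  have yA : y ∈ Nor A := mnor fun a ha => by
    obtain ⟨p, hp, q, hq, rfl⟩ := b.dec a (c.le ha)
      (cen.2 fun z hz => M4.el_comm c.sc.el ha (b.le hz))
    rw [← conj_mul, cen.1 y2 q hq, mul_inv_cancel_right]
    exact mul_mem (b.le (cmem y1 hp)) ((mul_mem_cancel_left (b.le hp)).1 ha)
  exact (cen.1 (cmem (c.nim hf hk (g := ⟨y, yA⟩) (e (mem_im_of_mem yA ⟨hy, yA⟩)))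
    ⟨b.le h0, cen_iff_le.2 l0⟩).2 u hu).symm

end TwC

/-- a decomposition `A = B × E` coming from bad components of all `C(v)`, `v ∈ E#` -/
def Pair (A B E : Subgroup G) : Prop :=
  E ≠ ⊥ ∧ ∀ v ∈ E, v ≠ 1 → v ∈ A ∧ ∃ K, Bad (Cen1 v) A K ∧ A ⊓ K = B ∧ A ⊓ CM K = E

namespace TwC

variable (c : TwC S A) (hb : LCb.{u}) (h2 : BN2.{u}) (hf : FFThm.{u})
include c hb h2 hf

theorem exR (hv : v ∈ A) (v1 : v ≠ 1) (b : Bad (Cen1 v) A K) (hP : IsPGroup 2 P) (h1 : P ≤ Cen1 v)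
    (hn : P ≤ Nor A) : ∃ R, IsSylowOf 2 R (Cen1 v) ∧ A ≤ R ∧ P ≤ R ∧ BA R A K := by
  obtain ⟨R, hR, e⟩ := exists_isSylowOf_ge (IsPGroup.to_sup_of_normal_left' c.two hP hn)
    (sup_le (M4.el_c1 c.sc.el hv) h1)
  exact ⟨R, hR, le_sup_left.trans e, le_sup_right.trans e,
    c.ba hb h2 hf hv v1 hR (le_sup_left.trans e) b⟩

theorem pr (hv : v ∈ A) (v1 : v ≠ 1) (b : Bad (Cen1 v) A K) :
    A ⊓ K ⊔ A ⊓ CM K = A ∧ A ⊓ K ⊓ (A ⊓ CM K) = ⊥ ∧ A ⊓ K ≠ ⊥ := by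
  obtain ⟨R, hR, AR, -, a⟩ := c.exR hb h2 hf hv v1 b IsPGroup.of_bot bot_le bot_le
  refine ⟨le_antisymm (sup_le inf_le_left inf_le_left) fun x hx => ?_, eq_bot_iff.2
    ((inf_le_inf (a.eq AR).ge inf_le_right).trans a.inf.le), fun e => b.bad (e.le.trans bot_le)⟩
  obtain ⟨p, hp, q, hq, rfl⟩ := a.dec x (AR hx)
    (cen.2 fun z hz => M4.el_comm c.sc.el hx (a.le hz))
  exact mul_mem_sup ⟨a.le hp, hp.2⟩ ⟨(mul_mem_cancel_left (a.le hp)).1 hx, hq.2⟩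

theorem exPair (ha : a ∈ A) (a1 : a ≠ 1) (b : Bad (Cen1 a) A K) : ∃ B E, Pair A B E := by
  obtain ⟨⟨a, K⟩, ⟨ha, a1, b⟩, mx⟩ := Set.exists_max_image
    {x : G × Subgroup G | x.1 ∈ A ∧ x.1 ≠ 1 ∧ Bad (Cen1 x.1) A x.2}
    (fun x => Nat.card (A ⊓ x.2 : Subgroup G)) (Set.toFinite _) ⟨(a, K), ha, a1, b⟩
  dsimp only at ha a1 b mx
  have aK : a ∈ CM K := W.cen_le_CM K (cen_iff_le.2 b.comp.le)
  refine ⟨A ⊓ K, A ⊓ CM K, fun e => a1 (W.eq1 e ha aK), fun v hv v1 => ⟨hv.1, ?_⟩⟩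
  have hP := c.two.to_le (zpowers_le.2 hv.1)
  have hn := zpowers_le.2 (W.CM_le_nor K hv.2)
  have e1 := b.comp.pGenIn_inf_centralizer hP hn (W.com_CM (zpowers_le.2 hv.2))
  have e2 := (b.comp.pqs.pGenIn_inf_centralizer hP hn (W.com_CM (zpowers_le.2 hv.2))).2
  rw [H4.centralizer_zpowers] at e1 e2
  rw [inf_comm] at e1
  have e3 : A ⊓ K ≤ W.Kb K v := le_pGenIn (le_inf inf_le_right
    (inf_le_left.trans (M4.el_c1 c.sc.el hv.1))) c.two.to_inf_left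
  have tr : ∀ K' Z, W.Kb K v ≤ K' → Z ≤ A → Z ≤ CM K' → Z ≤ CM K := fun K' Z h0 h1 h2 =>
    W.cover ((W.Kb_le K v).trans inf_le_left) e2 (h1.trans (nor_comp (c.sc.mono
      (M4.el_c1 c.sc.el ha) le_top) b.comp))
      (odd_of_le ((commutator_mono h0 le_rfl).trans (W.com_CM h2)) (odd_Oo K'))
  obtain ⟨K', hK', e4⟩ := pump0 (c.sc.mono (M4.el_c1 c.sc.el hv.1) le_top) ha e1
  have l : A ⊓ K ≤ A ⊓ K' := le_inf inf_le_left (e3.trans e4)
  have b' : Bad (Cen1 v) A K' := ⟨hK', fun e => b.bad (tr K' _ e4 inf_le_left (l.trans e))⟩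
  have e5 := (Subgroup.eq_of_le_of_card_ge l (mx (v, K') ⟨hv.1, v1, b'⟩)).symm
  have l' : A ⊓ CM K' ≤ A ⊓ CM K := le_inf inf_le_left (tr K' _ e4 inf_le_left inf_le_right)
  refine ⟨K', b', e5, le_antisymm l' fun x hx => ?_⟩
  obtain ⟨p, hp, q, hq, rfl⟩ := (mem_sup_left_iff (K := A ⊓ K') (A := A ⊓ CM K')
    (cnor fun x hx => cen.2 fun y hy => M4.el_comm c.sc.el hx.1 hy.1)).1 ((c.pr hb h2 hf hv.1 v1 b').1.ge hx.1)
  rwa [W.eq1 (c.pr hb h2 hf ha a1 b).2.1 (e5 ▸ hp) ((mul_mem_cancel_right (l' hq)).1 hx), one_mul]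

theorem ab (hi : Idx.{u}) : Ab A (Pair A) := by
  have ex : ∀ {B E}, Pair A B E → ∃ v ∈ E, v ≠ 1 ∧ v ∈ A ∧
      ∃ K, Bad (Cen1 v) A K ∧ A ⊓ K = B ∧ A ⊓ CM K = E := fun p => by
    obtain ⟨v, hv, v1⟩ := exists_ne_one_of_ne_bot p.1
    exact ⟨v, hv, v1, p.2 v hv v1⟩
  have cj : ∀ {m K}, m ∈ Nor A → A ⊓ conjS m K = conjS m (A ⊓ K) := fun hm => by
    rw [conjS_inf, mem_normalizer_iff_conjS.1 hm]
  refine ⟨c.sc.el, c.irr, fun T hT t ht t2 s hs => (c.tw hT).zc ht t2 hs,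
    fun T hT t ht => (c.tw hT).big hi ht, fun p => ?_, fun p => ?_, fun p => ?_, fun p => p.1,
    fun {B E m} p hm => ⟨fun e => p.1 ?_, fun v hv v1 => ?_⟩, fun p p' e => ?_,
    fun p x hx y hy x1 y1 => ?_, fun {B E t} p i e => ?_, fun {B E T} p hT e => ?_⟩
  · obtain ⟨v, -, v1, hv, K, b, rfl, rfl⟩ := ex p
    exact (c.pr hb h2 hf hv v1 b).1
  · obtain ⟨v, -, v1, hv, K, b, rfl, rfl⟩ := ex p
    exact (c.pr hb h2 hf hv v1 b).2.1
  · obtain ⟨v, -, v1, hv, K, b, rfl, rfl⟩ := ex p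
    exact (c.pr hb h2 hf hv v1 b).2.2
  · rw [← conjS_inv_conjS m E, e, conjS, Subgroup.map_bot]
  · obtain ⟨w, hw, rfl⟩ := hv
    obtain ⟨wA, K, b, rfl, rfl⟩ := p.2 w hw fun e => v1 (by simp [e])
    exact ⟨cmem hm wA, _, b.conj hm, cj hm, by rw [← W.conj_CM, cj hm]⟩
  · obtain ⟨v, hv, v1⟩ := exists_ne_one_of_ne_bot e
    obtain ⟨-, K, b, rfl, rfl⟩ := p.2 v hv.1 v1
    obtain ⟨-, K', b', rfl, rfl⟩ := p'.2 v hv.2 v1
    by_cases k : K = K'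
    · exact Or.inl (k ▸ ⟨rfl, rfl⟩)
    · exact Or.inr ⟨inf_le_inf_left A (W.le_CM_of_ne b.comp b'.comp k),
        inf_le_inf_left A (W.le_CM_of_ne b'.comp b.comp (Ne.symm k))⟩
  · obtain ⟨v, -, v1, hv, K, b, rfl, rfl⟩ := ex p
    obtain ⟨R, hR, AR, -, a⟩ := c.exR hb h2 hf hv v1 b IsPGroup.of_bot bot_le bot_le
    obtain ⟨g, -, g1, g2, g3⟩ := a.tr x ((a.eq AR).ge hx) y ((a.eq AR).ge hy) x1 y1
    have g4 := centralizer_anti (inf_le_inf_right _ AR) g2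
    exact ⟨g, (c.pr hb h2 hf hv v1 b).1 ▸ msup (a.eq AR ▸ g1) (mcnor g4), g4, g3⟩
  · obtain ⟨v, hv, v1⟩ := exists_ne_one_of_ne_bot e
    obtain ⟨vA, K, b, rfl, rfl⟩ := p.2 v hv.1 v1
    obtain ⟨R, hR, AR, tR, a⟩ := c.exR hb h2 hf vA v1 b i.two.isPGroup_zpowers
      (zpowers_le.2 (c1s.1 hv.2)) (zpowers_le.2 i.nor)
    have ht := tR (mem_zpowers t)
    have t2 := centralizer_anti a.le i.sq
    by_cases n : t ∈ Nor K
    · exact centralizer_anti (inf_le_left.trans (inf_le_inf_right _ AR)) (a.two t ht n t2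
        fun k => i.ne (a.cenA c.sc hR.isPGroup AR ht k))
    · refine centralizer_anti (inf_le_inf (inf_le_inf_right _ AR) ?_) (a.swap t ht n t2)
      rw [← W.conj_CM]
      exact conjS_mono t inf_le_right
  · have c' := c.tw hT
    obtain ⟨v, -, -, -, K, -, -, e0⟩ := ex p
    obtain ⟨v, hv, v1, -, k⟩ := H7.exists_fixed_order_p (c.two.to_le (e0 ▸ inf_le_left))
      hT.isPGroup e p.1
    obtain ⟨vA, K, b, rfl, rfl⟩ := p.2 v hv v1
    have hT' := c'.syl.of_le (fun g hg => c1.2 (k g (mem_sup_right hg))) (le_top (a := Cen1 v))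
    refine c'.lemN hi b.comp hT' (c.ba hb h2 hf vA v1 hT' c'.le b) fun u hu => by_contra fun n => ?_
    have := inf_le_inf_left A (W.le_CM_of_ne b.comp (b.comp.conjS_of_mem (hT'.le hu))
      fun k => n (mem_normalizer_iff_conjS.2 k.symm))
    rw [cj (hT.le hu), ← mem_normalizer_iff_conjS.1 (e hu), conjS_le_conjS_iff] at this
    exact b.bad (this.trans inf_le_right)

end TwC

/-- TWO -/
theorem twoThm (hb : LCb.{u}) (h2 : BN2.{u}) (hf : FFThm.{u}) (hi : Idx.{u}) : TwoThm.{u} :=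
  fun G _ _ S A c irr na a ha a1 => by_contra fun e => by
    have c' : TwC S A := ⟨c, irr, na⟩
    obtain ⟨K, b⟩ := exists_bad (c.sc.mono (M4.el_c1 c.sc.el ha) le_top) e
    obtain ⟨B, E, p⟩ := c'.exPair hb h2 hf ha a1 b
    exact (c'.ab hb h2 hf hi).no p

end AI
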